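import Mathlib
import Cfsg.Agent.S0256
import Cfsg.Agent.Lib.Helper5.OrbitHom

/-!
Automorphism groups of elementary abelian 2-groups of order at most 16 embed in `A₈` (helper50),
via `GL₄(2) ≅ A₈`.
-/

set_option autoImplicit false

namespace Cfsg.Agent.Lib.Helper50

/-- A group of exponent two is commutative. -/
@[reducible] def ea_commGroup (V : Type*) [Group V] (h : ∀ v : V, v * v = 1) : CommGroup V :=
  { (inferInstance : Group V) with
    mul_comm := fun a b => by
      have h1 := h (a * b)
      have ha := h a
      have hb := h b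
      calc a * b = (a * b)⁻¹ := (inv_eq_of_mul_eq_one_right h1).symm
        _ = b⁻¹ * a⁻¹ := mul_inv_rev a b
        _ = b * a := by rw [inv_eq_of_mul_eq_one_right ha, inv_eq_of_mul_eq_one_right hb] }

/-- `GL₄(2) → SL₄(2)`. -/
noncomputable def ea_glToSl : Matrix.GeneralLinearGroup (Fin 4) (ZMod 2) →*
    Matrix.SpecialLinearGroup (Fin 4) (ZMod 2) where
  toFun g := ⟨(g : Matrix (Fin 4) (Fin 4) (ZMod 2)), by
    have h1 : ∀ a : (ZMod 2)ˣ, (a : ZMod 2) = 1 := by decide
    have h2 := h1 (Matrix.GeneralLinearGroup.det g)
    rw [Matrix.GeneralLinearGroup.val_det_apply] at h2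
    exact h2⟩
  map_one' := Subtype.ext rfl
  map_mul' _ _ := Subtype.ext rfl

theorem ea_glToSl_injective : Function.Injective ea_glToSl := by
  intro g h hgh
  apply Units.ext
  exact congrArg Subtype.val hgh

theorem ea_mulAut_embeds {V : Type*} [Group V] [Finite V] (hexp : ∀ v : V, v * v = 1)
    (hcard : Nat.card V ≤ 16) :
    ∃ Ψ : MulAut V →* ↥(alternatingGroup (Fin 8)), Function.Injective Ψ := by
  letI : CommGroup V := ea_commGroup V hexp
  letI : Module (ZMod 2) (Additive V) := AddCommGroup.zmodModule (n := 2) (by
    intro v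
    rw [two_nsmul]
    exact congrArg Additive.ofMul (hexp (Additive.toMul v)))
  let L : MulAut V →* Module.End (ZMod 2) (Additive V) :=
    { toFun := fun α => AddMonoidHom.toZModLinearMap 2 (MonoidHom.toAdditive α.toMonoidHom)
      map_one' := by apply LinearMap.ext; intro v; rfl
      map_mul' := fun α β => by apply LinearMap.ext; intro v; rfl }
  have hLinj : Function.Injective L := by
    intro α β h
    apply MulEquiv.ext
    intro v
    have h1 := LinearMap.congr_fun h (Additive.ofMul v)
    exact h1
  have hfin : Module.Finite (ZMod 2) (Additive V) := Module.Finite.of_finite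
  have hcardW : Nat.card (Additive V) = 2 ^ Module.finrank (ZMod 2) (Additive V) := by
    rw [Module.natCard_eq_pow_finrank (K := ZMod 2), Nat.card_zmod]
  obtain ⟨d, hdef⟩ : ∃ d, d = Module.finrank (ZMod 2) (Additive V) := ⟨_, rfl⟩
  have hd : d ≤ 4 := by
    have h1 : Nat.card (Additive V) = Nat.card V := rfl
    have h2 : 2 ^ d ≤ 2 ^ 4 := by rw [hdef, ← hcardW, h1]; exact hcard
    exact (Nat.pow_le_pow_iff_right (by norm_num)).mp h2
  have hU : Module.finrank (ZMod 2) (Additive V × (Fin (4 - d) → ZMod 2)) = 4 := by
    rw [Module.finrank_prod, Module.finrank_fin_fun, ← hdef]; omega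
  let b := Module.finBasisOfFinrankEq (R := ZMod 2) (M := Additive V × (Fin (4 - d) → ZMod 2)) hU
  let T : MulAut V →* Module.End (ZMod 2) (Additive V × (Fin (4 - d) → ZMod 2)) :=
    { toFun := fun α => LinearMap.prodMap (L α) LinearMap.id
      map_one' := by
        apply LinearMap.ext
        intro u
        apply Prod.ext
        · show (L 1) u.1 = u.1
          rw [map_one]; rfl
        · rfl
      map_mul' := fun α β => by
        apply LinearMap.ext
        intro u
        apply Prod.ext
        · show (L (α * β)) u.1 = (L α) ((L β) u.1)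
          rw [map_mul]; rfl
        · rfl }
  have hTinj : Function.Injective T := by
    intro α β h
    apply hLinj
    apply LinearMap.ext
    intro w
    have h1 := LinearMap.congr_fun h (w, 0)
    exact congrArg Prod.fst h1
  have hTuinj : Function.Injective T.toHomUnits := by
    intro α β h
    apply hTinj
    have h1 := congrArg Units.val h
    rw [MonoidHom.coe_toHomUnits, MonoidHom.coe_toHomUnits] at h1
    exact h1
  let A := LinearMap.toMatrixAlgEquiv b
  have hAinj : Function.Injective (Units.map (A.toRingEquiv.toMonoidHom)) :=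
    Units.map_injective A.toRingEquiv.injective
  obtain ⟨e1⟩ := Cfsg.Agent.Lib.Helper5.nonempty_psl_mulEquiv_sl_zmod_two (n := Fin 4)
    (K := ZMod 2) (by rw [ZMod.card])
  obtain ⟨e2⟩ := Cfsg.Agent.S0256.result (F := ZMod 2) (by rw [ZMod.card])
  refine ⟨(e1.symm.trans e2).toMonoidHom.comp
    (ea_glToSl.comp ((Units.map (A.toRingEquiv.toMonoidHom)).comp T.toHomUnits)), ?_⟩
  intro α β h
  apply hTuinj
  apply hAinj
  apply ea_glToSl_injective
  exact (e1.symm.trans e2).injective h

end Cfsg.Agent.Lib.Helper50
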