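import Mathlib
import Cfsg.Prelude.Def_CaseTheorems
import Cfsg.Agent.S0029
import Cfsg.Agent.Lib.Helper1.BurnsideBasis
import Cfsg.Agent.Lib.Helper50.ElemAbA8

/-!
The action of a group on the Frattini quotient of a normal `p`-subgroup containing its own
centralizer (helper50), and the embedding of `X / O₂(X)` in `A₈` when the Frattini quotient has
order at most 16.
-/

set_option autoImplicit false

namespace Cfsg.Agent.Lib.Helper50

open scoped commutatorElement

/-- A group of exponent two is commutative (elementwise form). -/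
theorem fr_mul_comm {G : Type*} [Group G] (h : ∀ g : G, g * g = 1) (a b : G) : a * b = b * a := by
  have h1 := h (a * b)
  have ha := h a
  have hb := h b
  calc a * b = (a * b)⁻¹ := (inv_eq_of_mul_eq_one_right h1).symm
    _ = b⁻¹ * a⁻¹ := mul_inv_rev a b
    _ = b * a := by rw [inv_eq_of_mul_eq_one_right ha, inv_eq_of_mul_eq_one_right hb]

/-- Automorphisms act on the quotient by a characteristic subgroup. -/
noncomputable def fr_autQuot {G : Type*} [Group G] (N : Subgroup G) [N.Characteristic] :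
    MulAut G →* MulAut (G ⧸ N) where
  toFun e := QuotientGroup.congr N N e (Subgroup.characteristic_iff_map_eq.mp inferInstance e)
  map_one' := by
    apply MulEquiv.ext
    intro v
    induction v using QuotientGroup.induction_on with
    | H q => rfl
  map_mul' := fun e f => by
    apply MulEquiv.ext
    intro v
    induction v using QuotientGroup.induction_on with
    | H q => rfl

theorem fr_autQuot_mk {G : Type*} [Group G] (N : Subgroup G) [N.Characteristic] (e : MulAut G)
    (g : G) : fr_autQuot N e (QuotientGroup.mk g) = QuotientGroup.mk (e g) := rfl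

/-- The kernel of the action on the Frattini quotient, elementwise. -/
theorem fr_mem_ker_iff {X : Type*} [Group X] (Q : Subgroup X) [Q.Normal] (x : X) :
    (fr_autQuot (frattini ↥Q)).comp (MulAut.conjNormal (H := Q)) x = 1 ↔
      ∀ k ∈ Q, x * k * x⁻¹ * k⁻¹ ∈ (frattini ↥Q).map Q.subtype := by
  constructor
  · intro hx k hk
    have h1 : (fr_autQuot (frattini ↥Q)) (MulAut.conjNormal (H := Q) x)
        (QuotientGroup.mk (⟨k, hk⟩ : ↥Q)) = QuotientGroup.mk (⟨k, hk⟩ : ↥Q) := by
      have h2 : (fr_autQuot (frattini ↥Q)) (MulAut.conjNormal (H := Q) x) = 1 := hx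
      rw [h2]; rfl
    rw [fr_autQuot_mk, QuotientGroup.eq_iff_div_mem] at h1
    have h3 := Subgroup.mem_map_of_mem Q.subtype h1
    have h4 : Q.subtype ((MulAut.conjNormal (H := Q) x) (⟨k, hk⟩ : ↥Q) / (⟨k, hk⟩ : ↥Q))
        = x * k * x⁻¹ * k⁻¹ := by
      rw [div_eq_mul_inv]; rfl
    rw [h4] at h3
    exact h3
  · intro h
    show (fr_autQuot (frattini ↥Q)) (MulAut.conjNormal (H := Q) x) = 1
    apply MulEquiv.ext
    intro v
    induction v using QuotientGroup.induction_on with
    | H q =>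
      show (fr_autQuot (frattini ↥Q)) (MulAut.conjNormal (H := Q) x) (QuotientGroup.mk q)
        = QuotientGroup.mk q
      rw [fr_autQuot_mk, QuotientGroup.eq_iff_div_mem]
      obtain ⟨y, hy, hyeq⟩ := h q.1 q.2
      have h5 : y = (MulAut.conjNormal (H := Q) x) q / q := by
        apply Subtype.ext
        rw [div_eq_mul_inv]
        exact hyeq
      rw [← h5]
      exact hy

/-- If `Q` is a normal `p`-subgroup containing its centralizer, the kernel of the action on the
Frattini quotient of `Q` is a `p`-group. -/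
theorem fr_ker_isPGroup {X : Type*} [Group X] [Finite X] {p : ℕ} [Fact p.Prime] (Q : Subgroup X)
    [Q.Normal] (hQ : IsPGroup p Q) (hcent : Subgroup.centralizer (Q : Set X) ≤ Q) :
    IsPGroup p ((fr_autQuot (frattini ↥Q)).comp (MulAut.conjNormal (H := Q))).ker := by
  have hp : p.Prime := Fact.out
  rintro ⟨c, hc⟩
  obtain ⟨a, m, hm, hnm⟩ := Nat.exists_eq_pow_mul_and_not_dvd (orderOf_pos c).ne' p hp.ne_one
  set c' := c ^ p ^ a with hc'
  have hc'C : c' ∈ ((fr_autQuot (frattini ↥Q)).comp (MulAut.conjNormal (H := Q))).ker :=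
    Subgroup.pow_mem _ hc _
  have hc'm : c' ^ m = 1 := by
    rw [hc', ← pow_mul, ← hnm]; exact pow_orderOf_eq_one c
  have hmcop : m.Coprime p := Nat.coprime_comm.1 ((Nat.Prime.coprime_iff_not_dvd hp).2 hm)
  have hAR : Subgroup.zpowers c' ≤ Subgroup.normalizer (Q : Set X) := by
    rw [Subgroup.normalizer_eq_top]; exact le_top
  have hcop : (Nat.card (Subgroup.zpowers c')).Coprime (Nat.card (frattini ↥Q)) := by
    obtain ⟨j, hj⟩ := (IsPGroup.iff_card).1 (hQ.to_subgroup (frattini ↥Q))
    rw [hj, Nat.card_zpowers]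
    exact Nat.Coprime.pow_right j
      (Nat.Coprime.coprime_dvd_left (orderOf_dvd_of_pow_eq_one hc'm) hmcop)
  have htriv : ∀ x ∈ Subgroup.zpowers c', ∀ k ∈ Q,
      x * k * x⁻¹ * k⁻¹ ∈ (frattini ↥Q).map Q.subtype := by
    intro x hx k hk
    have hxC : x ∈ ((fr_autQuot (frattini ↥Q)).comp (MulAut.conjNormal (H := Q))).ker :=
      (Subgroup.zpowers_le.2 hc'C) hx
    exact (fr_mem_ker_iff Q x).1 (MonoidHom.mem_ker.1 hxC) k hk
  have hcent' := Cfsg.Agent.S0029.result (Subgroup.zpowers c') Q hAR hcop htriv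
  have hc'R : c' ∈ Q := hcent (hcent' (Subgroup.mem_zpowers c'))
  obtain ⟨j, hj⟩ := hQ ⟨c', hc'R⟩
  have hj' : c' ^ p ^ j = 1 := congrArg Subtype.val hj
  have h1 : orderOf c' ∣ p ^ j := orderOf_dvd_of_pow_eq_one hj'
  have h2 : orderOf c' ∣ m := orderOf_dvd_of_pow_eq_one hc'm
  have h3 : orderOf c' = 1 :=
    Nat.Coprime.eq_one_of_dvd (Nat.Coprime.coprime_dvd_left h2 (Nat.Coprime.pow_right j hmcop)) h1
  refine ⟨a, Subtype.ext ?_⟩
  exact orderOf_eq_one_iff.1 h3

/-- `X / Q` embeds in `A₈` when `Q` is the largest normal `2`-subgroup, contains its centralizer,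
and has Frattini quotient of order at most 16. -/
theorem fr_embeds {X : Type*} [Group X] [Finite X] (Q : Subgroup X) [Q.Normal]
    (hQ : IsPGroup 2 Q) (hcent : Subgroup.centralizer (Q : Set X) ≤ Q)
    (hmax : ∀ N : Subgroup X, N.Normal → IsPGroup 2 N → N ≤ Q)
    (hcard : Nat.card (↥Q ⧸ frattini ↥Q) ≤ 16) :
    ∃ f : X ⧸ Q →* ↥(alternatingGroup (Fin 8)), Function.Injective f := by
  haveI : Fact (Nat.Prime 2) := ⟨Nat.prime_two⟩
  set θ := (fr_autQuot (frattini ↥Q)).comp (MulAut.conjNormal (H := Q)) with hθ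
  have hexp : ∀ v : ↥Q ⧸ frattini ↥Q, v * v = 1 := by
    intro v
    induction v using QuotientGroup.induction_on with
    | H q =>
      rw [← QuotientGroup.mk_mul, QuotientGroup.eq_one_iff, ← pow_two]
      exact Cfsg.Agent.Lib.Helper1.pow_mem_frattini_of_pGroup 2 hQ q
  obtain ⟨Ψ, hΨ⟩ := ea_mulAut_embeds hexp hcard
  have hker : ∀ x : X, θ x = 1 ↔ x ∈ Q := by
    intro x
    constructor
    · intro hx
      exact hmax θ.ker (MonoidHom.normal_ker θ) (fr_ker_isPGroup Q hQ hcent)
        (MonoidHom.mem_ker.2 hx)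
    · intro hx
      rw [hθ, fr_mem_ker_iff]
      intro k hk
      have h1 : ⁅(⟨x, hx⟩ : ↥Q), ⟨k, hk⟩⁆ ∈ commutator ↥Q :=
        Subgroup.commutator_mem_commutator (Subgroup.mem_top _) (Subgroup.mem_top _)
      have h2 := Cfsg.Agent.Lib.Helper1.commutator_le_frattini_of_pGroup 2 hQ h1
      have h3 := Subgroup.mem_map_of_mem Q.subtype h2
      exact h3
  refine ⟨QuotientGroup.lift Q (Ψ.comp θ) (fun x hx => ?_), ?_⟩
  · show Ψ (θ x) = 1
    rw [(hker x).2 hx, map_one]
  · rw [injective_iff_map_eq_one]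
    intro v hv
    induction v using QuotientGroup.induction_on with
    | H x =>
      have h1 : Ψ (θ x) = 1 := hv
      have h2 : θ x = 1 := hΨ (h1.trans (map_one Ψ).symm)
      exact (QuotientGroup.eq_one_iff x).2 ((hker x).1 h2)

/-- In a `2`-group of sectional rank at most `k`, the Frattini quotient has order at most `2^k`. -/
theorem fr_card_frattini_quot_le {Q : Type*} [Group Q] [Finite Q] (hQ : IsPGroup 2 Q) (k : ℕ)
    (h : Cfsg.SectionalPRankLE 2 k Q) : Nat.card (Q ⧸ frattini Q) ≤ 2 ^ k := by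
  haveI : Fact (Nat.Prime 2) := ⟨Nat.prime_two⟩
  have h1 := h ⊤ ((frattini Q).subgroupOf ⊤)
  have hexp : ∀ v : ↥(⊤ : Subgroup Q) ⧸ (frattini Q).subgroupOf ⊤, v * v = 1 := by
    intro v
    induction v using QuotientGroup.induction_on with
    | H q =>
      rw [← QuotientGroup.mk_mul, QuotientGroup.eq_one_iff, ← pow_two, Subgroup.mem_subgroupOf]
      exact Cfsg.Agent.Lib.Helper1.pow_mem_frattini_of_pGroup 2 hQ q.1
  have h2 := h1 ⊤ ⟨⟨fun a b => Subtype.ext (fr_mul_comm hexp a.1 b.1)⟩⟩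
    (fun a _ => by rw [pow_two]; exact hexp a)
  have h3 : Nat.card ↥(⊤ : Subgroup (↥(⊤ : Subgroup Q) ⧸ (frattini Q).subgroupOf ⊤))
      = Nat.card (Q ⧸ frattini Q) := by
    rw [Subgroup.card_top]
    have h4 : Nat.card (↥(⊤ : Subgroup Q) ⧸ (frattini Q).subgroupOf ⊤)
        = (frattini Q).relIndex ⊤ := rfl
    rw [h4, Subgroup.relIndex_top_right]; rfl
  rw [← h3]; exact h2

end Cfsg.Agent.Lib.Helper50
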