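import Mathlib
import Cfsg.Prelude.Def_LocalStructure
import Cfsg.Agent.Lib.Helper47.Large
import Cfsg.Agent.Lib.Helper47.Subn
import Cfsg.Agent.Lib.Helper48.WeakClosed
import Cfsg.Agent.Lib.Helper48.ChainStab

/-!
Weakly closed self-centralizing `p`-subgroups and characteristic `p` (helper50).
-/

set_option autoImplicit false

namespace Cfsg.Agent.Lib.Helper50

section WeakClosedCharP

variable {G : Type*} [Group G]

theorem wc_conj_mem {K : Subgroup G} {n k : G} (hn : n ∈ Subgroup.normalizer (K : Set G))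
    (hk : k ∈ K) : n * k * n⁻¹ ∈ K :=
  (Subgroup.mem_normalizer_iff.mp hn k).mp hk

theorem wc_conj_mem' {K : Subgroup G} {n k : G} (hn : n ∈ Subgroup.normalizer (K : Set G))
    (hk : k ∈ K) : n⁻¹ * k * n ∈ K := by
  have h := wc_conj_mem (Subgroup.inv_mem _ hn) hk
  simpa using h

theorem wc_le_normalizer_of_conj_mem {S N : Subgroup G}
    (h : ∀ g ∈ S, ∀ n ∈ N, g * n * g⁻¹ ∈ N) : S ≤ Subgroup.normalizer (N : Set G) := by
  intro g hg
  rw [Subgroup.mem_normalizer_iff]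
  intro n
  constructor
  · exact h g hg n
  · intro hn
    have h1 := h g⁻¹ (S.inv_mem hg) _ hn
    have e : g⁻¹ * (g * n * g⁻¹) * g⁻¹⁻¹ = n := by group
    rwa [e] at h1

/-- An element of a `p`-group of order prime to `p` is trivial. -/
theorem wc_eq_one_of_coprime [Finite G] {p : ℕ} {P : Subgroup G} (hP : IsPGroup p P) {c : G}
    (hcP : c ∈ P) (hcop : (orderOf c).Coprime p) : c = 1 := by
  obtain ⟨k, hk⟩ := hP ⟨c, hcP⟩
  have hk' : c ^ p ^ k = 1 := by
    have := congrArg Subtype.val hk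
    simpa using this
  have h1 : orderOf c ∣ p ^ k := orderOf_dvd_of_pow_eq_one hk'
  have h3 : (orderOf c).Coprime (p ^ k) := Nat.Coprime.pow_right k hcop
  exact orderOf_eq_one_iff.mp (Nat.eq_one_of_dvd_coprimes h3 dvd_rfl h1)

/-- A finite subgroup all of whose elements of order prime to `p` are trivial is a `p`-group. -/
theorem wc_isPGroup_of_forall_coprime_eq_one [Finite G] {p : ℕ} [Fact p.Prime] (D : Subgroup G)
    (h : ∀ x ∈ D, (orderOf x).Coprime p → x = 1) : IsPGroup p ↥D := by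
  intro g
  obtain ⟨g, hg⟩ := g
  have hpos : orderOf g ≠ 0 := (orderOf_pos g).ne'
  obtain ⟨k, m, hm, e⟩ := Nat.exists_eq_pow_mul_and_not_dvd hpos p (Fact.out : p.Prime).ne_one
  refine ⟨k, ?_⟩
  apply Subtype.ext
  have h1 : orderOf (g ^ p ^ k) ∣ m := by
    apply orderOf_dvd_of_pow_eq_one
    rw [← pow_mul, ← e, pow_orderOf_eq_one]
  have h2 : (orderOf (g ^ p ^ k)).Coprime p :=
    Nat.Coprime.coprime_dvd_left h1 ((Nat.Prime.coprime_iff_not_dvd Fact.out).mpr hm).symm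
  have h3 := h _ (D.pow_mem hg _) h2
  simpa using h3

/-- A `p`-subgroup normalized by the weakly closed `p`-subgroup `Q` normalizes `Q`. -/
theorem wc_le_normalizer_of_isPGroup [Finite G] {p : ℕ} [Fact p.Prime] {Q S : Subgroup G}
    (hQp : IsPGroup p Q) (hwc : Cfsg.IsWeaklyClosedSubgroup p Q) (hS : IsPGroup p S)
    (hQS : Q ≤ Subgroup.normalizer (S : Set G)) : S ≤ Subgroup.normalizer (Q : Set G) := by
  intro s hs
  have hR : IsPGroup p ↥(S ⊔ Q) := IsPGroup.to_sup_of_normal_left' hS hQp hQS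
  apply Cfsg.Agent.Lib.Helper48.weaklyClosed_mem_normalizer hwc (S ⊔ Q) hR le_sup_right
  intro q hq
  have h1 : s * q * s⁻¹ * q⁻¹ ∈ S := by
    have h2 : q * s⁻¹ * q⁻¹ ∈ S := wc_conj_mem (hQS hq) (S.inv_mem hs)
    have e : s * q * s⁻¹ * q⁻¹ = s * (q * s⁻¹ * q⁻¹) := by group
    rw [e]; exact S.mul_mem hs h2
  have e : s * q * s⁻¹ = (s * q * s⁻¹ * q⁻¹) * q := by group
  rw [e]
  exact (S ⊔ Q).mul_mem (Subgroup.mem_sup_left h1) (Subgroup.mem_sup_right hq)

/-- Lemma W: a subgroup `C` normalized by the weakly closed `p`-subgroup `Q`, such that `Q` acts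
trivially on `O` modulo a `p`-group `A` centralized by `C` and `C_C(O)` is a `p`-group, normalizes
`Q`. -/
theorem wc_le_normalizer_of_chain [Finite G] {p : ℕ} [Fact p.Prime] {Q : Subgroup G}
    (hQp : IsPGroup p Q) (hwc : Cfsg.IsWeaklyClosedSubgroup p Q) (C O A : Subgroup G)
    (hQC : Q ≤ Subgroup.normalizer (C : Set G)) (hCO : C ≤ Subgroup.normalizer (O : Set G))
    (hQO : Q ≤ Subgroup.normalizer (O : Set G)) (hA : IsPGroup p A)
    (hQA : Q ≤ Subgroup.normalizer (A : Set G)) (hCA : C ≤ Subgroup.centralizer (A : Set G))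
    (hQOA : ∀ u ∈ Q, ∀ z ∈ O, u * z * u⁻¹ * z⁻¹ ∈ A)
    (hE : IsPGroup p ↥(C ⊓ Subgroup.centralizer (O : Set G))) :
    C ≤ Subgroup.normalizer (Q : Set G) := by
  have hStp : IsPGroup p ↥(C ⊓ Cfsg.Agent.Lib.Helper48.chainStab A O) := by
    obtain ⟨n, hn⟩ := IsPGroup.iff_card.mp hA
    intro g
    obtain ⟨g, hg⟩ := g
    have hgC : g ∈ C := hg.1
    obtain ⟨hg1, hg2⟩ := Cfsg.Agent.Lib.Helper48.mem_chainStab.mp hg.2
    have hpow : g ^ p ^ n ∈ C ⊓ Subgroup.centralizer (O : Set G) := by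
      refine ⟨C.pow_mem hgC _, ?_⟩
      show g ^ p ^ n ∈ Subgroup.centralizer (O : Set G)
      rw [Subgroup.mem_centralizer_iff]
      intro z hz
      have hw : g * z * g⁻¹ * z⁻¹ ∈ A := hg2 z hz
      have hbot : ∀ x : G, ∀ k ∈ (⊥ : Subgroup G), x * k * x⁻¹ ∈ (⊥ : Subgroup G) := by
        intro x k hk
        rw [Subgroup.mem_bot] at hk ⊢
        rw [hk]; group
      obtain ⟨c, hc, e⟩ := Cfsg.Agent.Lib.Helper48.stab_chain (⊥ : Subgroup G) g z
        (g * z * g⁻¹ * z⁻¹) (hbot g) (hbot _) rfl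
        (by rw [hg1 _ hw, Subgroup.mem_bot]; group) (p ^ n)
      rw [Subgroup.mem_bot] at hc
      rw [hc, one_mul] at e
      have h1 : (g * z * g⁻¹ * z⁻¹) ^ p ^ n = 1 := by
        have h0 : (⟨_, hw⟩ : ↥A) ^ Nat.card ↥A = 1 := pow_card_eq_one'
        rw [hn] at h0
        have h1 := congrArg Subtype.val h0
        simpa using h1
      rw [h1] at e
      calc z * g ^ p ^ n = (g ^ p ^ n * z * (g ^ p ^ n)⁻¹ * z⁻¹)⁻¹ * (g ^ p ^ n * z) := by group
        _ = g ^ p ^ n * z := by rw [e]; group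
    obtain ⟨m, hm⟩ := hE ⟨_, hpow⟩
    refine ⟨n + m, ?_⟩
    apply Subtype.ext
    have hm' : (g ^ p ^ n) ^ p ^ m = 1 := by simpa using congrArg Subtype.val hm
    have e2 : g ^ p ^ (n + m) = (g ^ p ^ n) ^ p ^ m := by rw [pow_add, pow_mul]
    simpa [e2] using hm'
  have hQSt : Q ≤ Subgroup.normalizer
      ((C ⊓ Cfsg.Agent.Lib.Helper48.chainStab A O : Subgroup G) : Set G) := by
    apply wc_le_normalizer_of_conj_mem
    intro u hu g hg
    refine ⟨wc_conj_mem (hQC hu) hg.1, ?_⟩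
    exact Cfsg.Agent.Lib.Helper48.chainStab_conj_mem A O u
      (fun d hd => wc_conj_mem (hQA hu) hd) (fun d hd => wc_conj_mem' (hQA hu) hd)
      (fun z hz => wc_conj_mem' (hQO hu) hz) g hg.2
  have hR : IsPGroup p ↥((C ⊓ Cfsg.Agent.Lib.Helper48.chainStab A O) ⊔ Q) :=
    IsPGroup.to_sup_of_normal_left' hStp hQp hQSt
  intro c hc
  apply Cfsg.Agent.Lib.Helper48.weaklyClosed_mem_normalizer hwc _ hR le_sup_right
  intro q hq
  have hcA : ∀ a ∈ A, c * a * c⁻¹ = a := by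
    intro a ha
    have := (Subgroup.mem_centralizer_iff.mp (hCA hc)) a ha
    rw [← this]; group
  have hcA' : ∀ a ∈ A, c⁻¹ * a * c = a := by
    intro a ha
    have := (Subgroup.mem_centralizer_iff.mp (hCA hc)) a ha
    calc c⁻¹ * a * c = c⁻¹ * (a * c) := by group
      _ = c⁻¹ * (c * a) := by rw [this]
      _ = a := by group
  have hmemC : c * q * c⁻¹ * q⁻¹ ∈ C := by
    have h2 : q * c⁻¹ * q⁻¹ ∈ C := wc_conj_mem (hQC hq) (C.inv_mem hc)
    have e : c * q * c⁻¹ * q⁻¹ = c * (q * c⁻¹ * q⁻¹) := by group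
    rw [e]; exact C.mul_mem hc h2
  have h1 : c * q * c⁻¹ * q⁻¹ ∈ C ⊓ Cfsg.Agent.Lib.Helper48.chainStab A O := by
    refine ⟨hmemC, ?_⟩
    show c * q * c⁻¹ * q⁻¹ ∈ Cfsg.Agent.Lib.Helper48.chainStab A O
    rw [Cfsg.Agent.Lib.Helper48.mem_chainStab]
    refine ⟨?_, ?_⟩
    · intro d hd
      have := (Subgroup.mem_centralizer_iff.mp (hCA hmemC)) d hd
      rw [← this]; group
    · intro z hz
      have ha1 : q⁻¹ * z * q * z⁻¹ ∈ A := by
        have := hQOA q⁻¹ (Q.inv_mem hq) z hz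
        simpa using this
      have hz2 : c⁻¹ * z * c ∈ O := wc_conj_mem' (hCO hc) hz
      have ha2 : q * (c⁻¹ * z * c) * q⁻¹ * (c⁻¹ * z * c)⁻¹ ∈ A := hQOA q hq _ hz2
      have hb1 : c⁻¹ * (q⁻¹ * z * q * z⁻¹) * c = q⁻¹ * z * q * z⁻¹ := hcA' _ ha1
      have ha3 : q * (q⁻¹ * z * q * z⁻¹) * q⁻¹ ∈ A := wc_conj_mem (hQA hq) ha1
      have hprod : q * (q⁻¹ * z * q * z⁻¹) * q⁻¹ *
          (q * (c⁻¹ * z * c) * q⁻¹ * (c⁻¹ * z * c)⁻¹) ∈ A := A.mul_mem ha3 ha2
      have e : c * q * c⁻¹ * q⁻¹ * z * (c * q * c⁻¹ * q⁻¹)⁻¹ * z⁻¹ =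
          c * (q * (c⁻¹ * (q⁻¹ * z * q * z⁻¹) * c) * q⁻¹ *
            (q * (c⁻¹ * z * c) * q⁻¹ * (c⁻¹ * z * c)⁻¹)) * c⁻¹ := by group
      rw [e, hb1, hcA _ hprod]
      exact hprod
  have e : c * q * c⁻¹ = (c * q * c⁻¹ * q⁻¹) * q := by group
  rw [e]
  exact Subgroup.mul_mem _ (Subgroup.mem_sup_left h1) (Subgroup.mem_sup_right hq)

/-- A `p`-subgroup `A` normal in a normal subgroup `D` of `L` lies in `O_p(L)`. -/
theorem wc_le_pCoreOf_of_normal {p : ℕ} [Fact p.Prime] {A D L : Subgroup G} (hA : IsPGroup p A)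
    (hAD : A ≤ D) (hDA : D ≤ Subgroup.normalizer (A : Set G)) (hDL : D ≤ L)
    (hLD : L ≤ Subgroup.normalizer (D : Set G)) : A ≤ Cfsg.pCoreOf p L := by
  have h1 : A ≤ Cfsg.pCoreOf p D :=
    Cfsg.Agent.Lib.Helper47.le_pCoreOf_of_le_normalizer hA hAD hDA
  have h2 : Cfsg.pCoreOf p D ≤ Cfsg.pCoreOf p L :=
    Cfsg.Agent.Lib.Helper47.le_pCoreOf_of_le_normalizer
      (Cfsg.Agent.Lib.Helper47.pCoreOf_isPGroup p D)
      ((Cfsg.Agent.Lib.Helper47.pCoreOf_le p D).trans hDL)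
      (hLD.trans (Cfsg.Agent.Lib.Helper47.normalizer_le_normalizer_pCoreOf p D))
  exact h1.trans h2

/-- An element `x` of `D` of order prime to `p` normalizing the `p`-group `X`, where `X`
normalizes `D` and `x` centralizes `X ⊓ D`, centralizes `X`. -/
theorem wc_centralizes_of_coprime [Finite G] {p : ℕ} [Fact p.Prime] {X D : Subgroup G}
    (hX : IsPGroup p X) {x : G} (hx : x ∈ D)
    (hxX : x ∈ Subgroup.normalizer (X : Set G)) (hXD : X ≤ Subgroup.normalizer (D : Set G))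
    (hxc : x ∈ Subgroup.centralizer ((X ⊓ D : Subgroup G) : Set G))
    (hcop : (orderOf x).Coprime p) : x ∈ Subgroup.centralizer (X : Set G) := by
  have h1 : x ∈ Cfsg.Agent.Lib.Helper48.chainStab (X ⊓ D) X := by
    rw [Cfsg.Agent.Lib.Helper48.mem_chainStab]
    refine ⟨fun d hd => ?_, fun z hz => ⟨?_, ?_⟩⟩
    · have := (Subgroup.mem_centralizer_iff.mp hxc) d hd
      rw [← this]; group
    · have h2 : x * z * x⁻¹ ∈ X := wc_conj_mem hxX hz
      exact X.mul_mem h2 (X.inv_mem hz)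
    · have h2 : z * x⁻¹ * z⁻¹ ∈ D := wc_conj_mem (hXD hz) (D.inv_mem hx)
      have e : x * z * x⁻¹ * z⁻¹ = x * (z * x⁻¹ * z⁻¹) := by group
      rw [e]; exact D.mul_mem hx h2
  exact Cfsg.Agent.Lib.Helper48.chainStab_coprime_centralizes (X ⊓ D) X (hX.to_le inf_le_left) x
    h1 hcop

/-- Chain lemma: if `G₀` has characteristic `p` with respect to the normal `p`-subgroup `R₀`
and `D ≤ G₀` is normalized by `R₀` and centralizes `R₀ ⊓ D`, then `D` is a `p`-group. -/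
theorem wc_isPGroup_of_chain [Finite G] {p : ℕ} [Fact p.Prime] {G₀ R₀ D : Subgroup G}
    (hGR : G₀ ≤ Subgroup.normalizer (R₀ : Set G)) (hR : IsPGroup p R₀)
    (hchar : G₀ ⊓ Subgroup.centralizer (R₀ : Set G) ≤ R₀) (hDG : D ≤ G₀)
    (hRD : R₀ ≤ Subgroup.normalizer (D : Set G))
    (hDc : D ≤ Subgroup.centralizer ((R₀ ⊓ D : Subgroup G) : Set G)) :
    IsPGroup p ↥D := by
  apply wc_isPGroup_of_forall_coprime_eq_one
  intro x hx hcop
  have h2 : x ∈ Subgroup.centralizer (R₀ : Set G) :=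
    wc_centralizes_of_coprime hR hx (hGR (hDG hx)) hRD (hDc hx) hcop
  exact wc_eq_one_of_coprime hR (hchar ⟨hDG hx, h2⟩) hcop

/-- F1: if `C_L(O_p(L))` normalizes the self-centralizing `p`-subgroup `Q ≤ L`, then `L` has
characteristic `p`. -/
theorem wc_charp_of_le_normalizer [Finite G] {p : ℕ} [Fact p.Prime] {Q L : Subgroup G}
    (hQp : IsPGroup p Q) (hCQ : Subgroup.centralizer (Q : Set G) ≤ Q) (hQL : Q ≤ L)
    (D : Subgroup G)
    (hD : D = L ⊓ Subgroup.centralizer ((Cfsg.pCoreOf p L : Subgroup G) : Set G))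
    (hN : D ≤ Subgroup.normalizer (Q : Set G)) : D ≤ Cfsg.pCoreOf p L := by
  have hDL : D ≤ L := by rw [hD]; exact inf_le_left
  have hDC : D ≤ Subgroup.centralizer ((Cfsg.pCoreOf p L : Subgroup G) : Set G) := by
    rw [hD]; exact inf_le_right
  have hLD : L ≤ Subgroup.normalizer (D : Set G) := by
    rw [hD]
    exact (le_inf Subgroup.le_normalizer ((Cfsg.Agent.Lib.Helper47.le_normalizer_pCoreOf p L).trans
      (Cfsg.Agent.Lib.Helper47.normalizer_le_normalizer_centralizer _))).trans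
      Subgroup.inf_normalizer_le_normalizer_inf
  have hQD : Q ⊓ D ≤ Cfsg.pCoreOf p L := by
    apply wc_le_pCoreOf_of_normal (hQp.to_le inf_le_left) inf_le_right _ hDL hLD
    exact (le_inf hN Subgroup.le_normalizer).trans Subgroup.inf_normalizer_le_normalizer_inf
  have hDp : IsPGroup p ↥D := by
    apply wc_isPGroup_of_forall_coprime_eq_one
    intro x hx hcop
    have h2 : x ∈ Subgroup.centralizer (Q : Set G) := by
      apply wc_centralizes_of_coprime hQp hx (hN hx) (hQL.trans hLD) _ hcop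
      exact Subgroup.centralizer_le (SetLike.coe_subset_coe.mpr hQD) (hDC hx)
    exact wc_eq_one_of_coprime hQp (hCQ h2) hcop
  exact Cfsg.Agent.Lib.Helper47.le_pCoreOf_of_le_normalizer hDp hDL hLD

/-- F2: if `C(O_p(L))` normalizes the self-centralizing `p`-subgroup `Q ≤ L` and meets `Q`
inside `O_p(L)`, then it is a `p`-group. -/
theorem wc_isPGroup_centralizer [Finite G] {p : ℕ} [Fact p.Prime] {Q L : Subgroup G}
    (hQp : IsPGroup p Q) (hCQ : Subgroup.centralizer (Q : Set G) ≤ Q) (hQL : Q ≤ L)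
    (hN : Subgroup.centralizer ((Cfsg.pCoreOf p L : Subgroup G) : Set G) ≤
      Subgroup.normalizer (Q : Set G))
    (hQC : Q ⊓ Subgroup.centralizer ((Cfsg.pCoreOf p L : Subgroup G) : Set G) ≤
      Cfsg.pCoreOf p L) :
    IsPGroup p ↥(Subgroup.centralizer ((Cfsg.pCoreOf p L : Subgroup G) : Set G)) := by
  apply wc_isPGroup_of_forall_coprime_eq_one
  intro x hx hcop
  have hQNC : Q ≤ Subgroup.normalizer
      ((Subgroup.centralizer ((Cfsg.pCoreOf p L : Subgroup G) : Set G) : Subgroup G) : Set G) :=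
    hQL.trans ((Cfsg.Agent.Lib.Helper47.le_normalizer_pCoreOf p L).trans
      (Cfsg.Agent.Lib.Helper47.normalizer_le_normalizer_centralizer _))
  have h2 : x ∈ Subgroup.centralizer (Q : Set G) := by
    apply wc_centralizes_of_coprime hQp hx (hN hx) hQNC _ hcop
    exact Subgroup.centralizer_le (SetLike.coe_subset_coe.mpr hQC) hx
  exact wc_eq_one_of_coprime hQp (hCQ h2) hcop

/-- S1: every subgroup `L'` with `Q ≤ L' ≤ M` has characteristic `p`, when `M` has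
characteristic `p` with respect to its normal `p`-subgroup `R`. -/
theorem wc_charp_of_le [Finite G] {p : ℕ} [Fact p.Prime] {Q M R : Subgroup G}
    (hQp : IsPGroup p Q) (hwc : Cfsg.IsWeaklyClosedSubgroup p Q)
    (hCQ : Subgroup.centralizer (Q : Set G) ≤ Q) (hQM : Q ≤ M) (hRp : IsPGroup p R)
    (hMR : M ≤ Subgroup.normalizer (R : Set G))
    (hMc : M ⊓ Subgroup.centralizer (R : Set G) ≤ R)
    (L' : Subgroup G) (hQL' : Q ≤ L') (hL'M : L' ≤ M) :
    L' ⊓ Subgroup.centralizer ((Cfsg.pCoreOf p L' : Subgroup G) : Set G) ≤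
      Cfsg.pCoreOf p L' := by
  apply wc_charp_of_le_normalizer hQp hCQ hQL' _ rfl
  have hRQ : R ≤ Subgroup.normalizer (Q : Set G) :=
    wc_le_normalizer_of_isPGroup hQp hwc hRp (hQM.trans hMR)
  have hRL' : R ⊓ L' ≤ Cfsg.pCoreOf p L' :=
    Cfsg.Agent.Lib.Helper47.le_pCoreOf_of_le_normalizer (hRp.to_le inf_le_left) inf_le_right
      ((le_inf (hL'M.trans hMR) Subgroup.le_normalizer).trans
        Subgroup.inf_normalizer_le_normalizer_inf)
  apply wc_le_normalizer_of_chain hQp hwc _ R (R ⊓ Cfsg.pCoreOf p L')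
  · exact (le_inf (hQL'.trans Subgroup.le_normalizer)
      (hQL'.trans ((Cfsg.Agent.Lib.Helper47.le_normalizer_pCoreOf p L').trans
      (Cfsg.Agent.Lib.Helper47.normalizer_le_normalizer_centralizer _)))).trans
      Subgroup.inf_normalizer_le_normalizer_inf
  · exact inf_le_left.trans (hL'M.trans hMR)
  · exact hQM.trans hMR
  · exact hRp.to_le inf_le_left
  · exact (le_inf (hQM.trans hMR)
      (hQL'.trans (Cfsg.Agent.Lib.Helper47.le_normalizer_pCoreOf p L'))).trans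
      Subgroup.inf_normalizer_le_normalizer_inf
  · exact inf_le_right.trans (Subgroup.centralizer_le (SetLike.coe_subset_coe.mpr inf_le_right))
  · intro u hu z hz
    have hR1 : u * z * u⁻¹ * z⁻¹ ∈ R :=
      R.mul_mem (wc_conj_mem (hMR (hQM hu)) hz) (R.inv_mem hz)
    refine ⟨hR1, hRL' ⟨hR1, ?_⟩⟩
    have h2 : z * u⁻¹ * z⁻¹ ∈ Q := wc_conj_mem (hRQ hz) (Q.inv_mem hu)
    have e : u * z * u⁻¹ * z⁻¹ = u * (z * u⁻¹ * z⁻¹) := by group
    rw [e]; exact hQL' (Q.mul_mem hu h2)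
  · apply hRp.to_le
    intro x hx
    exact hMc ⟨hL'M hx.1.1, hx.2⟩

/-- Main theorem: `Q` a weakly closed `p`-subgroup with `C(Q) ≤ Q ≤ L`; `M ≥ Q, C(O_p(L))`
of characteristic `p` with respect to its normal `p`-subgroup `R`. Then `L` has characteristic
`p`, `C(O_p(L))` normalizes `Q` and is a `p`-group. -/
theorem wc_main [Finite G] {p : ℕ} [Fact p.Prime] {Q L M R : Subgroup G}
    (hQp : IsPGroup p Q) (hwc : Cfsg.IsWeaklyClosedSubgroup p Q)
    (hCQ : Subgroup.centralizer (Q : Set G) ≤ Q) (hQL : Q ≤ L) (hQM : Q ≤ M)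
    (hCM : Subgroup.centralizer ((Cfsg.pCoreOf p L : Subgroup G) : Set G) ≤ M)
    (hRp : IsPGroup p R) (hMR : M ≤ Subgroup.normalizer (R : Set G))
    (hMc : M ⊓ Subgroup.centralizer (R : Set G) ≤ R) :
    L ⊓ Subgroup.centralizer ((Cfsg.pCoreOf p L : Subgroup G) : Set G) ≤ Cfsg.pCoreOf p L ∧
    Subgroup.centralizer ((Cfsg.pCoreOf p L : Subgroup G) : Set G) ≤
      Subgroup.normalizer (Q : Set G) ∧
    IsPGroup p ↥(Subgroup.centralizer ((Cfsg.pCoreOf p L : Subgroup G) : Set G)) := by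
  have hLP : L ≤ Subgroup.normalizer ((Cfsg.pCoreOf p L : Subgroup G) : Set G) :=
    Cfsg.Agent.Lib.Helper47.le_normalizer_pCoreOf p L
  have hLC : L ≤ Subgroup.normalizer
      ((Subgroup.centralizer ((Cfsg.pCoreOf p L : Subgroup G) : Set G) : Subgroup G) : Set G) :=
    hLP.trans (Cfsg.Agent.Lib.Helper47.normalizer_le_normalizer_centralizer _)
  obtain ⟨C, hC⟩ : ∃ C : Subgroup G,
      C = Subgroup.centralizer ((Cfsg.pCoreOf p L : Subgroup G) : Set G) := ⟨_, rfl⟩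
  rw [← hC] at hCM hLC ⊢
  have hD_le : L ⊓ C ≤ L ⊓ M := inf_le_inf_left L hCM
  have hLD : L ≤ Subgroup.normalizer ((L ⊓ C : Subgroup G) : Set G) :=
    (le_inf Subgroup.le_normalizer hLC).trans Subgroup.inf_normalizer_le_normalizer_inf
  have hS1 := wc_charp_of_le hQp hwc hCQ hQM hRp hMR hMc (L ⊓ M) (le_inf hQL hQM) inf_le_right
  have hDp : IsPGroup p ↥(L ⊓ C) := by
    apply wc_isPGroup_of_chain (G₀ := L ⊓ M) (R₀ := Cfsg.pCoreOf p (L ⊓ M))
      (Cfsg.Agent.Lib.Helper47.le_normalizer_pCoreOf p (L ⊓ M))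
      (Cfsg.Agent.Lib.Helper47.pCoreOf_isPGroup p (L ⊓ M)) hS1 hD_le
    · exact ((Cfsg.Agent.Lib.Helper47.pCoreOf_le p (L ⊓ M)).trans inf_le_left).trans hLD
    · have h1 : Cfsg.pCoreOf p (L ⊓ M) ⊓ (L ⊓ C) ≤ Cfsg.pCoreOf p L := by
        apply wc_le_pCoreOf_of_normal
          ((Cfsg.Agent.Lib.Helper47.pCoreOf_isPGroup p (L ⊓ M)).to_le inf_le_left) inf_le_right _
          inf_le_left hLD
        exact (le_inf (hD_le.trans (Cfsg.Agent.Lib.Helper47.le_normalizer_pCoreOf p (L ⊓ M)))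
          Subgroup.le_normalizer).trans Subgroup.inf_normalizer_le_normalizer_inf
      have h2 : C ≤ Subgroup.centralizer
          ((Cfsg.pCoreOf p (L ⊓ M) ⊓ (L ⊓ C) : Subgroup G) : Set G) :=
        hC.le.trans (Subgroup.centralizer_le (SetLike.coe_subset_coe.mpr h1))
      exact inf_le_right.trans h2
  have hDP : L ⊓ C ≤ Cfsg.pCoreOf p L :=
    Cfsg.Agent.Lib.Helper47.le_pCoreOf_of_le_normalizer hDp inf_le_left hLD
  have hQNC : Q ≤ Subgroup.normalizer (C : Set G) := hQL.trans hLC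
  have hG₁M : Q ⊔ C ≤ M := sup_le hQM hCM
  have hG₁C : Q ⊔ C ≤ Subgroup.normalizer (C : Set G) := sup_le hQNC Subgroup.le_normalizer
  have hS2 := wc_charp_of_le hQp hwc hCQ hQM hRp hMR hMc (Q ⊔ C) le_sup_left hG₁M
  have hP₁p : IsPGroup p (Cfsg.pCoreOf p (Q ⊔ C)) :=
    Cfsg.Agent.Lib.Helper47.pCoreOf_isPGroup p (Q ⊔ C)
  have hG₁P₁ : Q ⊔ C ≤ Subgroup.normalizer ((Cfsg.pCoreOf p (Q ⊔ C) : Subgroup G) : Set G) :=
    Cfsg.Agent.Lib.Helper47.le_normalizer_pCoreOf p (Q ⊔ C)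
  have hP₁Q : Cfsg.pCoreOf p (Q ⊔ C) ≤ Subgroup.normalizer (Q : Set G) :=
    wc_le_normalizer_of_isPGroup hQp hwc hP₁p (le_sup_left.trans hG₁P₁)
  have hG₁O : Q ⊔ C ≤ Subgroup.normalizer
      ((C ⊓ Cfsg.pCoreOf p (Q ⊔ C) : Subgroup G) : Set G) :=
    (le_inf hG₁C hG₁P₁).trans Subgroup.inf_normalizer_le_normalizer_inf
  have hQCP : Q ⊓ C ≤ Cfsg.pCoreOf p L := (inf_le_inf_right C hQL).trans hDP
  have hCNQ : C ≤ Subgroup.normalizer (Q : Set G) := by
    apply wc_le_normalizer_of_chain hQp hwc C (C ⊓ Cfsg.pCoreOf p (Q ⊔ C)) (Q ⊓ C) hQNC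
      (le_sup_right.trans hG₁O) (le_sup_left.trans hG₁O) (hQp.to_le inf_le_left)
      ((le_inf Subgroup.le_normalizer hQNC).trans Subgroup.inf_normalizer_le_normalizer_inf)
    · exact hC.le.trans (Subgroup.centralizer_le (SetLike.coe_subset_coe.mpr hQCP))
    · intro u hu z hz
      refine ⟨?_, ?_⟩
      · have h2 : z * u⁻¹ * z⁻¹ ∈ Q := wc_conj_mem (hP₁Q hz.2) (Q.inv_mem hu)
        have e : u * z * u⁻¹ * z⁻¹ = u * (z * u⁻¹ * z⁻¹) := by group
        rw [e]; exact Q.mul_mem hu h2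
      · exact C.mul_mem (wc_conj_mem (hQNC hu) hz.1) (C.inv_mem hz.1)
    · apply wc_isPGroup_of_chain (G₀ := Q ⊔ C) (R₀ := Cfsg.pCoreOf p (Q ⊔ C)) hG₁P₁ hP₁p hS2
        (inf_le_left.trans le_sup_right)
      · have h3 : Q ⊔ C ≤ Subgroup.normalizer ((C ⊓ Subgroup.centralizer
            ((C ⊓ Cfsg.pCoreOf p (Q ⊔ C) : Subgroup G) : Set G) : Subgroup G) : Set G) :=
          (le_inf hG₁C (hG₁O.trans
            (Cfsg.Agent.Lib.Helper47.normalizer_le_normalizer_centralizer _))).trans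
            Subgroup.inf_normalizer_le_normalizer_inf
        exact (Cfsg.Agent.Lib.Helper47.pCoreOf_le p (Q ⊔ C)).trans h3
      · have h1 : Cfsg.pCoreOf p (Q ⊔ C) ⊓ (C ⊓ Subgroup.centralizer
            ((C ⊓ Cfsg.pCoreOf p (Q ⊔ C) : Subgroup G) : Set G)) ≤
            C ⊓ Cfsg.pCoreOf p (Q ⊔ C) := fun x hx => ⟨hx.2.1, hx.1⟩
        exact inf_le_right.trans (Subgroup.centralizer_le (SetLike.coe_subset_coe.mpr h1))
  refine ⟨hDP, hCNQ, ?_⟩
  have h4 := wc_isPGroup_centralizer hQp hCQ hQL (hC.ge.trans hCNQ)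
    ((inf_le_inf_left Q hC.ge).trans hQCP)
  rw [← hC] at h4
  exact h4

/-- Characteristic `p` of `L` from the ambient form. -/
theorem wc_charp_of_ambient {p : ℕ} (L : Subgroup G)
    (h : L ⊓ Subgroup.centralizer ((Cfsg.pCoreOf p L : Subgroup G) : Set G) ≤ Cfsg.pCoreOf p L) :
    Subgroup.centralizer (Cfsg.pCore p ↥L : Set ↥L) ≤ Cfsg.pCore p ↥L := by
  intro x hx
  have hx' : (x : G) ∈ Subgroup.centralizer ((Cfsg.pCoreOf p L : Subgroup G) : Set G) := by
    rw [Subgroup.mem_centralizer_iff]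
    rintro _ ⟨y, hy, rfl⟩
    have := (Subgroup.mem_centralizer_iff.mp hx) y hy
    exact congrArg Subtype.val this
  obtain ⟨y, hy, hyx⟩ := h ⟨x.2, hx'⟩
  have : y = x := Subtype.ext hyx
  rw [← this]; exact hy

end WeakClosedCharP

end Cfsg.Agent.Lib.Helper50
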