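import Mathlib
import Cfsg.Prelude.Def_Local
import Cfsg.Prelude.Def_Solvable
import Cfsg.Prelude.Def_Amalgam
import Cfsg.Agent.Lib.Helper1.Commutator
import Cfsg.Agent.Lib.Helper21.Quasi
import Cfsg.Agent.Lib.Helper22.Comp
import Cfsg.Agent.Lib.Helper22.Fstar
import Cfsg.Agent.Lib.Helper46.Amalgam2
import Cfsg.Agent.Lib.Helper47.Subn
import Cfsg.Agent.Lib.Helper48.Generation
import Cfsg.Agent.Lib.Helper50.WeakClosedCharP
import Cfsg.Agent.S0064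
import Cfsg.Agent.S1318

set_option autoImplicit false

namespace Cfsg.Agent.Lib.Helper50

open scoped commutatorElement

section FstarAction

variable {G : Type*} [Group G]

/-- A normal subgroup of a quasisimple subgroup is everything or central (ambient form). -/
theorem qs_normal_dichotomy {K N : Subgroup G} (hK : Cfsg.IsQuasisimple ↥K) (hNK : N ≤ K)
    (hKN : K ≤ Subgroup.normalizer (N : Set G)) : N = K ∨ ⁅N, K⁆ = ⊥ := by
  haveI : (N.subgroupOf K).Normal := (Subgroup.normal_subgroupOf_iff_le_normalizer hNK).mpr hKN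
  rcases Cfsg.Agent.Lib.Helper21.quasisimple_normal_eq_top_or_le_center hK (N.subgroupOf K)
    with h | h
  · left
    exact le_antisymm hNK (Subgroup.subgroupOf_eq_top.mp h)
  · right
    rw [Subgroup.commutator_eq_bot_iff_le_centralizer]
    intro n hn
    rw [Subgroup.mem_centralizer_iff]
    intro k hk
    have h1 : (⟨n, hNK hn⟩ : ↥K) ∈ Subgroup.center ↥K := h (Subgroup.mem_subgroupOf.mpr hn)
    have h2 := Subgroup.mem_center_iff.mp h1 ⟨k, hk⟩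
    exact congrArg Subtype.val h2

/-- A family of pairwise commuting perfect "quasisimple" subgroups permuted by `Y`, none of
which is centralized by `Y`: their join lies in its commutator with `Y`. -/
theorem family_le_commutator {Y : Subgroup G} {𝒦 : Set (Subgroup G)}
    (hperf : ∀ K ∈ 𝒦, ⁅K, K⁆ = K)
    (hqs : ∀ K ∈ 𝒦, ∀ N : Subgroup G, N ≤ K → K ≤ Subgroup.normalizer (N : Set G) →
      N = K ∨ ⁅N, K⁆ = ⊥)
    (hcomm : ∀ K ∈ 𝒦, ∀ K' ∈ 𝒦, K ≠ K' → ⁅K, K'⁆ = ⊥)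
    (hperm : ∀ K ∈ 𝒦, ∀ y ∈ Y, K.map (MulAut.conj y).toMonoidHom ∈ 𝒦)
    (hnc : ∀ K ∈ 𝒦, ¬ Y ≤ Subgroup.centralizer (K : Set G)) :
    sSup 𝒦 ≤ ⁅sSup 𝒦, Y⁆ := by
  apply sSup_le
  intro K hK
  have hKE : K ≤ sSup 𝒦 := le_sSup hK
  have hKM : K ≤ Subgroup.normalizer ((⁅sSup 𝒦, Y⁆ : Subgroup G) : Set G) :=
    hKE.trans (Cfsg.Agent.Lib.Helper1.le_normalizer_commutator_left (sSup 𝒦) Y)
  by_cases hYK : ∀ y ∈ Y, K.map (MulAut.conj y).toMonoidHom = K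
  · have hYN : Y ≤ Subgroup.normalizer (K : Set G) := by
      apply wc_le_normalizer_of_conj_mem
      intro y hy k hk
      have : y * k * y⁻¹ ∈ K.map (MulAut.conj y).toMonoidHom :=
        Subgroup.mem_map.mpr ⟨k, hk, rfl⟩
      rwa [hYK y hy] at this
    have hN1 : K ⊓ ⁅sSup 𝒦, Y⁆ ≤ K := inf_le_left
    have hN2 : K ≤ Subgroup.normalizer ((K ⊓ ⁅sSup 𝒦, Y⁆ : Subgroup G) : Set G) := by
      intro k hk
      exact Subgroup.inf_normalizer_le_normalizer_inf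
        (Subgroup.mem_inf.mpr ⟨Subgroup.le_normalizer hk, hKM hk⟩)
    rcases hqs K hK _ hN1 hN2 with h | h
    · exact (le_of_eq h.symm).trans inf_le_right
    · exfalso
      apply hnc K hK
      have hKY : ⁅K, Y⁆ ≤ K ⊓ ⁅sSup 𝒦, Y⁆ :=
        le_inf (Cfsg.Agent.Lib.Helper1.commutator_le_of_le_normalizer hYN)
          (Subgroup.commutator_mono hKE le_rfl)
      have h1 : ⁅⁅K, Y⁆, K⁆ = ⊥ := by
        rw [eq_bot_iff, ← h]
        exact Subgroup.commutator_mono hKY le_rfl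
      have h2 : ⁅⁅Y, K⁆, K⁆ = ⊥ := by rw [Subgroup.commutator_comm Y K]; exact h1
      have h3 : ⁅⁅K, K⁆, Y⁆ = ⊥ := Subgroup.commutator_commutator_eq_bot_of_rotate h1 h2
      rw [hperf K hK, Subgroup.commutator_eq_bot_iff_le_centralizer] at h3
      exact Subgroup.le_centralizer_iff.mp h3
  · push Not at hYK
    obtain ⟨y, hy, hne⟩ := hYK
    have hK' := hperm K hK y hy
    have hcom : ⁅K, K.map (MulAut.conj y).toMonoidHom⁆ = ⊥ := hcomm K hK _ hK' (Ne.symm hne)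
    rw [Subgroup.commutator_eq_bot_iff_le_centralizer] at hcom
    have hgoal : ⁅K, K⁆ ≤ ⁅sSup 𝒦, Y⁆ := by
      rw [Subgroup.commutator_le]
      intro k hk k' hk'
      have hc : y * k⁻¹ * y⁻¹ ∈ K.map (MulAut.conj y).toMonoidHom :=
        Subgroup.mem_map.mpr ⟨k⁻¹, K.inv_mem hk, rfl⟩
      have hc1 : (y * k⁻¹ * y⁻¹) * k' = k' * (y * k⁻¹ * y⁻¹) :=
        Subgroup.mem_centralizer_iff.mp (hcom hk') _ hc
      have hm : ⁅k, y⁆ ∈ ⁅sSup 𝒦, Y⁆ := Subgroup.commutator_mem_commutator (hKE hk) hy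
      have hm2 : ⁅⁅k, y⁆, k'⁆ ∈ ⁅sSup 𝒦, Y⁆ := by
        have h4 : k' * ⁅k, y⁆⁻¹ * k'⁻¹ ∈ ⁅sSup 𝒦, Y⁆ :=
          (Subgroup.mem_normalizer_iff.mp (hKM hk') _).mp (Subgroup.inv_mem _ hm)
        have : ⁅⁅k, y⁆, k'⁆ = ⁅k, y⁆ * (k' * ⁅k, y⁆⁻¹ * k'⁻¹) := by
          rw [commutatorElement_def ⁅k, y⁆ k']; group
        rw [this]
        exact Subgroup.mul_mem _ hm h4
      have heq : ⁅⁅k, y⁆, k'⁆ = ⁅k, k'⁆ := by
        have e1 : ⁅k, y⁆ = k * (y * k⁻¹ * y⁻¹) := by rw [commutatorElement_def]; group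
        rw [e1, commutatorElement_def, commutatorElement_def]
        have : k * (y * k⁻¹ * y⁻¹) * k' * (k * (y * k⁻¹ * y⁻¹))⁻¹ * k'⁻¹ =
            k * ((y * k⁻¹ * y⁻¹) * k') * (y * k⁻¹ * y⁻¹)⁻¹ * k⁻¹ * k'⁻¹ := by group
        rw [this, hc1]
        group
      rw [← heq]
      exact hm2
    rwa [hperf K hK] at hgoal

/-- The abstract `F*`-action lemma. -/
theorem fstar_action_core [Finite G] {p : ℕ} [Fact p.Prime] {L F Y : Subgroup G}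
    {𝒦 : Set (Subgroup G)}
    (hY : IsPGroup p ↥Y) (hYL : Y ≤ Subgroup.normalizer (L : Set G))
    (hYF : Y ≤ Subgroup.normalizer (F : Set G)) (hFp : (Nat.card ↥F).Coprime p)
    (hperf : ∀ K ∈ 𝒦, ⁅K, K⁆ = K)
    (hqs : ∀ K ∈ 𝒦, ∀ N : Subgroup G, N ≤ K → K ≤ Subgroup.normalizer (N : Set G) →
      N = K ∨ ⁅N, K⁆ = ⊥)
    (hcomm : ∀ K ∈ 𝒦, ∀ K' ∈ 𝒦, K ≠ K' → ⁅K, K'⁆ = ⊥)
    (hperm : ∀ K ∈ 𝒦, ∀ y ∈ Y, K.map (MulAut.conj y).toMonoidHom ∈ 𝒦)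
    (hFK : ∀ K ∈ 𝒦, ⁅F, K⁆ = ⊥)
    (hL : L = F ⊔ sSup 𝒦) :
    (sSup {K | K ∈ 𝒦 ∧ ¬ Y ≤ Subgroup.centralizer (K : Set G)} ≤
        ⁅sSup {K | K ∈ 𝒦 ∧ ¬ Y ≤ Subgroup.centralizer (K : Set G)}, Y⁆) ∧
      (⁅L, Y⁆ ≤ ⁅sSup {K | K ∈ 𝒦 ∧ ¬ Y ≤ Subgroup.centralizer (K : Set G)}, Y⁆ ⊔ ⁅F, Y⁆) ∧
      ⁅L, Y⁆ ⊔ (L ⊓ Subgroup.centralizer (Y : Set G)) = L ∧ ⁅L, Y⁆ = ⁅⁅L, Y⁆, Y⁆ := by
  obtain ⟨𝒦₁, h𝒦₁⟩ : ∃ S : Set (Subgroup G),
      S = {K | K ∈ 𝒦 ∧ Y ≤ Subgroup.centralizer (K : Set G)} := ⟨_, rfl⟩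
  obtain ⟨𝒦₂, h𝒦₂⟩ : ∃ S : Set (Subgroup G),
      S = {K | K ∈ 𝒦 ∧ ¬ Y ≤ Subgroup.centralizer (K : Set G)} := ⟨_, rfl⟩
  rw [← h𝒦₂]
  have mem₁ : ∀ K, K ∈ 𝒦₁ ↔ K ∈ 𝒦 ∧ Y ≤ Subgroup.centralizer (K : Set G) := by
    intro K; rw [h𝒦₁]; exact Iff.rfl
  have mem₂ : ∀ K, K ∈ 𝒦₂ ↔ K ∈ 𝒦 ∧ ¬ Y ≤ Subgroup.centralizer (K : Set G) := by
    intro K; rw [h𝒦₂]; exact Iff.rfl
  have hFL : F ≤ L := hL ▸ le_sup_left
  have hEL : sSup 𝒦 ≤ L := hL ▸ le_sup_right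
  have h₂sub : sSup 𝒦₂ ≤ sSup 𝒦 := sSup_le_sSup fun K hK => ((mem₂ K).mp hK).1
  have hE₂L : sSup 𝒦₂ ≤ L := h₂sub.trans hEL
  haveI : Group.IsNilpotent ↥Y := hY.isNilpotent
  have hsolv : Group.IsSolvable ↥Y := IsNilpotent.to_isSolvable
  have hcop : (Nat.card ↥Y).Coprime (Nat.card ↥F) := by
    obtain ⟨k, hk⟩ := IsPGroup.iff_card.mp hY
    rw [hk]
    exact Nat.Coprime.pow_left k hFp.symm
  have hF1 : ⁅F, Y⁆ ⊔ (F ⊓ Subgroup.centralizer (Y : Set G)) = F :=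
    Cfsg.Agent.Lib.Helper1.coprime_commutator_sup_centralizer Y F hYF hcop (Or.inl hsolv)
  have hF2 : ⁅⁅F, Y⁆, Y⁆ = ⁅F, Y⁆ :=
    Cfsg.Agent.Lib.Helper1.coprime_commutator_commutator Y F hYF hcop (Or.inl hsolv)
  have hE₂ : sSup 𝒦₂ ≤ ⁅sSup 𝒦₂, Y⁆ := by
    apply family_le_commutator (𝒦 := 𝒦₂)
    · exact fun K hK => hperf K ((mem₂ K).mp hK).1
    · exact fun K hK => hqs K ((mem₂ K).mp hK).1
    · exact fun K hK K' hK' hne => hcomm K ((mem₂ K).mp hK).1 K' ((mem₂ K').mp hK').1 hne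
    · intro K hK y hy
      obtain ⟨hK1, hK2⟩ := (mem₂ K).mp hK
      refine (mem₂ _).mpr ⟨hperm K hK1 y hy, fun hcent => hK2 ?_⟩
      intro z hz
      rw [Subgroup.mem_centralizer_iff]
      intro k hk
      have hz' : y * z * y⁻¹ ∈ Y := Y.mul_mem (Y.mul_mem hy hz) (Y.inv_mem hy)
      have hk' : y * k * y⁻¹ ∈ K.map (MulAut.conj y).toMonoidHom :=
        Subgroup.mem_map.mpr ⟨k, hk, rfl⟩
      have h1 := Subgroup.mem_centralizer_iff.mp (hcent hz') (y * k * y⁻¹) hk'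
      have h2 : k * z = y⁻¹ * (y * k * y⁻¹ * (y * z * y⁻¹)) * y := by group
      rw [h2, h1]; group
    · exact fun K hK => ((mem₂ K).mp hK).2
  have hE₁ : sSup 𝒦₁ ≤ Subgroup.centralizer (Y : Set G) :=
    sSup_le fun K hK => Subgroup.le_centralizer_iff.mp ((mem₁ K).mp hK).2
  have hsplit : sSup 𝒦 ≤ sSup 𝒦₁ ⊔ sSup 𝒦₂ := by
    apply sSup_le
    intro K hK
    by_cases h : Y ≤ Subgroup.centralizer (K : Set G)
    · exact (le_sSup ((mem₁ K).mpr ⟨hK, h⟩)).trans le_sup_left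
    · exact (le_sSup ((mem₂ K).mpr ⟨hK, h⟩)).trans le_sup_right
  have hE₁₂ : ∀ a ∈ sSup 𝒦₁, ∀ b ∈ sSup 𝒦₂, a * b = b * a := by
    have h1 : sSup 𝒦₂ ≤ Subgroup.centralizer ((sSup 𝒦₁ : Subgroup G) : Set G) := by
      apply sSup_le
      intro K₂ hK₂
      rw [Subgroup.le_centralizer_iff]
      apply sSup_le
      intro K₁ hK₁
      rw [← Subgroup.commutator_eq_bot_iff_le_centralizer]
      apply hcomm K₁ ((mem₁ K₁).mp hK₁).1 K₂ ((mem₂ K₂).mp hK₂).1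
      rintro rfl
      exact ((mem₂ K₁).mp hK₂).2 ((mem₁ K₁).mp hK₁).2
    intro a ha b hb
    exact Subgroup.mem_centralizer_iff.mp (h1 hb) a ha
  have hFE : ∀ f ∈ F, ∀ e ∈ sSup 𝒦, f * e = e * f := by
    have h1 : sSup 𝒦 ≤ Subgroup.centralizer (F : Set G) := by
      apply sSup_le
      intro K hK
      rw [Subgroup.le_centralizer_iff, ← Subgroup.commutator_eq_bot_iff_le_centralizer]
      exact hFK K hK
    intro f hf e he
    exact Subgroup.mem_centralizer_iff.mp (h1 he) f hf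
  have hYE : ∀ y ∈ Y, ∀ e ∈ sSup 𝒦, y * e * y⁻¹ ∈ sSup 𝒦 := by
    intro y hy e he
    have hle : sSup 𝒦 ≤ (sSup 𝒦).comap (MulAut.conj y).toMonoidHom :=
      sSup_le fun K hK => Subgroup.map_le_iff_le_comap.mp (le_sSup (hperm K hK y hy))
    exact hle he
  have hYLc : ⁅L, Y⁆ ≤ L := Cfsg.Agent.Lib.Helper1.commutator_le_of_le_normalizer hYL
  have hE₂' : ⁅sSup 𝒦₂, Y⁆ ≤ ⁅⁅L, Y⁆, Y⁆ :=
    (Subgroup.commutator_mono hE₂ le_rfl).trans
      (Subgroup.commutator_mono (Subgroup.commutator_mono hE₂L le_rfl) le_rfl)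
  have hF' : ⁅F, Y⁆ ≤ ⁅⁅L, Y⁆, Y⁆ := by
    rw [← hF2]
    exact Subgroup.commutator_mono (Subgroup.commutator_mono hFL le_rfl) le_rfl
  have hkey0 : ⁅L, Y⁆ ≤ ⁅sSup 𝒦₂, Y⁆ ⊔ ⁅F, Y⁆ := by
    rw [Subgroup.commutator_le]
    intro l hl y hy
    rw [hL] at hl
    obtain ⟨f, hf, e, he, rfl⟩ := Cfsg.Agent.Lib.Helper22.mem_sup_of_comm hFE hl
    obtain ⟨e₁, he₁, e₂, he₂, rfl⟩ := Cfsg.Agent.Lib.Helper22.mem_sup_of_comm hE₁₂ (hsplit he)
    have h1 : Commute e₁ y := (Subgroup.mem_centralizer_iff.mp (hE₁ he₁) y hy).symm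
    have h2 : Commute e₁ e₂ := hE₁₂ e₁ he₁ e₂ he₂
    have he₂E : e₂ ∈ sSup 𝒦 := h₂sub he₂
    have hc : ⁅e₂, y⁆ ∈ sSup 𝒦 := by
      have : ⁅e₂, y⁆ = e₂ * (y * e₂⁻¹ * y⁻¹) := by rw [commutatorElement_def]; group
      rw [this]
      exact Subgroup.mul_mem _ he₂E (hYE y hy _ (Subgroup.inv_mem _ he₂E))
    have hA : e₁ * e₂ * y * e₂⁻¹ * e₁⁻¹ = e₂ * y * e₂⁻¹ := by
      have hc1 : Commute e₁ (e₂ * y * e₂⁻¹) := (h2.mul_right h1).mul_right h2.inv_right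
      calc e₁ * e₂ * y * e₂⁻¹ * e₁⁻¹ = e₁ * (e₂ * y * e₂⁻¹) * e₁⁻¹ := by group
        _ = (e₂ * y * e₂⁻¹) * e₁ * e₁⁻¹ := by rw [hc1.eq]
        _ = e₂ * y * e₂⁻¹ := by group
    have hcalc : ⁅f * (e₁ * e₂), y⁆ = ⁅e₂, y⁆ * ⁅f, y⁆ := by
      calc ⁅f * (e₁ * e₂), y⁆ = f * (e₁ * e₂ * y * e₂⁻¹ * e₁⁻¹) * f⁻¹ * y⁻¹ := by
            rw [commutatorElement_def]; group
        _ = f * (e₂ * y * e₂⁻¹) * f⁻¹ * y⁻¹ := by rw [hA]
        _ = (f * ⁅e₂, y⁆) * (y * f⁻¹ * y⁻¹) := by rw [commutatorElement_def]; group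
        _ = (⁅e₂, y⁆ * f) * (y * f⁻¹ * y⁻¹) := by rw [hFE f hf _ hc]
        _ = ⁅e₂, y⁆ * ⁅f, y⁆ := by simp only [commutatorElement_def]; group
    rw [hcalc]
    exact Subgroup.mul_mem _ (Subgroup.mem_sup_left (Subgroup.commutator_mem_commutator he₂ hy))
      (Subgroup.mem_sup_right (Subgroup.commutator_mem_commutator hf hy))
  have hkey : ⁅L, Y⁆ ≤ ⁅⁅L, Y⁆, Y⁆ := hkey0.trans (sup_le hE₂' hF')
  refine ⟨hE₂, hkey0, ?_, le_antisymm hkey (Subgroup.commutator_mono hYLc le_rfl)⟩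
  apply le_antisymm (sup_le hYLc inf_le_left)
  have hFle : F ≤ ⁅L, Y⁆ ⊔ (L ⊓ Subgroup.centralizer (Y : Set G)) := by
    calc F = ⁅F, Y⁆ ⊔ (F ⊓ Subgroup.centralizer (Y : Set G)) := hF1.symm
      _ ≤ _ := sup_le_sup (Subgroup.commutator_mono hFL le_rfl) (inf_le_inf_right _ hFL)
  have hEle : sSup 𝒦 ≤ ⁅L, Y⁆ ⊔ (L ⊓ Subgroup.centralizer (Y : Set G)) := by
    apply sSup_le
    intro K hK
    by_cases h : Y ≤ Subgroup.centralizer (K : Set G)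
    · exact (le_inf ((le_sSup hK).trans hEL) (Subgroup.le_centralizer_iff.mp h)).trans
        le_sup_right
    · have h1 : K ≤ sSup 𝒦₂ := le_sSup ((mem₂ K).mpr ⟨hK, h⟩)
      exact (h1.trans (hE₂.trans (Subgroup.commutator_mono hE₂L le_rfl))).trans le_sup_left
  calc L = F ⊔ sSup 𝒦 := hL
    _ ≤ _ := sup_le hFle hEle

/-- A finite group with `O_p = 1` has Fitting subgroup of order prime to `p`. -/
theorem card_fittingSubgroup_coprime (M : Type*) [Group M] [Finite M] {p : ℕ} [Fact p.Prime]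
    (hO : Cfsg.pCore p M = ⊥) : (Nat.card ↥(Cfsg.fittingSubgroup M)).Coprime p := by
  have hp : p.Prime := Fact.out
  rw [Nat.coprime_comm, Nat.Prime.coprime_iff_not_dvd hp]
  intro hdvd
  obtain ⟨x, hx⟩ := exists_prime_orderOf_dvd_card' (G := ↥(Cfsg.fittingSubgroup M)) p hdvd
  have hnil : Group.IsNilpotent ↥(Cfsg.fittingSubgroup M) :=
    Cfsg.Agent.Lib.Helper22.fittingSubgroup_nilpotent M
  have hZsn : (Subgroup.zpowers x).IsSubnormal := (Cfsg.Agent.S0064.result).mp hnil _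
  have hZp : IsPGroup p ↥(Subgroup.zpowers x) := by
    apply IsPGroup.of_card (n := 1)
    rw [Nat.card_zpowers, hx, pow_one]
  have h1 : ((Subgroup.zpowers x).map (Cfsg.fittingSubgroup M).subtype).IsSubnormal :=
    hZsn.trans' (Subgroup.Normal.isSubnormal (Cfsg.Agent.Lib.Helper22.fittingSubgroup_normal' M))
  have h2 : IsPGroup p ↥((Subgroup.zpowers x).map (Cfsg.fittingSubgroup M).subtype) :=
    hZp.map _
  have h3 := Cfsg.Agent.Lib.Helper47.le_pCore_of_isSubnormal_of_isPGroup h1 h2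
  rw [hO] at h3
  have h4 : (x : M) ∈ (⊥ : Subgroup M) :=
    h3 (Subgroup.mem_map.mpr ⟨x, Subgroup.mem_zpowers x, rfl⟩)
  rw [Subgroup.mem_bot] at h4
  have h5 : x = 1 := Subtype.ext h4
  rw [h5, orderOf_one] at hx
  exact hp.one_lt.ne hx

/-- A subnormal subgroup of `H` inside `F*(H)`, where `O_p(H) = 1`: it is its own generalized
Fitting subgroup and has trivial `O_p`. -/
theorem fstar_data [Finite G] {p : ℕ} [Fact p.Prime] (H L : Subgroup G)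
    (hO : Cfsg.pCore p ↥H = ⊥)
    (hLF : L ≤ (Cfsg.generalizedFittingSubgroup ↥H).map H.subtype)
    (hLsn : (L.subgroupOf H).IsSubnormal) :
    Cfsg.fittingSubgroup ↥L ⊔ Cfsg.layer ↥L = ⊤ ∧ Cfsg.pCore p ↥L = ⊥ := by
  have hLH : L ≤ H := hLF.trans (Subgroup.map_subtype_le _)
  have hS : L.subgroupOf H ≤ Cfsg.generalizedFittingSubgroup ↥H := by
    intro s hs
    obtain ⟨t, ht, hts⟩ := Subgroup.mem_map.mp (hLF (Subgroup.mem_subgroupOf.mp hs))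
    have : t = s := Subtype.ext hts
    rw [← this]; exact ht
  have h18 := (Cfsg.Agent.S1318.result (L.subgroupOf H) hS hLsn.subgroupOf).2
  constructor
  · have h1 := congrArg (Subgroup.map (Subgroup.subgroupOfEquivOfLe hLH).toMonoidHom) h18
    rw [Subgroup.map_sup, Cfsg.Agent.Lib.Helper22.fittingSubgroup_map_equiv,
      Cfsg.Agent.Lib.Helper22.layer_map_equiv] at h1
    rw [h1]
    exact Subgroup.map_top_of_surjective _ (Subgroup.subgroupOfEquivOfLe hLH).surjective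
  · have h1 : Cfsg.pCoreOf p (L.subgroupOf H) ≤ Cfsg.pCore p ↥H :=
      Cfsg.Agent.Lib.Helper47.pCoreOf_le_pCore_of_isSubnormal hLsn
    rw [hO, le_bot_iff] at h1
    have h2 : Cfsg.pCore p ↥(L.subgroupOf H) = ⊥ :=
      (Subgroup.map_eq_bot_iff_of_injective _ (Subgroup.subtype_injective _)).mp h1
    rw [← Cfsg.Agent.Lib.Helper46.pCore_map_equiv p (Subgroup.subgroupOfEquivOfLe hLH), h2,
      Subgroup.map_bot]

/-- The family of (images of) components of `L`. -/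
def compFamily (L : Subgroup G) : Set (Subgroup G) :=
  {K' | ∃ K : Subgroup ↥L, Cfsg.IsComponent K ∧ K' = K.map L.subtype}

theorem conj_map_subtype (L : Subgroup G) (y : G) (hy : y ∈ Subgroup.normalizer (L : Set G))
    (K : Subgroup ↥L) :
    (K.map L.subtype).map (MulAut.conj y).toMonoidHom =
      (K.map (Cfsg.Agent.Lib.Helper48.normConj L ⟨y, hy⟩).toMonoidHom).map L.subtype := by
  ext x
  constructor
  · rintro ⟨_, ⟨k, hk, rfl⟩, rfl⟩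
    exact ⟨Cfsg.Agent.Lib.Helper48.normConj L ⟨y, hy⟩ k, ⟨k, hk, rfl⟩, rfl⟩
  · rintro ⟨_, ⟨k, hk, rfl⟩, rfl⟩
    exact ⟨L.subtype k, ⟨k, hk, rfl⟩, rfl⟩

/-- The `F*`-action lemma for a subgroup `L = F*(L)` with `O_p(L) = 1`. -/
theorem fstar_action_of_data [Finite G] {p : ℕ} [Fact p.Prime] (L Y : Subgroup G)
    (hM1 : Cfsg.fittingSubgroup ↥L ⊔ Cfsg.layer ↥L = ⊤)
    (hM2 : Cfsg.pCore p ↥L = ⊥)
    (hY : IsPGroup p ↥Y) (hYL : Y ≤ Subgroup.normalizer (L : Set G)) :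
    (sSup {K | K ∈ compFamily L ∧ ¬ Y ≤ Subgroup.centralizer (K : Set G)} ≤
        ⁅sSup {K | K ∈ compFamily L ∧ ¬ Y ≤ Subgroup.centralizer (K : Set G)}, Y⁆) ∧
      (⁅L, Y⁆ ≤ ⁅sSup {K | K ∈ compFamily L ∧ ¬ Y ≤ Subgroup.centralizer (K : Set G)}, Y⁆ ⊔
        ⁅(Cfsg.fittingSubgroup ↥L).map L.subtype, Y⁆) ∧
      ⁅L, Y⁆ ⊔ (L ⊓ Subgroup.centralizer (Y : Set G)) = L ∧ ⁅L, Y⁆ = ⁅⁅L, Y⁆, Y⁆ := by
  apply fstar_action_core (F := (Cfsg.fittingSubgroup ↥L).map L.subtype) (𝒦 := compFamily L)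
    hY hYL
  · apply wc_le_normalizer_of_conj_mem
    intro y hy n hn
    have h1 : y * n * y⁻¹ ∈
        ((Cfsg.fittingSubgroup ↥L).map L.subtype).map (MulAut.conj y).toMonoidHom :=
      Subgroup.mem_map.mpr ⟨n, hn, rfl⟩
    rw [conj_map_subtype L y (hYL hy), Cfsg.Agent.Lib.Helper22.fittingSubgroup_map_equiv] at h1
    exact h1
  · have h1 : Nat.card ↥((Cfsg.fittingSubgroup ↥L).map L.subtype) =
        Nat.card ↥(Cfsg.fittingSubgroup ↥L) :=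
      (Nat.card_congr ((Cfsg.fittingSubgroup ↥L).equivMapOfInjective L.subtype
        L.subtype_injective).toEquiv).symm
    rw [h1]
    exact card_fittingSubgroup_coprime ↥L hM2
  · rintro K' ⟨K, hK, rfl⟩
    rw [← Subgroup.map_commutator, Cfsg.Agent.Lib.Helper22.IsComponent.perfect hK]
  · rintro K' ⟨K, hK, rfl⟩ N hNK hKN
    exact qs_normal_dichotomy
      (Cfsg.Agent.Lib.Helper21.isQuasisimple_of_mulEquiv
        (K.equivMapOfInjective L.subtype L.subtype_injective).symm hK.2) hNK hKN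
  · rintro K₁' ⟨K₁, hK₁, rfl⟩ K₂' ⟨K₂, hK₂, rfl⟩ hne
    have hne' : K₁ ≠ K₂ := fun h => hne (by rw [h])
    rw [← Subgroup.map_commutator, Cfsg.Agent.Lib.Helper22.components_commute hK₁ hK₂ hne',
      Subgroup.map_bot]
  · rintro K' ⟨K, hK, rfl⟩ y hy
    exact ⟨K.map (Cfsg.Agent.Lib.Helper48.normConj L ⟨y, hYL hy⟩).toMonoidHom,
      Cfsg.Agent.Lib.Helper22.isComponent_map_equiv _ hK, conj_map_subtype L y (hYL hy) K⟩
  · rintro K' ⟨K, hK, rfl⟩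
    rw [← Subgroup.map_commutator]
    have h1 : ⁅Cfsg.fittingSubgroup ↥L, K⁆ ≤ ⁅Cfsg.layer ↥L, Cfsg.fittingSubgroup ↥L⁆ := by
      rw [Subgroup.commutator_comm]
      exact Subgroup.commutator_mono (Cfsg.Agent.Lib.Helper22.component_le_layer hK) le_rfl
    rw [Cfsg.Agent.Lib.Helper22.commutator_layer_fittingSubgroup, le_bot_iff] at h1
    rw [h1, Subgroup.map_bot]
  · apply le_antisymm
    · intro l hl
      have h1 : (⟨l, hl⟩ : ↥L) ∈ Cfsg.fittingSubgroup ↥L ⊔ Cfsg.layer ↥L := by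
        rw [hM1]; exact Subgroup.mem_top _
      have h2 : l ∈ (Cfsg.fittingSubgroup ↥L ⊔ Cfsg.layer ↥L).map L.subtype :=
        Subgroup.mem_map.mpr ⟨⟨l, hl⟩, h1, rfl⟩
      rw [Subgroup.map_sup] at h2
      have h3 : (Cfsg.layer ↥L).map L.subtype ≤ sSup (compFamily L) := by
        rw [Subgroup.map_le_iff_le_comap, Cfsg.Agent.Lib.Helper22.layer_le_iff]
        intro K hK
        rw [← Subgroup.map_le_iff_le_comap]
        exact le_sSup ⟨K, hK, rfl⟩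
      exact (sup_le_sup le_rfl h3) h2
    · apply sup_le
      · exact Subgroup.map_subtype_le _
      · apply sSup_le
        rintro K' ⟨K, hK, rfl⟩
        exact Subgroup.map_subtype_le _

end FstarAction

end Cfsg.Agent.Lib.Helper50
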