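import Mathlib
import Cfsg.Prelude.Def_BaumannBlocks

set_option autoImplicit false
open scoped Pointwise

namespace Cfsg.Agent.Lib.Helper50

variable {G : Type*} [Group G]

/-- The product formula `|HK| * |H ∩ K| = |H| * |K|` for subgroups of a group. -/
theorem card_mul_card_inf (H K : Subgroup G) :
    Nat.card ((H : Set G) * (K : Set G) : Set G) * Nat.card ↥(H ⊓ K) = Nat.card H * Nat.card K := by
  rw [← Nat.card_prod, ← Nat.card_prod]
  apply Nat.card_congr
  have hdec : ∀ x : ((H : Set G) * (K : Set G) : Set G), ∃ h ∈ H, ∃ k ∈ K, h * k = (x : G) :=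
    fun x => Set.mem_mul.mp x.2
  choose hh hhH kk kkK hhk using hdec
  refine
    { toFun := fun xd => (⟨hh xd.1 * xd.2, H.mul_mem (hhH _) xd.2.2.1⟩,
        ⟨(xd.2 : G)⁻¹ * kk xd.1, K.mul_mem (K.inv_mem xd.2.2.2) (kkK _)⟩)
      invFun := fun hk => (⟨hk.1 * hk.2, Set.mul_mem_mul hk.1.2 hk.2.2⟩,
        ⟨(hh ⟨hk.1 * hk.2, Set.mul_mem_mul hk.1.2 hk.2.2⟩)⁻¹ * hk.1, ?_, ?_⟩)
      left_inv := ?_
      right_inv := ?_ }
  · exact H.mul_mem (H.inv_mem (hhH _)) hk.1.2
  · have h1 := hhk ⟨hk.1 * hk.2, Set.mul_mem_mul hk.1.2 hk.2.2⟩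
    have h2 : (hh ⟨hk.1 * hk.2, Set.mul_mem_mul hk.1.2 hk.2.2⟩)⁻¹ * (hk.1 : G)
        = kk ⟨hk.1 * hk.2, Set.mul_mem_mul hk.1.2 hk.2.2⟩ * (hk.2 : G)⁻¹ := by
      rw [inv_mul_eq_iff_eq_mul, ← mul_assoc, h1]
      simp
    rw [h2]
    exact K.mul_mem (kkK _) (K.inv_mem hk.2.2)
  · rintro ⟨x, d⟩
    apply Prod.ext
    · apply Subtype.ext
      simp only
      have := hhk x
      calc hh x * (d : G) * ((d : G)⁻¹ * kk x) = hh x * kk x := by group
        _ = x := this
    · apply Subtype.ext
      simp only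
      have e : (⟨hh x * (d : G) * ((d : G)⁻¹ * kk x), Set.mul_mem_mul (H.mul_mem (hhH x) d.2.1)
          (K.mul_mem (K.inv_mem d.2.2) (kkK x))⟩ : ((H : Set G) * (K : Set G) : Set G)) = x := by
        apply Subtype.ext
        simp only
        have := hhk x
        calc hh x * (d : G) * ((d : G)⁻¹ * kk x) = hh x * kk x := by group
          _ = x := this
      rw [e]
      group
  · rintro ⟨h, k⟩
    apply Prod.ext
    · apply Subtype.ext
      simp
    · apply Subtype.ext
      simp only
      have h1 := hhk ⟨h * k, Set.mul_mem_mul h.2 k.2⟩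
      simp only at h1
      rw [mul_inv_rev, inv_inv, mul_assoc, h1]
      group


/-- `|HK| ≤ |⟨H,K⟩|`, with equality only if `HK` is the join. -/
theorem card_mul_le_card_sup [Finite G] (H K : Subgroup G) :
    Nat.card ((H : Set G) * (K : Set G) : Set G) ≤ Nat.card ↥(H ⊔ K) := by
  have hsub : ((H : Set G) * (K : Set G) : Set G) ⊆ ((H ⊔ K : Subgroup G) : Set G) := by
    rintro _ ⟨h, hh, k, hk, rfl⟩
    exact Subgroup.mul_mem_sup hh hk
  exact Nat.card_mono (Set.toFinite _) hsub

theorem mul_eq_sup_of_card_le [Finite G] (H K : Subgroup G)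
    (h : Nat.card ↥(H ⊔ K) ≤ Nat.card ((H : Set G) * (K : Set G) : Set G)) :
    ((H ⊔ K : Subgroup G) : Set G) = (H : Set G) * (K : Set G) := by
  have hsub : ((H : Set G) * (K : Set G) : Set G) ⊆ ((H ⊔ K : Subgroup G) : Set G) := by
    rintro _ ⟨h, hh, k, hk, rfl⟩
    exact Subgroup.mul_mem_sup hh hk
  symm
  apply Set.eq_of_subset_of_ncard_le hsub _ (Set.toFinite _)
  rw [← Nat.card_coe_set_eq, ← Nat.card_coe_set_eq]
  exact h

/-- `|H| * |K| ≤ |⟨H,K⟩| * |H ∩ K|`. -/
theorem card_mul_card_le [Finite G] (H K : Subgroup G) :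
    Nat.card H * Nat.card K ≤ Nat.card ↥(H ⊔ K) * Nat.card ↥(H ⊓ K) := by
  rw [← card_mul_card_inf H K]
  exact Nat.mul_le_mul_right _ (card_mul_le_card_sup H K)

theorem mul_eq_sup_of_card_mul_card [Finite G] (H K : Subgroup G)
    (h : Nat.card ↥(H ⊔ K) * Nat.card ↥(H ⊓ K) ≤ Nat.card H * Nat.card K) :
    ((H ⊔ K : Subgroup G) : Set G) = (H : Set G) * (K : Set G) := by
  apply mul_eq_sup_of_card_le
  rw [← card_mul_card_inf H K] at h
  exact Nat.le_of_mul_le_mul_right h Nat.card_pos

theorem centralizer_sup_eq (H K : Subgroup G) :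
    Subgroup.centralizer ((H ⊔ K : Subgroup G) : Set G)
      = Subgroup.centralizer (H : Set G) ⊓ Subgroup.centralizer (K : Set G) := by
  apply le_antisymm
  · exact le_inf
      (Subgroup.centralizer_le (show (H : Set G) ⊆ ((H ⊔ K : Subgroup G) : Set G) from
        SetLike.coe_subset_coe.mpr le_sup_left))
      (Subgroup.centralizer_le (show (K : Set G) ⊆ ((H ⊔ K : Subgroup G) : Set G) from
        SetLike.coe_subset_coe.mpr le_sup_right))
  · rw [Subgroup.le_centralizer_iff]
    apply sup_le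
    · rw [Subgroup.le_centralizer_iff]; exact inf_le_left
    · rw [Subgroup.le_centralizer_iff]; exact inf_le_right

theorem centralizer_sup_le_centralizer_inf (H K : Subgroup G) :
    Subgroup.centralizer (H : Set G) ⊔ Subgroup.centralizer (K : Set G)
      ≤ Subgroup.centralizer ((H ⊓ K : Subgroup G) : Set G) :=
  sup_le
    (Subgroup.centralizer_le (show ((H ⊓ K : Subgroup G) : Set G) ⊆ (H : Set G) from
      SetLike.coe_subset_coe.mpr inf_le_left))
    (Subgroup.centralizer_le (show ((H ⊓ K : Subgroup G) : Set G) ⊆ (K : Set G) from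
      SetLike.coe_subset_coe.mpr inf_le_right))

section measure

variable [Finite G]

theorem bddAbove_centralizerProduct :
    BddAbove {k : ℕ | ∃ R : Subgroup G,
      Nat.card ↥R * Nat.card ↥(Subgroup.centralizer (R : Set G)) = k} := by
  refine ⟨Nat.card G * Nat.card G, ?_⟩
  rintro k ⟨R, rfl⟩
  exact Nat.mul_le_mul (Subgroup.card_le_card_group R) (Subgroup.card_le_card_group _)

/-- Every subgroup has measure at most the maximum. -/
theorem measure_le_max (R : Subgroup G) :
    Nat.card ↥R * Nat.card ↥(Subgroup.centralizer (R : Set G)) ≤ Cfsg.maxCentralizerProduct G :=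
  le_csSup bddAbove_centralizerProduct ⟨R, rfl⟩

theorem exists_isCentralizerLarge : ∃ R : Subgroup G, Cfsg.IsCentralizerLarge R := by
  have := Nat.sSup_mem (s := {k : ℕ | ∃ R : Subgroup G,
      Nat.card ↥R * Nat.card ↥(Subgroup.centralizer (R : Set G)) = k}) ⟨_, ⟨⊥, rfl⟩⟩
    bddAbove_centralizerProduct
  obtain ⟨R, hR⟩ := this
  exact ⟨R, hR⟩

theorem max_pos : 0 < Cfsg.maxCentralizerProduct G :=
  lt_of_lt_of_le (Nat.mul_pos Nat.card_pos Nat.card_pos) (measure_le_max (⊥ : Subgroup G))

/-- The Chermak–Delgado lattice theorem. -/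
theorem chermak_delgado (Q R : Subgroup G) (hQ : Cfsg.IsCentralizerLarge Q)
    (hR : Cfsg.IsCentralizerLarge R) :
    ((Q ⊔ R : Subgroup G) : Set G) = (Q : Set G) * (R : Set G) ∧ Cfsg.IsCentralizerLarge (Q ⊔ R) ∧
    Cfsg.IsCentralizerLarge (Q ⊓ R) ∧
    ((Subgroup.centralizer (Q : Set G) ⊔ Subgroup.centralizer (R : Set G) : Subgroup G) : Set G)
      = (Subgroup.centralizer (Q : Set G) : Set G) * (Subgroup.centralizer (R : Set G) : Set G) ∧
    Subgroup.centralizer ((Q ⊓ R : Subgroup G) : Set G)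
      = Subgroup.centralizer (Q : Set G) ⊔ Subgroup.centralizer (R : Set G) := by
  set M := Cfsg.maxCentralizerProduct G with hM
  have hMpos : 0 < M := max_pos
  have hQ' : Nat.card ↥Q * Nat.card ↥(Subgroup.centralizer (Q : Set G)) = M := hQ
  have hR' : Nat.card ↥R * Nat.card ↥(Subgroup.centralizer (R : Set G)) = M := hR
  set a := Nat.card ↥Q with ha
  set b := Nat.card ↥R with hb
  set c := Nat.card ↥(Subgroup.centralizer (Q : Set G)) with hc
  set d := Nat.card ↥(Subgroup.centralizer (R : Set G)) with hd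
  set s := Nat.card ↥(Q ⊔ R) with hs
  set i := Nat.card ↥(Q ⊓ R) with hi
  set u := Nat.card ↥(Subgroup.centralizer (Q : Set G) ⊓ Subgroup.centralizer (R : Set G)) with hu
  set t := Nat.card ↥(Subgroup.centralizer (Q : Set G) ⊔ Subgroup.centralizer (R : Set G)) with ht
  set v := Nat.card ↥(Subgroup.centralizer ((Q ⊓ R : Subgroup G) : Set G)) with hv
  have h1 : a * b ≤ s * i := card_mul_card_le Q R
  have h2 : c * d ≤ t * u := card_mul_card_le _ _
  have h3 : t ≤ v := Subgroup.card_le_of_le (centralizer_sup_le_centralizer_inf Q R)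
  have h4 : s * u ≤ M := by
    have := measure_le_max (Q ⊔ R)
    rw [centralizer_sup_eq] at this
    exact this
  have h5 : i * v ≤ M := measure_le_max (Q ⊓ R)
  have hupos : 0 < u := Nat.card_pos
  have hipos : 0 < i := Nat.card_pos
  have hspos : 0 < s := Nat.card_pos
  have hvpos : 0 < v := Nat.card_pos
  have htpos : 0 < t := Nat.card_pos
  have habpos : 0 < a * b := Nat.mul_pos Nat.card_pos Nat.card_pos
  have hcdpos : 0 < c * d := Nat.mul_pos Nat.card_pos Nat.card_pos
  -- the chain of inequalities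
  have h6 : M * M = (a * b) * (c * d) := by
    calc M * M = (a * c) * (b * d) := by rw [hQ', hR']
      _ = (a * b) * (c * d) := by ring
  have h7 : (a * b) * (c * d) ≤ (s * i) * (t * u) := Nat.mul_le_mul h1 h2
  have h8 : (s * i) * (t * u) ≤ (s * i) * (v * u) :=
    Nat.mul_le_mul_left _ (Nat.mul_le_mul_right _ h3)
  have h9 : (s * i) * (v * u) = (s * u) * (i * v) := by ring
  have h10 : (s * u) * (i * v) ≤ M * M := Nat.mul_le_mul h4 h5
  -- all are equalities
  have e1 : s * u = M := by
    by_contra hne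
    have hlt : s * u < M := lt_of_le_of_ne h4 hne
    have : (s * u) * (i * v) < M * M :=
      lt_of_lt_of_le (Nat.mul_lt_mul_of_pos_right hlt (Nat.mul_pos hipos hvpos))
        (Nat.mul_le_mul_left _ h5)
    omega
  have e2 : i * v = M := by
    by_contra hne
    have hlt : i * v < M := lt_of_le_of_ne h5 hne
    have : (s * u) * (i * v) < M * M := by
      rw [e1]
      exact Nat.mul_lt_mul_of_pos_left hlt hMpos
    omega
  have e3 : a * b = s * i := by
    by_contra hne
    have hlt : a * b < s * i := lt_of_le_of_ne h1 hne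
    have : (a * b) * (c * d) < (s * i) * (t * u) :=
      lt_of_lt_of_le (Nat.mul_lt_mul_of_pos_right hlt hcdpos) (Nat.mul_le_mul_left _ h2)
    omega
  have e4 : c * d = t * u := by
    by_contra hne
    have hlt : c * d < t * u := lt_of_le_of_ne h2 hne
    have : (a * b) * (c * d) < (s * i) * (t * u) := by
      rw [e3]
      exact Nat.mul_lt_mul_of_pos_left hlt (Nat.mul_pos hspos hipos)
    omega
  have e5 : t = v := by
    by_contra hne
    have hlt : t < v := lt_of_le_of_ne h3 hne
    have : (s * i) * (t * u) < (s * i) * (v * u) :=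
      Nat.mul_lt_mul_of_pos_left (Nat.mul_lt_mul_of_pos_right hlt hupos) (Nat.mul_pos hspos hipos)
    omega
  refine ⟨?_, ?_, ?_, ?_, ?_⟩
  · exact mul_eq_sup_of_card_mul_card Q R (le_of_eq e3.symm)
  · change Nat.card ↥(Q ⊔ R) * Nat.card ↥(Subgroup.centralizer ((Q ⊔ R : Subgroup G) : Set G)) = M
    rw [centralizer_sup_eq]
    exact e1
  · exact e2
  · exact mul_eq_sup_of_card_mul_card _ _ (le_of_eq e4.symm)
  · symm
    exact Subgroup.eq_of_le_of_card_ge (centralizer_sup_le_centralizer_inf Q R) (le_of_eq e5.symm)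

/-- The centralizer of a measure-largest subgroup is measure-largest, and the subgroup is its own
double centralizer. -/
theorem chermak_delgado_centralizer (Q : Subgroup G) (hQ : Cfsg.IsCentralizerLarge Q) :
    Cfsg.IsCentralizerLarge (Subgroup.centralizer (Q : Set G)) ∧
    Q = Subgroup.centralizer ((Subgroup.centralizer (Q : Set G) : Subgroup G) : Set G) := by
  have hQ' : Nat.card ↥Q * Nat.card ↥(Subgroup.centralizer (Q : Set G))
      = Cfsg.maxCentralizerProduct G := hQ
  have hle : Q ≤ Subgroup.centralizer ((Subgroup.centralizer (Q : Set G) : Subgroup G) : Set G) :=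
    Subgroup.le_centralizer_iff.mp le_rfl
  have h1 := measure_le_max (Subgroup.centralizer (Q : Set G))
  have h2 : Nat.card ↥Q ≤
      Nat.card ↥(Subgroup.centralizer ((Subgroup.centralizer (Q : Set G) : Subgroup G) : Set G)) :=
    Subgroup.card_le_of_le hle
  have hcpos : 0 < Nat.card ↥(Subgroup.centralizer (Q : Set G)) := Nat.card_pos
  have h3 : Nat.card ↥(Subgroup.centralizer ((Subgroup.centralizer (Q : Set G) : Subgroup G) : Set G))
      ≤ Nat.card ↥Q := by
    have h1' : Nat.card ↥(Subgroup.centralizer (Q : Set G)) *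
        Nat.card ↥(Subgroup.centralizer ((Subgroup.centralizer (Q : Set G) : Subgroup G) : Set G))
        ≤ Nat.card ↥(Subgroup.centralizer (Q : Set G)) * Nat.card ↥Q := by
      rw [mul_comm (Nat.card ↥(Subgroup.centralizer (Q : Set G))) (Nat.card ↥Q), hQ']
      exact h1
    exact Nat.le_of_mul_le_mul_left h1' hcpos
  have h4 : Nat.card ↥(Subgroup.centralizer ((Subgroup.centralizer (Q : Set G) : Subgroup G) : Set G))
      = Nat.card ↥Q := le_antisymm h3 h2
  refine ⟨?_, ?_⟩
  · change Nat.card ↥(Subgroup.centralizer (Q : Set G)) *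
      Nat.card ↥(Subgroup.centralizer ((Subgroup.centralizer (Q : Set G) : Subgroup G) : Set G))
      = Cfsg.maxCentralizerProduct G
    rw [h4, mul_comm]; exact hQ'
  · exact Subgroup.eq_of_le_of_card_ge hle h3

end measure

end Cfsg.Agent.Lib.Helper50
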