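import Mathlib
import Cfsg.Prelude.Def_BaumannBlocks
import Cfsg.Agent.Lib.Helper50.ChermakDelgado

set_option autoImplicit false
open scoped Pointwise

namespace Cfsg.Agent.Lib.Helper50

variable {G : Type*} [Group G]

/-- The centre of a subgroup `R`, viewed in the ambient group, is `R ⊓ C_G(R)`. -/
theorem center_map_subtype (R : Subgroup G) :
    (Subgroup.center ↥R).map R.subtype = R ⊓ Subgroup.centralizer (R : Set G) := by
  ext x
  rw [Subgroup.mem_map, Subgroup.mem_inf]
  constructor
  · rintro ⟨y, hy, rfl⟩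
    refine ⟨y.2, ?_⟩
    rw [Subgroup.mem_centralizer_iff]
    intro h hh
    have := Subgroup.mem_center_iff.mp hy ⟨h, hh⟩
    exact congrArg Subtype.val this
  · rintro ⟨hxR, hxC⟩
    refine ⟨⟨x, hxR⟩, ?_, rfl⟩
    rw [Subgroup.mem_center_iff]
    intro g
    apply Subtype.ext
    exact (Subgroup.mem_centralizer_iff.mp hxC) g g.2

theorem card_center_eq (R : Subgroup G) :
    Nat.card ↥(Subgroup.center ↥R) = Nat.card ↥(R ⊓ Subgroup.centralizer (R : Set G)) := by
  rw [← center_map_subtype R]
  exact (Subgroup.card_map_of_injective R.subtype_injective).symm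

section

variable [Finite G]

theorem bddAbove_centralProduct :
    BddAbove {k : ℕ | ∃ R : Subgroup G,
      Nat.card ↥R * Nat.card ↥(Subgroup.center ↥R) = k} := by
  refine ⟨Nat.card G * Nat.card G, ?_⟩
  rintro k ⟨R, rfl⟩
  refine Nat.mul_le_mul (Subgroup.card_le_card_group R) ?_
  rw [card_center_eq]
  exact Subgroup.card_le_card_group _

theorem centralProduct_le_max (R : Subgroup G) :
    Nat.card ↥R * Nat.card ↥(Subgroup.center ↥R) ≤ Cfsg.maxCentralProduct G :=
  le_csSup bddAbove_centralProduct ⟨R, rfl⟩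

theorem exists_isCentrallyLarge : ∃ R : Subgroup G, Cfsg.IsCentrallyLarge R := by
  have := Nat.sSup_mem (s := {k : ℕ | ∃ R : Subgroup G,
      Nat.card ↥R * Nat.card ↥(Subgroup.center ↥R) = k}) ⟨_, ⟨⊥, rfl⟩⟩
    bddAbove_centralProduct
  obtain ⟨R, hR⟩ := this
  exact ⟨R, hR⟩

theorem centralProduct_le_centralizerProduct (R : Subgroup G) :
    Nat.card ↥R * Nat.card ↥(Subgroup.center ↥R)
      ≤ Nat.card ↥R * Nat.card ↥(Subgroup.centralizer (R : Set G)) := by
  rw [card_center_eq]
  exact Nat.mul_le_mul_left _ (Subgroup.card_le_of_le inf_le_right)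

/-- The two maxima agree: `f(G) = f₁(G)`. -/
theorem maxCentralProduct_eq : Cfsg.maxCentralProduct G = Cfsg.maxCentralizerProduct G := by
  apply le_antisymm
  · obtain ⟨R, hR⟩ := exists_isCentrallyLarge (G := G)
    have hR' : Nat.card ↥R * Nat.card ↥(Subgroup.center ↥R) = Cfsg.maxCentralProduct G := hR
    rw [← hR']
    exact (centralProduct_le_centralizerProduct R).trans (measure_le_max R)
  · obtain ⟨R, hR⟩ := exists_isCentralizerLarge (G := G)
    obtain ⟨hC, hRR⟩ := chermak_delgado_centralizer R hR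
    obtain ⟨-, hT, -, -, -⟩ := chermak_delgado R _ hR hC
    have hT' : Nat.card ↥(R ⊔ Subgroup.centralizer (R : Set G)) *
        Nat.card ↥(Subgroup.centralizer ((R ⊔ Subgroup.centralizer (R : Set G) : Subgroup G) : Set G))
        = Cfsg.maxCentralizerProduct G := hT
    have hle : Subgroup.centralizer ((R ⊔ Subgroup.centralizer (R : Set G) : Subgroup G) : Set G)
        ≤ R ⊔ Subgroup.centralizer (R : Set G) := by
      rw [centralizer_sup_eq]
      exact inf_le_left.trans le_sup_right
    have := centralProduct_le_max (R ⊔ Subgroup.centralizer (R : Set G))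
    rw [card_center_eq, inf_of_le_right hle, hT'] at this
    exact this

/-- A centrally large subgroup is measure-largest and contains its centralizer. -/
theorem isCentralizerLarge_of_isCentrallyLarge (Q : Subgroup G) (hQ : Cfsg.IsCentrallyLarge Q) :
    Cfsg.IsCentralizerLarge Q ∧ Subgroup.centralizer (Q : Set G) ≤ Q := by
  have hQ' : Nat.card ↥Q * Nat.card ↥(Subgroup.center ↥Q) = Cfsg.maxCentralProduct G := hQ
  rw [maxCentralProduct_eq] at hQ'
  have h1 := centralProduct_le_centralizerProduct Q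
  have h2 := measure_le_max Q
  have h3 : Nat.card ↥Q * Nat.card ↥(Subgroup.centralizer (Q : Set G))
      = Cfsg.maxCentralizerProduct G := le_antisymm h2 (hQ' ▸ h1)
  refine ⟨h3, ?_⟩
  have h4 : Nat.card ↥Q * Nat.card ↥(Subgroup.centralizer (Q : Set G))
      = Nat.card ↥Q * Nat.card ↥(Q ⊓ Subgroup.centralizer (Q : Set G)) := by
    rw [h3, ← hQ', card_center_eq]
  have h5 : Nat.card ↥(Subgroup.centralizer (Q : Set G))
      = Nat.card ↥(Q ⊓ Subgroup.centralizer (Q : Set G)) :=
    Nat.eq_of_mul_eq_mul_left Nat.card_pos h4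
  have h6 : Q ⊓ Subgroup.centralizer (Q : Set G) = Subgroup.centralizer (Q : Set G) :=
    Subgroup.eq_of_le_of_card_ge inf_le_right (le_of_eq h5)
  rw [← h6]
  exact inf_le_left

/-- A measure-largest subgroup containing its centralizer is centrally large. -/
theorem isCentrallyLarge_of_isCentralizerLarge (Q : Subgroup G) (hQ : Cfsg.IsCentralizerLarge Q)
    (hle : Subgroup.centralizer (Q : Set G) ≤ Q) : Cfsg.IsCentrallyLarge Q := by
  have hQ' : Nat.card ↥Q * Nat.card ↥(Subgroup.centralizer (Q : Set G))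
      = Cfsg.maxCentralizerProduct G := hQ
  change Nat.card ↥Q * Nat.card ↥(Subgroup.center ↥Q) = Cfsg.maxCentralProduct G
  rw [maxCentralProduct_eq, card_center_eq, inf_of_le_right hle]
  exact hQ'

/-- The join of two centrally large subgroups is their product and is centrally large. -/
theorem isCentrallyLarge_sup (Q R : Subgroup G) (hQ : Cfsg.IsCentrallyLarge Q)
    (hR : Cfsg.IsCentrallyLarge R) :
    ((Q ⊔ R : Subgroup G) : Set G) = (Q : Set G) * (R : Set G) ∧ Cfsg.IsCentrallyLarge (Q ⊔ R) := by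
  obtain ⟨hQ1, hQ2⟩ := isCentralizerLarge_of_isCentrallyLarge Q hQ
  obtain ⟨hR1, hR2⟩ := isCentralizerLarge_of_isCentrallyLarge R hR
  obtain ⟨h1, h2, -, -, -⟩ := chermak_delgado Q R hQ1 hR1
  refine ⟨h1, isCentrallyLarge_of_isCentralizerLarge _ h2 ?_⟩
  rw [centralizer_sup_eq]
  exact inf_le_left.trans (hQ2.trans le_sup_left)

/-- The join of a nonempty family of centrally large subgroups is centrally large. -/
theorem isCentrallyLarge_sSup (S : Set (Subgroup G)) (hS : ∀ R ∈ S, Cfsg.IsCentrallyLarge R)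
    (hne : S.Nonempty) : Cfsg.IsCentrallyLarge (sSup S) := by
  have hfin : S.Finite := Set.toFinite S
  revert hS hne
  refine Set.Finite.induction_on (motive := fun S _ => (∀ R ∈ S, Cfsg.IsCentrallyLarge R) →
    S.Nonempty → Cfsg.IsCentrallyLarge (sSup S)) S hfin ?_ ?_
  · intro _ h
    exact absurd h Set.not_nonempty_empty
  · intro a T _ _ ih hS _
    rw [sSup_insert]
    by_cases hT : T.Nonempty
    · exact (isCentrallyLarge_sup a (sSup T) (hS a (Set.mem_insert a T))
        (ih (fun R hR => hS R (Set.mem_insert_of_mem a hR)) hT)).2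
    · rw [Set.not_nonempty_iff_eq_empty] at hT
      rw [hT, sSup_empty, sup_bot_eq]
      exact hS a (Set.mem_insert a T)

theorem isCentrallyLarge_centrallyLargeJoin :
    Cfsg.IsCentrallyLarge (Cfsg.centrallyLargeJoin G) := by
  apply isCentrallyLarge_sSup
  · intro R hR; exact hR
  · exact exists_isCentrallyLarge

theorem exists_isMinimalCentrallyLarge_le (Q : Subgroup G) (hQ : Cfsg.IsCentrallyLarge Q) :
    ∃ R : Subgroup G, R ≤ Q ∧ Cfsg.IsMinimalCentrallyLarge R := by
  obtain ⟨R, hRQ, hR⟩ := exists_minimal_le_of_wellFoundedLT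
    (fun R : Subgroup G => Cfsg.IsCentrallyLarge R) Q hQ
  refine ⟨R, hRQ, hR.1, ?_⟩
  intro R' hR' hCL
  exact le_antisymm hR' (hR.2 hCL hR')

theorem isCentrallyLarge_minimalCentrallyLargeJoin :
    Cfsg.IsCentrallyLarge (Cfsg.minimalCentrallyLargeJoin G) := by
  apply isCentrallyLarge_sSup
  · intro R hR; exact hR.1
  · obtain ⟨Q, hQ⟩ := exists_isCentrallyLarge (G := G)
    obtain ⟨R, -, hR⟩ := exists_isMinimalCentrallyLarge_le Q hQ
    exact ⟨R, hR⟩

end

end Cfsg.Agent.Lib.Helper50
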