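import Mathlib
import Cfsg.Prelude.Def_Local
import Cfsg.Prelude.Def_Solvable
import Cfsg.Prelude.Def_Amalgam
import Cfsg.Agent.Lib.Helper30.Bender
import Cfsg.Agent.Lib.Helper50.FstarAction

set_option autoImplicit false

namespace Cfsg.Agent.Lib.Helper50

open scoped commutatorElement

section FstarAction2

variable {G : Type*} [Group G]

/-- The data needed by `fstar_action_of_data`, for a subnormal subgroup of `F*(G)`. -/
theorem fstar_data_top [Finite G] {p : ℕ} [Fact p.Prime] (L : Subgroup G)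
    (hO : Cfsg.pCore p G = ⊥)
    (hLF : L ≤ Cfsg.generalizedFittingSubgroup G)
    (hLsn : L.IsSubnormal) :
    Cfsg.fittingSubgroup ↥L ⊔ Cfsg.layer ↥L = ⊤ ∧ Cfsg.pCore p ↥L = ⊥ := by
  have h18 := (Cfsg.Agent.S1318.result L hLF hLsn.subgroupOf).2
  refine ⟨h18, ?_⟩
  have h1 : Cfsg.pCoreOf p L ≤ Cfsg.pCore p G :=
    Cfsg.Agent.Lib.Helper47.pCoreOf_le_pCore_of_isSubnormal hLsn
  rw [hO, le_bot_iff] at h1
  exact (Subgroup.map_eq_bot_iff_of_injective _ (Subgroup.subtype_injective _)).mp h1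

/-- `[F*(G), Y] = [F*(G), Y, Y]` for a `p`-subgroup `Y` when `O_p(G) = 1`. -/
theorem fstar_comm_idem [Finite G] {p : ℕ} [Fact p.Prime]
    (hO : Cfsg.pCore p G = ⊥) (Y : Subgroup G) (hY : IsPGroup p ↥Y) :
    ⁅Cfsg.generalizedFittingSubgroup G, Y⁆ = ⁅⁅Cfsg.generalizedFittingSubgroup G, Y⁆, Y⁆ := by
  have hXn : (Cfsg.generalizedFittingSubgroup G).Normal :=
    Cfsg.Agent.Lib.Helper22.generalizedFittingSubgroup_normal' G
  have hXdata := fstar_data_top (Cfsg.generalizedFittingSubgroup G) hO le_rfl hXn.isSubnormal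
  have hYN : Y ≤ Subgroup.normalizer ((Cfsg.generalizedFittingSubgroup G : Subgroup G) : Set G) := by
    rw [Subgroup.normalizer_eq_top]; exact le_top
  exact (fstar_action_of_data (Cfsg.generalizedFittingSubgroup G) Y hXdata.1 hXdata.2 hY hYN).2.2.2

/-- A subnormal subgroup `K` normalizes `F*(G) ⊓ K`. -/
theorem le_normalizer_fstar_inf [Finite G] (K : Subgroup G) :
    K ≤ Subgroup.normalizer ((Cfsg.generalizedFittingSubgroup G ⊓ K : Subgroup G) : Set G) := by
  have hXn : (Cfsg.generalizedFittingSubgroup G).Normal :=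
    Cfsg.Agent.Lib.Helper22.generalizedFittingSubgroup_normal' G
  apply wc_le_normalizer_of_conj_mem
  intro g hg n hn
  exact Subgroup.mem_inf.mpr ⟨hXn.conj_mem n (Subgroup.mem_inf.mp hn).1 g,
    K.mul_mem (K.mul_mem hg (Subgroup.mem_inf.mp hn).2) (K.inv_mem hg)⟩

/-- `F*(G) ⊓ K` is subnormal for subnormal `K`. -/
theorem fstar_inf_isSubnormal [Finite G] {K : Subgroup G} (hK : K.IsSubnormal) :
    (Cfsg.generalizedFittingSubgroup G ⊓ K).IsSubnormal :=
  Subgroup.IsSubnormal.step _ K inf_le_right hK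
    ((Subgroup.normal_subgroupOf_iff_le_normalizer inf_le_right).mpr (le_normalizer_fstar_inf K))

/-- `[F*(G), Y] ≤ F*(G) ⊓ K` for a `p`-subgroup `Y` of a subnormal subgroup `K`. -/
theorem fstar_comm_le_of_isSubnormal [Finite G] {p : ℕ} [Fact p.Prime]
    (hO : Cfsg.pCore p G = ⊥) (Y : Subgroup G) (hY : IsPGroup p ↥Y)
    {K : Subgroup G} (hK : K.IsSubnormal) (hYK : Y ≤ K) :
    ⁅Cfsg.generalizedFittingSubgroup G, Y⁆ ≤ Cfsg.generalizedFittingSubgroup G ⊓ K := by
  have hXn : (Cfsg.generalizedFittingSubgroup G).Normal :=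
    Cfsg.Agent.Lib.Helper22.generalizedFittingSubgroup_normal' G
  induction hK with
  | top =>
    refine le_inf ?_ le_top
    rw [Subgroup.commutator_le]
    intro x hx y _
    rw [commutatorElement_def]
    have h1 : y * x⁻¹ * y⁻¹ ∈ Cfsg.generalizedFittingSubgroup G :=
      hXn.conj_mem _ (Subgroup.inv_mem _ hx) y
    have h2 : x * y * x⁻¹ * y⁻¹ = x * (y * x⁻¹ * y⁻¹) := by group
    rw [h2]
    exact Subgroup.mul_mem _ hx h1
  | step K₀ K₁ hle hK₁ hn ih =>
    have ih' := ih (hYK.trans hle)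
    have hN : K₁ ≤ Subgroup.normalizer (K₀ : Set G) :=
      (Subgroup.normal_subgroupOf_iff_le_normalizer hle).mp hn
    have h3 : ⁅Cfsg.generalizedFittingSubgroup G ⊓ K₁, Y⁆ ≤
        Cfsg.generalizedFittingSubgroup G ⊓ K₀ := by
      rw [Subgroup.commutator_le]
      intro x hx y hy
      rw [commutatorElement_def]
      have hx1 := (Subgroup.mem_inf.mp hx).1
      have hx2 := (Subgroup.mem_inf.mp hx).2
      refine Subgroup.mem_inf.mpr ⟨?_, ?_⟩
      · have h1 : y * x⁻¹ * y⁻¹ ∈ Cfsg.generalizedFittingSubgroup G :=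
          hXn.conj_mem _ (Subgroup.inv_mem _ hx1) y
        have h2 : x * y * x⁻¹ * y⁻¹ = x * (y * x⁻¹ * y⁻¹) := by group
        rw [h2]
        exact Subgroup.mul_mem _ hx1 h1
      · have h1 : x * y * x⁻¹ ∈ K₀ :=
          (Subgroup.mem_normalizer_iff.mp (hN hx2) y).mp (hYK hy)
        exact K₀.mul_mem h1 (K₀.inv_mem (hYK hy))
    calc ⁅Cfsg.generalizedFittingSubgroup G, Y⁆
        = ⁅⁅Cfsg.generalizedFittingSubgroup G, Y⁆, Y⁆ := fstar_comm_idem hO Y hY
      _ ≤ ⁅Cfsg.generalizedFittingSubgroup G ⊓ K₁, Y⁆ := Subgroup.commutator_mono ih' le_rfl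
      _ ≤ Cfsg.generalizedFittingSubgroup G ⊓ K₀ := h3

/-- A `p`-subgroup centralizing `F*(G)` is trivial when `O_p(G) = 1`. -/
theorem eq_bot_of_le_centralizer_fstar [Finite G] {p : ℕ} [Fact p.Prime]
    (hO : Cfsg.pCore p G = ⊥) (Y₀ : Subgroup G) (hY₀ : IsPGroup p ↥Y₀)
    (h3 : Y₀ ≤ Subgroup.centralizer ((Cfsg.generalizedFittingSubgroup G : Subgroup G) : Set G)) :
    Y₀ = ⊥ := by
  haveI hXn : (Cfsg.generalizedFittingSubgroup G).Normal :=
    Cfsg.Agent.Lib.Helper22.generalizedFittingSubgroup_normal' G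
  haveI hCn : (Subgroup.centralizer
      ((Cfsg.generalizedFittingSubgroup G : Subgroup G) : Set G)).Normal := inferInstance
  have hZn : (Cfsg.generalizedFittingSubgroup G ⊓ Subgroup.centralizer
      ((Cfsg.generalizedFittingSubgroup G : Subgroup G) : Set G)).Normal := inferInstance
  have hY₀Z : Y₀ ≤ Cfsg.generalizedFittingSubgroup G ⊓ Subgroup.centralizer
      ((Cfsg.generalizedFittingSubgroup G : Subgroup G) : Set G) :=
    le_inf (h3.trans (Cfsg.Agent.Lib.Helper30.centralizer_generalizedFittingSubgroup_le G)) h3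
  have hZN : Cfsg.generalizedFittingSubgroup G ⊓ Subgroup.centralizer
      ((Cfsg.generalizedFittingSubgroup G : Subgroup G) : Set G) ≤
      Subgroup.normalizer (Y₀ : Set G) := by
    apply wc_le_normalizer_of_conj_mem
    intro z hz n hn
    have hzc := (Subgroup.mem_inf.mp hz).2
    have hnX : n ∈ Cfsg.generalizedFittingSubgroup G := (Subgroup.mem_inf.mp (hY₀Z hn)).1
    have h4 : n * z = z * n := Subgroup.mem_centralizer_iff.mp hzc n hnX
    rw [← h4, mul_inv_cancel_right]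
    exact hn
  have hY₀sn : Y₀.IsSubnormal :=
    Subgroup.IsSubnormal.step _ _ hY₀Z hZn.isSubnormal
      ((Subgroup.normal_subgroupOf_iff_le_normalizer hY₀Z).mpr hZN)
  have h5 := Cfsg.Agent.Lib.Helper47.le_pCore_of_isSubnormal_of_isPGroup hY₀sn hY₀
  rw [hO] at h5
  exact le_bot_iff.mp h5

/-- A `p`-subgroup `Y₀` with `[F*(G), Y₀] = 1` is trivial when `O_p(G) = 1`. -/
theorem eq_bot_of_fstar_comm_eq_bot [Finite G] {p : ℕ} [Fact p.Prime]
    (hO : Cfsg.pCore p G = ⊥) (Y₀ : Subgroup G) (hY₀ : IsPGroup p ↥Y₀)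
    (h2 : ⁅Cfsg.generalizedFittingSubgroup G, Y₀⁆ = ⊥) : Y₀ = ⊥ := by
  apply eq_bot_of_le_centralizer_fstar hO Y₀ hY₀
  have h4 := Subgroup.commutator_eq_bot_iff_le_centralizer.mp h2
  intro y hy
  rw [Subgroup.mem_centralizer_iff]
  intro x hx
  have h5 := h4 hx
  rw [Subgroup.mem_centralizer_iff] at h5
  exact (h5 y hy).symm

end FstarAction2

end Cfsg.Agent.Lib.Helper50
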