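import Mathlib
import Cfsg.Prelude.Def_Local
import Cfsg.Prelude.Def_Solvable
import Cfsg.Prelude.Def_Transfer
import Cfsg.Prelude.Def_SubgroupEmbedding
import Cfsg.Agent.Lib.Helper47.Subn
import Cfsg.Agent.Lib.Helper47.Basic
import Cfsg.Agent.Lib.Helper22.Comp
import Cfsg.Agent.Lib.Helper22.Layer
import Cfsg.Agent.Lib.Helper22.Fstar
import Cfsg.Agent.Lib.Helper21.Quasi
import Cfsg.Agent.Lib.Helper47.PIrr
import Cfsg.Agent.Lib.Helper30.Bender
import Cfsg.Agent.S3012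

set_option autoImplicit false

namespace Cfsg.Agent.Lib.Helper50

universe u

/-- Elementwise description of elementary abelian 2-subgroups. -/
theorem sk_elemAb_iff {G : Type*} [Group G] (V : Subgroup G) :
    Cfsg.IsElementaryAbelian 2 V ↔
      (∀ a ∈ V, ∀ b ∈ V, a * b = b * a) ∧ ∀ a ∈ V, a * a = 1 := by
  constructor
  · intro hV
    refine ⟨fun a ha b hb => ?_, fun a ha => ?_⟩
    · haveI := hV.1
      exact congrArg Subtype.val (mul_comm' (⟨a, ha⟩ : ↥V) ⟨b, hb⟩)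
    · rw [← pow_two]; exact hV.2 a ha
  · rintro ⟨hc, h2⟩
    refine ⟨IsMulCommutative.of_comm (fun a b => Subtype.ext (hc a a.2 b b.2)), fun a ha => ?_⟩
    rw [pow_two]; exact h2 a ha

theorem sk_odd_mul {G : Type*} [Group G] {x y : G} (hc : x * y = y * x)
    (hx : Odd (orderOf x)) (hy : Odd (orderOf y)) : Odd (orderOf (x * y)) := by
  have hdvd := (show Commute x y from hc).orderOf_mul_dvd_lcm
  have h2 : Nat.lcm (orderOf x) (orderOf y) ∣ orderOf x * orderOf y := Nat.lcm_dvd_mul _ _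
  exact Odd.of_dvd_nat (hx.mul hy) (hdvd.trans h2)

theorem sk_eq_one_of_odd_of_sq {G : Type*} [Group G] {y : G} (ho : Odd (orderOf y))
    (h : y * y = 1) : y = 1 := by
  have h2 : y ^ 2 = 1 := by rw [pow_two]; exact h
  have hd : orderOf y ∣ 2 := orderOf_dvd_of_pow_eq_one h2
  have h1 : orderOf y = 1 := by
    rcases (Nat.dvd_prime Nat.prime_two).mp hd with h | h
    · exact h
    · rw [h] at ho; exact absurd ho (by decide)
  exact orderOf_eq_one_iff.mp h1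

theorem sk_eq_one_of_inv_comm {G : Type*} [Group G] {v y : G} (ho : Odd (orderOf y))
    (hinv : v * y * v⁻¹ = y⁻¹) (hc : v * y = y * v) : y = 1 := by
  apply sk_eq_one_of_odd_of_sq ho
  rw [hc, mul_inv_cancel_right] at hinv
  calc y * y = y * y⁻¹ := by rw [← hinv]
    _ = 1 := mul_inv_cancel y

/-- An element of `O_2(H)` centralizes every subnormal subgroup `N ≤ H` of `G` normalized by `H`,
provided `O_2(G) = 1`. -/
theorem sk_mem_centralizer_of_mem_pCore {G : Type*} [Group G] [Finite G]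
    (hO : Cfsg.pCore 2 G = ⊥) (H N : Subgroup G) (hNH : N ≤ H)
    (hHN : H ≤ Subgroup.normalizer (N : Set G)) (hNsn : N.IsSubnormal) (x : ↥H)
    (hx : x ∈ Cfsg.pCore 2 ↥H) : (x : G) ∈ Subgroup.centralizer (N : Set G) := by
  haveI : Fact (Nat.Prime 2) := ⟨Nat.prime_two⟩
  haveI hPn : (Cfsg.pCore 2 ↥H).Normal := Subgroup.sSup_normal _ (fun _ h => h.1)
  obtain ⟨P, hP⟩ : ∃ P : Subgroup G, P = (Cfsg.pCore 2 ↥H).map H.subtype := ⟨_, rfl⟩
  have hP2 : IsPGroup 2 ↥P := by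
    rw [hP]; exact (Cfsg.Agent.Lib.Helper47.pCore_isPGroup 2 ↥H).map H.subtype
  have hD2 : IsPGroup 2 ↥(P ⊓ N) := hP2.to_le inf_le_left
  have hDn : ((P ⊓ N).subgroupOf N).Normal := by
    constructor
    intro n hn g
    rw [Subgroup.mem_subgroupOf] at hn ⊢
    obtain ⟨hnP, -⟩ := hn
    rw [hP] at hnP
    obtain ⟨y, hy, hyn⟩ := hnP
    refine ⟨?_, (g * n * g⁻¹).2⟩
    rw [hP]
    refine ⟨⟨(g : G), hNH g.2⟩ * y * ⟨(g : G), hNH g.2⟩⁻¹, hPn.conj_mem y hy _, ?_⟩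
    show (g : G) * (y : G) * (g : G)⁻¹ = (g : G) * (n : G) * (g : G)⁻¹
    rw [show (y : G) = (n : G) from hyn]
  have hDsn : (P ⊓ N).IsSubnormal := Subgroup.IsSubnormal.step _ N inf_le_right hNsn hDn
  have hD : P ⊓ N = ⊥ := by
    have h1 := Cfsg.Agent.Lib.Helper47.le_pCore_of_isSubnormal_of_isPGroup hDsn hD2
    rw [hO] at h1
    exact le_bot_iff.mp h1
  rw [Subgroup.mem_centralizer_iff]
  intro n hn
  have hxP : (x : G) ∈ P := by rw [hP]; exact ⟨x, hx, rfl⟩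
  have h1 : (x : G) * n * (x : G)⁻¹ * n⁻¹ ∈ P ⊓ N := by
    constructor
    · have hnx : n * (x : G)⁻¹ * n⁻¹ ∈ P := by
        rw [hP]
        exact ⟨⟨n, hNH hn⟩ * x⁻¹ * ⟨n, hNH hn⟩⁻¹,
          hPn.conj_mem _ ((Cfsg.pCore 2 ↥H).inv_mem hx) _, rfl⟩
      have h2 := P.mul_mem hxP hnx
      have e : (x : G) * (n * (x : G)⁻¹ * n⁻¹) = (x : G) * n * (x : G)⁻¹ * n⁻¹ := by group
      rw [e] at h2
      exact h2
    · have hxn : (x : G) * n * (x : G)⁻¹ ∈ N :=
        (Subgroup.mem_normalizer_iff.mp (hHN x.2) n).mp hn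
      exact N.mul_mem hxn (N.inv_mem hn)
  rw [hD, Subgroup.mem_bot] at h1
  have h2 : (x : G) * n * (x : G)⁻¹ * n⁻¹ * (n * (x : G)) = n * (x : G) := by rw [h1, one_mul]
  rw [← h2]; group

/-- The Sidki pair condition passes to subgroups containing `V`. -/
theorem sk_isSidkiPair_subgroupOf {G : Type*} [Group G] {V H : Subgroup G}
    (hS : Cfsg.IsSidkiPair V) (hVH : V ≤ H) : Cfsg.IsSidkiPair (V.subgroupOf H) := by
  intro h v hv hodd hinv
  rw [Subgroup.mem_subgroupOf] at hv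
  have hodd' : Odd (orderOf (h : G)) := by rw [Subgroup.orderOf_coe]; exact hodd
  have hinv' : (v : G) * (h : G) * (v : G)⁻¹ = (h : G)⁻¹ := congrArg Subtype.val hinv
  obtain ⟨w, hwV, hw1, hwh⟩ := hS (h : G) (v : G) hv hodd' hinv'
  refine ⟨⟨w, hVH hwV⟩, Subgroup.mem_subgroupOf.mpr hwV, ?_, Subtype.ext hwh⟩
  intro h1
  exact hw1 (congrArg Subtype.val h1)

/-- Minimality applied to a proper subgroup `H` and a Sidki subgroup `B` of it. -/
theorem sk_exists_mem_pCore {G : Type u} [Group G] [Finite G]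
    (hminG : ∀ (H : Type u) [Group H] [Finite H] (W : Subgroup H), Nat.card H < Nat.card G →
      Cfsg.IsElementaryAbelian 2 W → W ≠ ⊥ → Cfsg.IsSidkiPair W → W ⊓ Cfsg.pCore 2 H ≠ ⊥)
    (H B : Subgroup G) (hBH : B ≤ H) (hH : H ≠ ⊤) (hBc : ∀ a ∈ B, ∀ b ∈ B, a * b = b * a)
    (hB2 : ∀ a ∈ B, a * a = 1) (hB1 : B ≠ ⊥) (hS : Cfsg.IsSidkiPair (B.subgroupOf H)) :
    ∃ y : ↥H, (y : G) ∈ B ∧ (y : G) ≠ 1 ∧ y ∈ Cfsg.pCore 2 ↥H := by
  have hcard : Nat.card ↥H < Nat.card G := by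
    apply lt_of_le_of_ne (Subgroup.card_le_card_group H)
    intro h
    exact hH ((Subgroup.card_eq_iff_eq_top H).mp h)
  have hW : Cfsg.IsElementaryAbelian 2 (B.subgroupOf H) := by
    rw [sk_elemAb_iff]
    exact ⟨fun a ha b hb => Subtype.ext (hBc a ha b hb), fun a ha => Subtype.ext (hB2 a ha)⟩
  have hW1 : B.subgroupOf H ≠ ⊥ := by
    intro h
    apply hB1
    rw [eq_bot_iff]
    intro x hx
    have h1 : (⟨x, hBH hx⟩ : ↥H) ∈ B.subgroupOf H := hx
    rw [h, Subgroup.mem_bot] at h1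
    rw [Subgroup.mem_bot]
    exact congrArg Subtype.val h1
  have hne := hminG ↥H (B.subgroupOf H) hcard hW hW1 hS
  obtain ⟨y, hy, hy1⟩ : ∃ y ∈ B.subgroupOf H ⊓ Cfsg.pCore 2 ↥H, y ≠ 1 := by
    by_contra hcon
    push_neg at hcon
    exact hne ((Subgroup.eq_bot_iff_forall _).mpr hcon)
  exact ⟨y, hy.1, fun e => hy1 (Subtype.ext e), hy.2⟩

/-- Complements in groups of exponent two. -/
theorem sk_exists_compl {A : Type*} [Group A] [Finite A] (hc : ∀ a b : A, a * b = b * a)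
    (h2 : ∀ a : A, a * a = 1) (K : Subgroup A) :
    ∃ C : Subgroup A, C ⊓ K = ⊥ ∧ ∀ w : A, ∃ k ∈ K, ∃ c ∈ C, w = k * c := by
  obtain ⟨C, -, hC⟩ := Finite.exists_le_maximal (p := fun C : Subgroup A => C ⊓ K = ⊥)
    (a := ⊥) (bot_inf_eq K)
  refine ⟨C, hC.prop, fun w => ?_⟩
  by_contra hw
  push_neg at hw
  haveI hCn : C.Normal := ⟨fun n hn g => by rw [hc g n, mul_inv_cancel_right]; exact hn⟩
  have hne : (C ⊔ Subgroup.zpowers w) ⊓ K ≠ ⊥ := by
    intro h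
    have hle : C ⊔ Subgroup.zpowers w ≤ C := hC.le_of_ge h le_sup_left
    exact hw 1 K.one_mem w (hle (Subgroup.mem_sup_right (Subgroup.mem_zpowers w))) (one_mul w).symm
  obtain ⟨x, hx, hx1⟩ : ∃ x ∈ (C ⊔ Subgroup.zpowers w) ⊓ K, x ≠ 1 := by
    by_contra hcon
    push_neg at hcon
    exact hne ((Subgroup.eq_bot_iff_forall _).mpr hcon)
  have hxs : x ∈ ((C ⊔ Subgroup.zpowers w : Subgroup A) : Set A) := hx.1
  rw [Subgroup.normal_mul] at hxs
  obtain ⟨c, hc', z, hz, hcz⟩ := hxs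
  have hcz' : c * z = x := hcz
  subst hcz'
  obtain ⟨i, rfl⟩ := Subgroup.mem_zpowers_iff.mp hz
  have hwi : w ^ i = 1 ∨ w ^ i = w := by
    rcases Int.even_or_odd i with ⟨j, rfl⟩ | ⟨j, rfl⟩
    · left
      rw [← two_mul, zpow_mul, zpow_two, h2, one_zpow]
    · right
      rw [zpow_add, zpow_one, zpow_mul, zpow_two, h2, one_zpow, one_mul]
  rcases hwi with h | h
  · rw [h, mul_one] at hx hx1
    have h3 : c ∈ C ⊓ K := ⟨hc', hx.2⟩
    rw [hC.prop, Subgroup.mem_bot] at h3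
    exact hx1 h3
  · rw [h] at hx
    exact hw (c * w) hx.2 c⁻¹ (C.inv_mem hc') (by rw [hc c w, mul_inv_cancel_right])

theorem sk_exists_compl' {G : Type*} [Group G] [Finite G] (B K₀ : Subgroup G)
    (hBc : ∀ a ∈ B, ∀ b ∈ B, a * b = b * a) (hB2 : ∀ a ∈ B, a * a = 1) :
    ∃ B' : Subgroup G, B' ≤ B ∧ B' ⊓ K₀ = ⊥ ∧ ∀ w ∈ B, ∃ k ∈ K₀, ∃ b' ∈ B', w = k * b' := by
  obtain ⟨C, hC, hdec⟩ := sk_exists_compl (A := ↥B) (fun a b => Subtype.ext (hBc a a.2 b b.2))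
    (fun a => Subtype.ext (hB2 a a.2)) (K₀.subgroupOf B)
  refine ⟨C.map B.subtype, Subgroup.map_subtype_le C, ?_, ?_⟩
  · rw [eq_bot_iff]
    rintro x ⟨⟨c, hc, rfl⟩, hxK⟩
    have h3 : c ∈ C ⊓ K₀.subgroupOf B := ⟨hc, hxK⟩
    rw [hC, Subgroup.mem_bot] at h3
    rw [Subgroup.mem_bot, h3, map_one]
  · intro w hw
    obtain ⟨k, hk, c, hc, hwkc⟩ := hdec ⟨w, hw⟩
    exact ⟨(k : G), hk, (c : G), ⟨c, hc, rfl⟩, congrArg Subtype.val hwkc⟩

/-- An element of odd order of `A B`, where `B` normalizes `A` and has exponent two, lies in `A`. -/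
theorem sk_mem_of_odd_of_mem_sup {G : Type*} [Group G] (A B : Subgroup G)
    (hBA : B ≤ Subgroup.normalizer (A : Set G)) (hB2 : ∀ b ∈ B, b * b = 1) {x : G}
    (hx : x ∈ A ⊔ B) (hodd : Odd (orderOf x)) : x ∈ A := by
  have hconj : ∀ b ∈ B, ∀ a ∈ A, b * a * b⁻¹ ∈ A := fun b hb a ha =>
    (Subgroup.mem_normalizer_iff.mp (hBA hb) a).mp ha
  have hdec : ∀ y ∈ Subgroup.closure ((A : Set G) ∪ (B : Set G)), ∃ a ∈ A, ∃ b ∈ B, y = a * b := by
    intro y hy
    induction hy using Subgroup.closure_induction with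
    | mem z hz =>
      rcases hz with hz | hz
      · exact ⟨z, hz, 1, B.one_mem, (mul_one z).symm⟩
      · exact ⟨1, A.one_mem, z, hz, (one_mul z).symm⟩
    | one => exact ⟨1, A.one_mem, 1, B.one_mem, (mul_one 1).symm⟩
    | mul z z' _ _ ih ih' =>
      obtain ⟨a, ha, b, hb, rfl⟩ := ih
      obtain ⟨a', ha', b', hb', rfl⟩ := ih'
      refine ⟨a * (b * a' * b⁻¹), A.mul_mem ha (hconj b hb a' ha'), b * b', B.mul_mem hb hb', ?_⟩
      group
    | inv z _ ih =>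
      obtain ⟨a, ha, b, hb, rfl⟩ := ih
      refine ⟨b⁻¹ * a⁻¹ * b⁻¹⁻¹, hconj b⁻¹ (B.inv_mem hb) a⁻¹ (A.inv_mem ha), b⁻¹, B.inv_mem hb, ?_⟩
      group
  have hx' : x ∈ Subgroup.closure ((A : Set G) ∪ (B : Set G)) := by
    rw [Subgroup.closure_union, Subgroup.closure_eq, Subgroup.closure_eq]; exact hx
  obtain ⟨a, ha, b, hb, rfl⟩ := hdec x hx'
  have hpow : ∀ n : ℕ, ∃ a' ∈ A, (a * b) ^ n = a' * b ^ n := by
    intro n
    induction n with
    | zero => exact ⟨1, A.one_mem, by simp⟩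
    | succ n ih =>
      obtain ⟨a', ha', h⟩ := ih
      refine ⟨a' * (b ^ n * a * (b ^ n)⁻¹), A.mul_mem ha' (hconj _ (B.pow_mem hb n) a ha), ?_⟩
      rw [pow_succ, h, pow_succ]; group
  obtain ⟨j, hj⟩ := hodd
  obtain ⟨a', ha', h⟩ := hpow (orderOf (a * b))
  rw [pow_orderOf_eq_one] at h
  have hb' : b ^ orderOf (a * b) = b := by
    rw [hj, pow_succ, pow_mul, pow_two, hB2 b hb, one_pow, one_mul]
  rw [hb'] at h
  have hbA : b ∈ A := by
    have e : b = a'⁻¹ := (inv_eq_iff_mul_eq_one.mpr h.symm).symm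
    rw [e]; exact A.inv_mem ha'
  exact A.mul_mem ha hbA

/-- The inductive hypothesis in a minimal counterexample to the Sidki pair theorem. -/
def sk_Min (G : Type u) [Group G] : Prop :=
  ∀ (H : Type u) [Group H] [Finite H] (W : Subgroup H), Nat.card H < Nat.card G →
    Cfsg.IsElementaryAbelian 2 W → W ≠ ⊥ → Cfsg.IsSidkiPair W → W ⊓ Cfsg.pCore 2 H ≠ ⊥

/-- Witnesses for the failure of the Sidki condition on a normal subgroup `N`, for a subgroup `B`
of exponent two acting nontrivially on `N`. -/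
theorem sk_lemmaA {G : Type u} [Group G] [Finite G] (hO : Cfsg.pCore 2 G = ⊥)
    (hminG : sk_Min G) (N : Subgroup G) [hNn : N.Normal] (B : Subgroup G)
    (hBc : ∀ a ∈ B, ∀ b ∈ B, a * b = b * a) (hB2 : ∀ a ∈ B, a * a = 1) (hNB : N ⊔ B ≠ ⊤)
    (hB : ¬ B ≤ Subgroup.centralizer (N : Set G)) :
    ∃ b ∈ B, ∃ h ∈ N, Odd (orderOf h) ∧ b * h * b⁻¹ = h⁻¹ ∧
      ∀ w ∈ B, w * h = h * w → w ∈ Subgroup.centralizer (N : Set G) := by
  obtain ⟨B', hB'B, hB'K, hdec⟩ :=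
    sk_exists_compl' B (B ⊓ Subgroup.centralizer (N : Set G)) hBc hB2
  have hB'1 : B' ≠ ⊥ := by
    intro h
    apply hB
    intro w hw
    obtain ⟨k, hk, b', hb', rfl⟩ := hdec w hw
    rw [h, Subgroup.mem_bot] at hb'
    rw [hb', mul_one]
    exact hk.2
  have hH : N ⊔ B' ≠ ⊤ := by
    intro h
    apply hNB
    rw [eq_top_iff, ← h]
    exact sup_le_sup_left hB'B N
  have hB'c : ∀ a ∈ B', ∀ b ∈ B', a * b = b * a := fun a ha b hb => hBc a (hB'B ha) b (hB'B hb)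
  have hB'2 : ∀ a ∈ B', a * a = 1 := fun a ha => hB2 a (hB'B ha)
  have hNtop : N ⊔ B' ≤ Subgroup.normalizer (N : Set G) := by
    rw [Subgroup.normalizer_eq_top_iff.mpr hNn]; exact le_top
  have hnS : ¬ Cfsg.IsSidkiPair (B'.subgroupOf (N ⊔ B')) := by
    intro hS
    obtain ⟨y, hyB, hy1, hyP⟩ :=
      sk_exists_mem_pCore hminG (N ⊔ B') B' le_sup_right hH hB'c hB'2 hB'1 hS
    have hyc := sk_mem_centralizer_of_mem_pCore hO (N ⊔ B') N le_sup_left hNtop
      hNn.isSubnormal y hyP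
    have h3 : (y : G) ∈ B' ⊓ (B ⊓ Subgroup.centralizer (N : Set G)) := ⟨hyB, hB'B hyB, hyc⟩
    rw [hB'K, Subgroup.mem_bot] at h3
    exact hy1 h3
  unfold Cfsg.IsSidkiPair at hnS
  push_neg at hnS
  obtain ⟨h, v, hv, hodd, hinv, hwit⟩ := hnS
  rw [Subgroup.mem_subgroupOf] at hv
  have hodd' : Odd (orderOf (h : G)) := by rw [Subgroup.orderOf_coe]; exact hodd
  have hinv' : (v : G) * (h : G) * (v : G)⁻¹ = (h : G)⁻¹ := congrArg Subtype.val hinv
  have hB'N : B' ≤ Subgroup.normalizer (N : Set G) := le_sup_right.trans hNtop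
  have hhN : (h : G) ∈ N := sk_mem_of_odd_of_mem_sup N B' hB'N hB'2 h.2 hodd'
  refine ⟨(v : G), hB'B hv, (h : G), hhN, hodd', hinv', ?_⟩
  intro w hw hwh
  obtain ⟨k, hk, b', hb', rfl⟩ := hdec w hw
  have hkh : k * (h : G) = (h : G) * k :=
    ((Subgroup.mem_centralizer_iff.mp hk.2) (h : G) hhN).symm
  have hb'h : b' * (h : G) = (h : G) * b' := by
    have e1 : k * (b' * (h : G)) = k * ((h : G) * b') := by
      calc k * (b' * (h : G)) = k * b' * (h : G) := by group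
        _ = (h : G) * (k * b') := hwh
        _ = (h : G) * k * b' := by group
        _ = k * (h : G) * b' := by rw [hkh]
        _ = k * ((h : G) * b') := by group
    exact mul_left_cancel e1
  have hb'1 : b' = 1 := by
    by_contra hne
    have hmem : (⟨b', (le_sup_right : B' ≤ N ⊔ B') hb'⟩ : ↥(N ⊔ B')) ∈ B'.subgroupOf (N ⊔ B') :=
      hb'
    have hne' : (⟨b', (le_sup_right : B' ≤ N ⊔ B') hb'⟩ : ↥(N ⊔ B')) ≠ 1 :=
      fun e => hne (congrArg Subtype.val e)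
    exact hwit _ hmem hne' (Subtype.ext hb'h)
  rw [hb'1, mul_one]
  exact hk.2

/-- The elements of `V` that centralize or invert `h`. -/
def sk_invSub {G : Type*} [Group G] (V : Subgroup G) (h : G) : Subgroup G where
  carrier := {w | w ∈ V ∧ (w * h * w⁻¹ = h ∨ w * h * w⁻¹ = h⁻¹)}
  one_mem' := ⟨V.one_mem, Or.inl (by group)⟩
  mul_mem' := by
    rintro a b ⟨ha, ha'⟩ ⟨hb, hb'⟩
    refine ⟨V.mul_mem ha hb, ?_⟩
    have e : a * b * h * (a * b)⁻¹ = a * (b * h * b⁻¹) * a⁻¹ := by group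
    rw [e]
    rcases hb' with hb' | hb'
    · rw [hb']; exact ha'
    · rw [hb']
      have e2 : a * h⁻¹ * a⁻¹ = (a * h * a⁻¹)⁻¹ := by group
      rw [e2]
      rcases ha' with ha' | ha'
      · right; rw [ha']
      · left; rw [ha', inv_inv]
  inv_mem' := by
    rintro a ⟨ha, ha'⟩
    refine ⟨V.inv_mem ha, ?_⟩
    have e0 : a⁻¹ * (a * h * a⁻¹) * a⁻¹⁻¹ = h := by group
    rcases ha' with ha' | ha'
    · left
      rw [ha'] at e0
      exact e0
    · right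
      rw [ha'] at e0
      have e2 : a⁻¹ * h * a⁻¹⁻¹ = (a⁻¹ * h⁻¹ * a⁻¹⁻¹)⁻¹ := by group
      rw [e2, e0]

theorem sk_invSub_le {G : Type*} [Group G] (V : Subgroup G) (h : G) : sk_invSub V h ≤ V :=
  fun _ hw => hw.1

theorem sk_mem_invSub_of_comm {G : Type*} [Group G] {V : Subgroup G} {h w : G} (hw : w ∈ V)
    (hc : w * h = h * w) : w ∈ sk_invSub V h :=
  ⟨hw, Or.inl (by rw [hc, mul_inv_cancel_right])⟩

theorem sk_comm_of_comm_mul {G : Type*} [Group G] (N₁ N₂ : Subgroup G) [hN₁ : N₁.Normal]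
    [hN₂ : N₂.Normal] (hinf : N₁ ⊓ N₂ = ⊥) {h₁ h₂ w : G} (h1 : h₁ ∈ N₁) (h2 : h₂ ∈ N₂)
    (hw : w * (h₁ * h₂) = (h₁ * h₂) * w) : w * h₁ = h₁ * w ∧ w * h₂ = h₂ * w := by
  have hmem : h₁⁻¹ * (w * h₁ * w⁻¹) ∈ N₁ ⊓ N₂ := by
    constructor
    · exact N₁.mul_mem (N₁.inv_mem h1) (hN₁.conj_mem h₁ h1 w)
    · have e : h₁⁻¹ * (w * h₁ * w⁻¹) = h₂ * (w * h₂ * w⁻¹)⁻¹ := by
        have e1 : (w * h₁ * w⁻¹) * (w * h₂ * w⁻¹) = h₁ * h₂ := by
          have e0 : w * (h₁ * h₂) * w⁻¹ = h₁ * h₂ := by rw [hw, mul_inv_cancel_right]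
          rw [← e0]; group
        rw [eq_mul_inv_iff_mul_eq, mul_assoc, e1, inv_mul_cancel_left]
      rw [e]
      exact N₂.mul_mem h2 (N₂.inv_mem (hN₂.conj_mem h₂ h2 w))
  rw [hinf, Subgroup.mem_bot] at hmem
  have hc1 : w * h₁ = h₁ * w := mul_inv_eq_iff_eq_mul.mp (inv_mul_eq_one.mp hmem).symm
  refine ⟨hc1, ?_⟩
  have e3 : h₁ * (w * h₂) = h₁ * (h₂ * w) := by
    calc h₁ * (w * h₂) = w * h₁ * h₂ := by rw [hc1, mul_assoc]
      _ = w * (h₁ * h₂) := by rw [mul_assoc]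
      _ = h₁ * h₂ * w := hw
      _ = h₁ * (h₂ * w) := by rw [mul_assoc]
  exact mul_left_cancel e3

theorem sk_sup_ne_top {G : Type*} [Group G] [Finite G] (hO : Cfsg.pCore 2 G = ⊥)
    (V : Subgroup G) (hV2 : ∀ a ∈ V, a * a = 1) (N₁ N₂ : Subgroup G) [hN₁ : N₁.Normal]
    [hN₂ : N₂.Normal] (hinf : N₁ ⊓ N₂ = ⊥) (h2 : N₂ ≠ ⊥) : N₁ ⊔ V ≠ ⊤ := by
  intro htop
  apply h2
  have hsq : ∀ x ∈ N₂, x * x = 1 := by
    intro x hx
    have hxs : x ∈ ((N₁ ⊔ V : Subgroup G) : Set G) := by rw [htop]; exact Subgroup.mem_top x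
    rw [Subgroup.normal_mul] at hxs
    obtain ⟨n, hn, v, hv, hnv⟩ := hxs
    have hnv' : n * v = x := hnv
    have hcomm : Commute n x :=
      Subgroup.commute_of_normal_of_disjoint N₁ N₂ hN₁ hN₂ (disjoint_iff.mpr hinf) n x hn hx
    have hv' : v = n⁻¹ * x := by rw [← hnv']; group
    have h1 := hV2 v hv
    rw [hv'] at h1
    have h3 : x * x = n * n := by
      have hc' : n⁻¹ * x = x * n⁻¹ := (hcomm.inv_left).eq
      have e1 : n⁻¹ * n⁻¹ * (x * x) = 1 := by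
        calc n⁻¹ * n⁻¹ * (x * x) = n⁻¹ * (n⁻¹ * x) * x := by group
          _ = n⁻¹ * (x * n⁻¹) * x := by rw [hc']
          _ = n⁻¹ * x * (n⁻¹ * x) := by group
          _ = 1 := h1
      have e : x * x = n * n * (n⁻¹ * n⁻¹ * (x * x)) := by group
      rw [e, e1, mul_one]
    have hmem : x * x ∈ N₁ ⊓ N₂ := ⟨by rw [h3]; exact N₁.mul_mem hn hn, N₂.mul_mem hx hx⟩
    rw [hinf, Subgroup.mem_bot] at hmem
    exact hmem
  have hp : IsPGroup 2 ↥N₂ := by
    intro g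
    refine ⟨1, ?_⟩
    rw [pow_one, pow_two]
    exact Subtype.ext (hsq g g.2)
  have hle := Cfsg.Agent.Lib.Helper47.le_pCore hN₂ hp
  rw [hO] at hle
  exact le_bot_iff.mp hle

theorem sk_exists_centralizing {G : Type u} [Group G] [Finite G] (hO : Cfsg.pCore 2 G = ⊥)
    (hminG : sk_Min G) (V : Subgroup G) (hVc : ∀ a ∈ V, ∀ b ∈ V, a * b = b * a)
    (hV2 : ∀ a ∈ V, a * a = 1) (hV1 : V ≠ ⊥) (hS : Cfsg.IsSidkiPair V)
    (N : Subgroup G) [hNn : N.Normal] (hNV : N ⊔ V ≠ ⊤) :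
    ∃ x ∈ V, x ≠ 1 ∧ x ∈ Subgroup.centralizer (N : Set G) := by
  obtain ⟨y, hyV, hy1, hyP⟩ := sk_exists_mem_pCore hminG (N ⊔ V) V le_sup_right hNV hVc hV2 hV1
    (sk_isSidkiPair_subgroupOf hS le_sup_right)
  exact ⟨(y : G), hyV, hy1, sk_mem_centralizer_of_mem_pCore hO (N ⊔ V) N le_sup_left
    (by rw [Subgroup.normalizer_eq_top_iff.mpr hNn]; exact le_top) hNn.isSubnormal y hyP⟩

/-- In a minimal counterexample with `O_2(G) = 1`, there is no pair of nontrivial normal subgroups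
with trivial intersection on which `V` acts jointly faithfully. -/
theorem sk_no_decomp {G : Type u} [Group G] [Finite G] (hO : Cfsg.pCore 2 G = ⊥)
    (hminG : sk_Min G) (V : Subgroup G) (hVc : ∀ a ∈ V, ∀ b ∈ V, a * b = b * a)
    (hV2 : ∀ a ∈ V, a * a = 1) (hV1 : V ≠ ⊥) (hS : Cfsg.IsSidkiPair V)
    (N₁ N₂ : Subgroup G) [hN₁ : N₁.Normal] [hN₂ : N₂.Normal] (hinf : N₁ ⊓ N₂ = ⊥)
    (hCV : ∀ v ∈ V, v ∈ Subgroup.centralizer (N₁ : Set G) →
      v ∈ Subgroup.centralizer (N₂ : Set G) → v = 1)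
    (h1 : N₁ ≠ ⊥) (h2 : N₂ ≠ ⊥) : False := by
  have hinf' : N₂ ⊓ N₁ = ⊥ := by rw [inf_comm]; exact hinf
  have hNV₁ : N₁ ⊔ V ≠ ⊤ := sk_sup_ne_top hO V hV2 N₁ N₂ hinf h2
  have hNV₂ : N₂ ⊔ V ≠ ⊤ := sk_sup_ne_top hO V hV2 N₂ N₁ hinf' h1
  obtain ⟨x₂, hx₂V, hx₂1, hx₂c⟩ := sk_exists_centralizing hO hminG V hVc hV2 hV1 hS N₁ hNV₁
  obtain ⟨x₁, hx₁V, hx₁1, hx₁c⟩ := sk_exists_centralizing hO hminG V hVc hV2 hV1 hS N₂ hNV₂
  have hx₁n : x₁ ∉ Subgroup.centralizer (N₁ : Set G) := fun h => hx₁1 (hCV x₁ hx₁V h hx₁c)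
  have hx₂n : x₂ ∉ Subgroup.centralizer (N₂ : Set G) := fun h => hx₂1 (hCV x₂ hx₂V hx₂c h)
  obtain ⟨a, haV, h₁, hh₁, hodd₁, hinv₁, hC₁⟩ := sk_lemmaA hO hminG N₁ V hVc hV2 hNV₁
    (fun hle => hx₁n (hle hx₁V))
  have hB₂V : sk_invSub V h₁ ≤ V := sk_invSub_le V h₁
  have hx₂B : x₂ ∈ sk_invSub V h₁ := sk_mem_invSub_of_comm hx₂V
    ((Subgroup.mem_centralizer_iff.mp hx₂c h₁ hh₁).symm)
  obtain ⟨b, hbB, h₂, hh₂, hodd₂, hinv₂, hC₂⟩ := sk_lemmaA hO hminG N₂ (sk_invSub V h₁)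
    (fun x hx y hy => hVc x (hB₂V hx) y (hB₂V hy)) (fun x hx => hV2 x (hB₂V hx))
    (fun htop => hNV₂ (eq_top_iff.mpr (by rw [← htop]; exact sup_le_sup_left hB₂V N₂)))
    (fun hle => hx₂n (hle hx₂B))
  have hbV : b ∈ V := hB₂V hbB
  have hcomm12 : ∀ x ∈ N₁, ∀ y ∈ N₂, x * y = y * x := fun x hx y hy =>
    (Subgroup.commute_of_normal_of_disjoint N₁ N₂ hN₁ hN₂ (disjoint_iff.mpr hinf) x y hx hy).eq
  have key : ∀ c ∈ V, ∀ k₁ ∈ N₁, ∀ k₂ ∈ N₂, Odd (orderOf k₁) → Odd (orderOf k₂) →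
      c * k₁ * c⁻¹ = k₁⁻¹ → c * k₂ * c⁻¹ = k₂⁻¹ →
      ∃ w ∈ V, w ≠ 1 ∧ w * k₁ = k₁ * w ∧ w * k₂ = k₂ * w := by
    intro c hc k₁ hk₁ k₂ hk₂ ho₁ ho₂ hi₁ hi₂
    have hodd : Odd (orderOf (k₁ * k₂)) := sk_odd_mul (hcomm12 k₁ hk₁ k₂ hk₂) ho₁ ho₂
    have hinv : c * (k₁ * k₂) * c⁻¹ = (k₁ * k₂)⁻¹ := by
      have e : c * (k₁ * k₂) * c⁻¹ = (c * k₁ * c⁻¹) * (c * k₂ * c⁻¹) := by group
      rw [e, hi₁, hi₂, mul_inv_rev, hcomm12 k₁⁻¹ (N₁.inv_mem hk₁) k₂⁻¹ (N₂.inv_mem hk₂)]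
    obtain ⟨w, hwV, hw1, hwc⟩ := hS (k₁ * k₂) c hc hodd hinv
    obtain ⟨hc1, hc2⟩ := sk_comm_of_comm_mul N₁ N₂ hinf hk₁ hk₂ hwc
    exact ⟨w, hwV, hw1, hc1, hc2⟩
  rcases hbB.2 with hb₁ | hb₁
  · have hbc : b * h₁ = h₁ * b := mul_inv_eq_iff_eq_mul.mp hb₁
    have hbC₁ : b ∈ Subgroup.centralizer (N₁ : Set G) := hC₁ b hbV hbc
    have hB₁V : sk_invSub V h₂ ≤ V := sk_invSub_le V h₂
    have hx₁B : x₁ ∈ sk_invSub V h₂ := sk_mem_invSub_of_comm hx₁V
      ((Subgroup.mem_centralizer_iff.mp hx₁c h₂ hh₂).symm)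
    obtain ⟨b', hb'B, h₁', hh₁', hodd₁', hinv₁', hC₁'⟩ := sk_lemmaA hO hminG N₁ (sk_invSub V h₂)
      (fun x hx y hy => hVc x (hB₁V hx) y (hB₁V hy)) (fun x hx => hV2 x (hB₁V hx))
      (fun htop => hNV₁ (eq_top_iff.mpr (by rw [← htop]; exact sup_le_sup_left hB₁V N₁)))
      (fun hle => hx₁n (hle hx₁B))
    have hb'V : b' ∈ V := hB₁V hb'B
    obtain ⟨c, hcV, hci₁, hci₂⟩ : ∃ c ∈ V, c * h₁' * c⁻¹ = h₁'⁻¹ ∧ c * h₂ * c⁻¹ = h₂⁻¹ := by
      rcases hb'B.2 with hb' | hb'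
      · refine ⟨b' * b, V.mul_mem hb'V hbV, ?_, ?_⟩
        · have hbh : b * h₁' * b⁻¹ = h₁' := by
            rw [mul_inv_eq_iff_eq_mul]
            exact ((Subgroup.mem_centralizer_iff.mp hbC₁ h₁' hh₁').symm)
          have e : b' * b * h₁' * (b' * b)⁻¹ = b' * (b * h₁' * b⁻¹) * b'⁻¹ := by group
          rw [e, hbh, hinv₁']
        · have e : b' * b * h₂ * (b' * b)⁻¹ = b' * (b * h₂ * b⁻¹) * b'⁻¹ := by group
          have e2 : b' * h₂⁻¹ * b'⁻¹ = (b' * h₂ * b'⁻¹)⁻¹ := by group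
          rw [e, hinv₂, e2, hb']
      · exact ⟨b', hb'V, hinv₁', hb'⟩
    obtain ⟨w, hwV, hw1, hwc₁, hwc₂⟩ := key c hcV h₁' hh₁' h₂ hh₂ hodd₁' hodd₂ hci₁ hci₂
    have hwB₁ : w ∈ sk_invSub V h₂ := sk_mem_invSub_of_comm hwV hwc₂
    have hwC₁ : w ∈ Subgroup.centralizer (N₁ : Set G) := hC₁' w hwB₁ hwc₁
    have hwh₁ : w * h₁ = h₁ * w := (Subgroup.mem_centralizer_iff.mp hwC₁ h₁ hh₁).symm
    have hwB₂ : w ∈ sk_invSub V h₁ := sk_mem_invSub_of_comm hwV hwh₁
    have hwC₂ : w ∈ Subgroup.centralizer (N₂ : Set G) := hC₂ w hwB₂ hwc₂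
    exact hw1 (hCV w hwV hwC₁ hwC₂)
  · obtain ⟨w, hwV, hw1, hwc₁, hwc₂⟩ := key b hbV h₁ hh₁ h₂ hh₂ hodd₁ hodd₂ hb₁ hinv₂
    have hwC₁ : w ∈ Subgroup.centralizer (N₁ : Set G) := hC₁ w hwV hwc₁
    have hwB₂ : w ∈ sk_invSub V h₁ := sk_mem_invSub_of_comm hwV hwc₁
    have hwC₂ : w ∈ Subgroup.centralizer (N₂ : Set G) := hC₂ w hwB₂ hwc₂
    exact hw1 (hCV w hwV hwC₁ hwC₂)

/-- An element of order at most two centralizing `F*(G)` is trivial when `O_2(G) = 1`. -/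
theorem sk_eq_one_of_centralizes_fstar {G : Type*} [Group G] [Finite G]
    (hO : Cfsg.pCore 2 G = ⊥) {v : G} (hv2 : v * v = 1)
    (hv : v ∈ Subgroup.centralizer ((Cfsg.generalizedFittingSubgroup G : Subgroup G) : Set G)) :
    v = 1 := by
  haveI : Fact (Nat.Prime 2) := ⟨Nat.prime_two⟩
  haveI hFn : (Cfsg.generalizedFittingSubgroup G).Normal :=
    Cfsg.Agent.Lib.Helper22.generalizedFittingSubgroup_normal' G
  have hvF : v ∈ Cfsg.generalizedFittingSubgroup G :=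
    Cfsg.Agent.Lib.Helper30.centralizer_generalizedFittingSubgroup_le G hv
  have hle : Subgroup.zpowers v ≤ Cfsg.generalizedFittingSubgroup G := by
    rw [Subgroup.zpowers_le]; exact hvF
  have hn : ((Subgroup.zpowers v).subgroupOf (Cfsg.generalizedFittingSubgroup G)).Normal := by
    constructor
    intro n hn g
    rw [Subgroup.mem_subgroupOf] at hn ⊢
    have hnc : (n : G) ∈
        Subgroup.centralizer ((Cfsg.generalizedFittingSubgroup G : Subgroup G) : Set G) :=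
      (Subgroup.zpowers_le.mpr hv) hn
    have hcomm : (g : G) * (n : G) = (n : G) * (g : G) :=
      Subgroup.mem_centralizer_iff.mp hnc (g : G) g.2
    have e : ((g * n * g⁻¹ : ↥(Cfsg.generalizedFittingSubgroup G)) : G) = (n : G) := by
      show (g : G) * (n : G) * (g : G)⁻¹ = (n : G)
      rw [hcomm, mul_inv_cancel_right]
    rw [e]; exact hn
  have hsn : (Subgroup.zpowers v).IsSubnormal :=
    Subgroup.IsSubnormal.step _ _ hle hFn.isSubnormal hn
  have hp : IsPGroup 2 ↥(Subgroup.zpowers v) := by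
    intro g
    refine ⟨1, ?_⟩
    obtain ⟨i, hi⟩ := Subgroup.mem_zpowers_iff.mp g.2
    apply Subtype.ext
    show (g : G) ^ 2 ^ 1 = 1
    rw [pow_one, ← hi, pow_two, ← zpow_add, ← two_mul, zpow_mul, zpow_two, hv2, one_zpow]
  have h1 := Cfsg.Agent.Lib.Helper47.le_pCore_of_isSubnormal_of_isPGroup hsn hp
  rw [hO] at h1
  exact Subgroup.mem_bot.mp (h1 (Subgroup.mem_zpowers v))

theorem sk_elemAb_map {G : Type*} [Group G] {V : Subgroup G} (hV : Cfsg.IsElementaryAbelian 2 V)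
    (K : Subgroup G) [K.Normal] : Cfsg.IsElementaryAbelian 2 (V.map (QuotientGroup.mk' K)) := by
  obtain ⟨hVc, hV2⟩ := (sk_elemAb_iff V).mp hV
  rw [sk_elemAb_iff]
  constructor
  · rintro _ ⟨a, ha, rfl⟩ _ ⟨b, hb, rfl⟩
    rw [← map_mul, ← map_mul, hVc a ha b hb]
  · rintro _ ⟨a, ha, rfl⟩
    rw [← map_mul, hV2 a ha, map_one]

theorem sk_map_ne_bot {G : Type*} [Group G] {V : Subgroup G} (hV1 : V ≠ ⊥)
    (K : Subgroup G) [K.Normal] (hVK : V ⊓ K = ⊥) : V.map (QuotientGroup.mk' K) ≠ ⊥ := by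
  intro h
  apply hV1
  rw [eq_bot_iff]
  intro x hx
  have h1 : QuotientGroup.mk' K x ∈ V.map (QuotientGroup.mk' K) := ⟨x, hx, rfl⟩
  rw [h, Subgroup.mem_bot, QuotientGroup.mk'_apply, QuotientGroup.eq_one_iff] at h1
  have h2 : x ∈ V ⊓ K := ⟨hx, h1⟩
  rw [hVK] at h2
  exact h2

theorem sk_card_quotient_lt {G : Type*} [Group G] [Finite G] (K : Subgroup G) [K.Normal]
    (hK : K ≠ ⊥) : Nat.card (G ⧸ K) < Nat.card G := by
  rw [Subgroup.card_eq_card_quotient_mul_card_subgroup K]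
  exact lt_mul_of_one_lt_right Nat.card_pos ((Subgroup.one_lt_card_iff_ne_bot K).mpr hK)

/-- Step 1: in a minimal counterexample, `O_2(G) = 1`. -/
theorem sk_pCore_eq_bot {G : Type u} [Group G] [Finite G] (V : Subgroup G)
    (hV : Cfsg.IsElementaryAbelian 2 V) (hV1 : V ≠ ⊥) (hS : Cfsg.IsSidkiPair V)
    (hVO : V ⊓ Cfsg.pCore 2 G = ⊥) (hminG : sk_Min G) : Cfsg.pCore 2 G = ⊥ := by
  haveI : Fact (Nat.Prime 2) := ⟨Nat.prime_two⟩
  haveI hNn : (Cfsg.pCore 2 G).Normal := Subgroup.sSup_normal _ (fun _ h => h.1)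
  by_contra hne
  have hcard := sk_card_quotient_lt (Cfsg.pCore 2 G) hne
  have hW := sk_elemAb_map hV (Cfsg.pCore 2 G)
  have hW1 := sk_map_ne_bot hV1 (Cfsg.pCore 2 G) hVO
  have hWS := Cfsg.Agent.S3012.result V (Cfsg.pCore 2 G) hV hV1 hS hVO
  have hne2 := hminG (G ⧸ Cfsg.pCore 2 G) _ hcard hW hW1 hWS
  apply hne2
  rw [eq_bot_iff]
  rintro x ⟨⟨v, hv, rfl⟩, hxP⟩
  have hT2 : IsPGroup 2 ↥((Cfsg.pCore 2 (G ⧸ Cfsg.pCore 2 G)).comap
      (QuotientGroup.mk' (Cfsg.pCore 2 G))) := by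
    apply IsPGroup.comap_of_ker_isPGroup (Cfsg.Agent.Lib.Helper47.pCore_isPGroup 2 _)
    rw [QuotientGroup.ker_mk']
    exact Cfsg.Agent.Lib.Helper47.pCore_isPGroup 2 G
  haveI hQn : (Cfsg.pCore 2 (G ⧸ Cfsg.pCore 2 G)).Normal :=
    Subgroup.sSup_normal _ (fun _ h => h.1)
  have hTn : ((Cfsg.pCore 2 (G ⧸ Cfsg.pCore 2 G)).comap
      (QuotientGroup.mk' (Cfsg.pCore 2 G))).Normal := hQn.comap _
  have hle := Cfsg.Agent.Lib.Helper47.le_pCore hTn hT2
  have hvN : v ∈ Cfsg.pCore 2 G := hle (Subgroup.mem_comap.mpr hxP)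
  rw [Subgroup.mem_bot, QuotientGroup.mk'_apply, QuotientGroup.eq_one_iff]
  exact hvN

/-- Step 2: in a minimal counterexample, `G = V F*(G)`. -/
theorem sk_sup_fstar_eq_top {G : Type u} [Group G] [Finite G] (hO : Cfsg.pCore 2 G = ⊥)
    (hminG : sk_Min G) (V : Subgroup G) (hVc : ∀ a ∈ V, ∀ b ∈ V, a * b = b * a)
    (hV2 : ∀ a ∈ V, a * a = 1) (hV1 : V ≠ ⊥) (hS : Cfsg.IsSidkiPair V) :
    V ⊔ Cfsg.generalizedFittingSubgroup G = ⊤ := by
  haveI hFn : (Cfsg.generalizedFittingSubgroup G).Normal :=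
    Cfsg.Agent.Lib.Helper22.generalizedFittingSubgroup_normal' G
  by_contra hne
  have hne' : Cfsg.generalizedFittingSubgroup G ⊔ V ≠ ⊤ := by rwa [sup_comm]
  obtain ⟨x, hxV, hx1, hxc⟩ := sk_exists_centralizing hO hminG V hVc hV2 hV1 hS
    (Cfsg.generalizedFittingSubgroup G) hne'
  exact hx1 (sk_eq_one_of_centralizes_fstar hO (hV2 x hxV) hxc)

/-- Central elements of `X` inverted by `u`. -/
def sk_invCenter {G : Type*} [Group G] (X : Subgroup G) (u : G) : Subgroup G where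
  carrier := {z | z ∈ X ∧ z ∈ Subgroup.centralizer (X : Set G) ∧ u * z * u⁻¹ = z⁻¹}
  one_mem' := ⟨X.one_mem, Subgroup.one_mem _, by group⟩
  mul_mem' := by
    rintro a b ⟨ha, hac, hai⟩ ⟨hb, hbc, hbi⟩
    refine ⟨X.mul_mem ha hb, Subgroup.mul_mem _ hac hbc, ?_⟩
    have e : u * (a * b) * u⁻¹ = (u * a * u⁻¹) * (u * b * u⁻¹) := by group
    have hab : a * b = b * a := Subgroup.mem_centralizer_iff.mp hbc a ha
    rw [e, hai, hbi, hab, mul_inv_rev]
  inv_mem' := by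
    rintro a ⟨ha, hac, hai⟩
    refine ⟨X.inv_mem ha, Subgroup.inv_mem _ hac, ?_⟩
    have e : u * a⁻¹ * u⁻¹ = (u * a * u⁻¹)⁻¹ := by group
    rw [e, hai]

theorem sk_mem_centralizer_of_le_sup {G : Type*} [Group G] {A N₁ N₂ : Subgroup G}
    (hA : A ≤ N₁ ⊔ N₂) {v : G} (h1 : v ∈ Subgroup.centralizer (N₁ : Set G))
    (h2 : v ∈ Subgroup.centralizer (N₂ : Set G)) : v ∈ Subgroup.centralizer (A : Set G) := by
  have hle : N₁ ⊔ N₂ ≤ Subgroup.centralizer ({v} : Set G) := by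
    apply sup_le
    · intro n hn
      rw [Subgroup.mem_centralizer_iff]
      intro g hg
      rw [Set.mem_singleton_iff.mp hg]
      exact (Subgroup.mem_centralizer_iff.mp h1 n hn).symm
    · intro n hn
      rw [Subgroup.mem_centralizer_iff]
      intro g hg
      rw [Set.mem_singleton_iff.mp hg]
      exact (Subgroup.mem_centralizer_iff.mp h2 n hn).symm
  rw [Subgroup.mem_centralizer_iff]
  intro a ha
  exact (Subgroup.mem_centralizer_iff.mp (hle (hA ha)) v (Set.mem_singleton v)).symm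

/-- Decomposition of `X` by an involution `u` with central commutators. -/
theorem sk_decomp {G : Type*} [Group G] (X : Subgroup G) [hXn : X.Normal] (u : G)
    (hu : u * u = 1)
    (hodd : ∀ z ∈ X, z ∈ Subgroup.centralizer (X : Set G) → Odd (orderOf z))
    (hθ : ∀ f ∈ X, f⁻¹ * (u * f * u⁻¹) ∈ Subgroup.centralizer (X : Set G)) :
    (X ⊓ Subgroup.centralizer ({u} : Set G)) ⊓ sk_invCenter X u = ⊥ ∧
      X ≤ (X ⊓ Subgroup.centralizer ({u} : Set G)) ⊔ sk_invCenter X u := by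
  constructor
  · rw [eq_bot_iff]
    rintro x ⟨⟨hxX, hxu⟩, -, hxc, hxi⟩
    rw [Subgroup.mem_bot]
    have hcomm : u * x = x * u := Subgroup.mem_centralizer_iff.mp hxu u (Set.mem_singleton u)
    exact sk_eq_one_of_inv_comm (hodd x hxX hxc) hxi hcomm
  · intro f hf
    obtain ⟨z, hz⟩ : ∃ z, z = f⁻¹ * (u * f * u⁻¹) := ⟨_, rfl⟩
    have hzX : z ∈ X := by rw [hz]; exact X.mul_mem (X.inv_mem hf) (hXn.conj_mem f hf u)
    have hzc : z ∈ Subgroup.centralizer (X : Set G) := by rw [hz]; exact hθ f hf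
    have hzi : u * z * u⁻¹ = z⁻¹ := by
      rw [hz]
      have e : u * (f⁻¹ * (u * f * u⁻¹)) * u⁻¹ =
          (u * f * u⁻¹)⁻¹ * ((u * u) * f * (u * u)⁻¹) := by group
      rw [e, hu]; group
    obtain ⟨j, hj⟩ := hodd z hzX hzc
    obtain ⟨y, hy⟩ : ∃ y, y = z ^ (j + 1) := ⟨_, rfl⟩
    have hyy : y * y = z := by
      rw [hy, ← pow_add]
      have e : j + 1 + (j + 1) = orderOf z + 1 := by omega
      rw [e, pow_succ, pow_orderOf_eq_one, one_mul]
    have hyX : y ∈ X := by rw [hy]; exact X.pow_mem hzX _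
    have hyc : y ∈ Subgroup.centralizer (X : Set G) := by
      rw [hy]; exact Subgroup.pow_mem _ hzc _
    have hyi : u * y * u⁻¹ = y⁻¹ := by
      rw [hy, ← conj_pow, hzi, inv_pow]
    have hfy : f * y ∈ X ⊓ Subgroup.centralizer ({u} : Set G) := by
      refine ⟨X.mul_mem hf hyX, ?_⟩
      show f * y ∈ Subgroup.centralizer ({u} : Set G)
      rw [Subgroup.mem_centralizer_iff]
      intro g hg
      rw [Set.mem_singleton_iff.mp hg]
      have e1 : u * f * u⁻¹ = f * z := by rw [hz]; group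
      have e2 : u * (f * y) * u⁻¹ = f * y := by
        have e : u * (f * y) * u⁻¹ = (u * f * u⁻¹) * (u * y * u⁻¹) := by group
        rw [e, e1, hyi, ← hyy]; group
      exact mul_inv_eq_iff_eq_mul.mp e2
    have hyinv : y⁻¹ ∈ sk_invCenter X u := by
      refine ⟨X.inv_mem hyX, Subgroup.inv_mem _ hyc, ?_⟩
      have e : u * y⁻¹ * u⁻¹ = (u * y * u⁻¹)⁻¹ := by group
      rw [e, hyi]
    have e : f = (f * y) * y⁻¹ := by group
    rw [e]
    exact Subgroup.mul_mem_sup hfy hyinv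

theorem sk_decomp_normal {G : Type*} [Group G] (X : Subgroup G) [hXn : X.Normal] (u : G)
    (V : Subgroup G) (hVc : ∀ a ∈ V, ∀ b ∈ V, a * b = b * a) (huV : u ∈ V) (hsup : V ⊔ X = ⊤)
    (hθ : ∀ f ∈ X, f⁻¹ * (u * f * u⁻¹) ∈ Subgroup.centralizer (X : Set G)) :
    (X ⊓ Subgroup.centralizer ({u} : Set G)).Normal ∧ (sk_invCenter X u).Normal := by
  constructor
  · rw [← Subgroup.normalizer_eq_top_iff, eq_top_iff, ← hsup]
    apply sup_le
    · apply Cfsg.Agent.Lib.Helper22.le_normalizer_of_conj_mem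
      rintro v hv n ⟨hnX, hnu0⟩
      have hnu : n ∈ Subgroup.centralizer ({u} : Set G) := hnu0
      refine ⟨hXn.conj_mem n hnX v, ?_⟩
      show v * n * v⁻¹ ∈ Subgroup.centralizer ({u} : Set G)
      rw [Subgroup.mem_centralizer_iff] at hnu ⊢
      intro g hg
      rw [Set.mem_singleton_iff.mp hg]
      have h1 : Commute u n := hnu u (Set.mem_singleton u)
      have h2 : Commute u v := hVc u huV v hv
      exact ((h2.mul_right h1).mul_right h2.inv_right).eq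
    · apply Cfsg.Agent.Lib.Helper22.le_normalizer_of_conj_mem
      rintro g hg n ⟨hnX, hnu0⟩
      have hnu : n ∈ Subgroup.centralizer ({u} : Set G) := hnu0
      refine ⟨hXn.conj_mem n hnX g, ?_⟩
      show g * n * g⁻¹ ∈ Subgroup.centralizer ({u} : Set G)
      rw [Subgroup.mem_centralizer_iff] at hnu ⊢
      intro g' hg'
      rw [Set.mem_singleton_iff.mp hg']
      have h1 : Commute u n := hnu u (Set.mem_singleton u)
      have hz := hθ g hg
      have hzn : (g⁻¹ * (u * g * u⁻¹)) * n = n * (g⁻¹ * (u * g * u⁻¹)) :=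
        (Subgroup.mem_centralizer_iff.mp hz n hnX).symm
      have e : u * (g * n * g⁻¹) * u⁻¹ = g * n * g⁻¹ := by
        have e1 : u * n * u⁻¹ = n := by rw [h1.eq, mul_inv_cancel_right]
        have e2 : u * (g * n * g⁻¹) * u⁻¹ =
            g * ((g⁻¹ * (u * g * u⁻¹)) * (u * n * u⁻¹) * (g⁻¹ * (u * g * u⁻¹))⁻¹) * g⁻¹ := by
          group
        rw [e2, e1, hzn, mul_inv_cancel_right]
      exact mul_inv_eq_iff_eq_mul.mp e
  · rw [← Subgroup.normalizer_eq_top_iff, eq_top_iff, ← hsup]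
    apply sup_le
    · apply Cfsg.Agent.Lib.Helper22.le_normalizer_of_conj_mem
      rintro v hv n ⟨hnX, hnc, hni⟩
      refine ⟨hXn.conj_mem n hnX v, ?_, ?_⟩
      · exact (inferInstance : (Subgroup.centralizer (X : Set G)).Normal).conj_mem n hnc v
      · have e3 : u * v = v * u := hVc u huV v hv
        have e4 : v⁻¹ * u⁻¹ = u⁻¹ * v⁻¹ := by rw [← mul_inv_rev, ← mul_inv_rev, e3]
        have e : u * (v * n * v⁻¹) * u⁻¹ = v * (u * n * u⁻¹) * v⁻¹ := by
          calc u * (v * n * v⁻¹) * u⁻¹ = (u * v) * n * (v⁻¹ * u⁻¹) := by group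
            _ = (v * u) * n * (u⁻¹ * v⁻¹) := by rw [e3, e4]
            _ = v * (u * n * u⁻¹) * v⁻¹ := by group
        rw [e, hni]; group
    · apply Cfsg.Agent.Lib.Helper22.le_normalizer_of_conj_mem
      rintro g hg n ⟨hnX, hnc, hni⟩
      have e : g * n * g⁻¹ = n := by
        rw [Subgroup.mem_centralizer_iff.mp hnc g hg, mul_inv_cancel_right]
      rw [e]; exact ⟨hnX, hnc, hni⟩

/-- Quotienting by the centre of `F*(G)`: some involution of `V` has central commutators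
with `F*(G)`. -/
theorem sk_exists_central_commutator {G : Type u} [Group G] [Finite G]
    (hO : Cfsg.pCore 2 G = ⊥) (hminG : sk_Min G) (V : Subgroup G)
    (hV : Cfsg.IsElementaryAbelian 2 V) (hV1 : V ≠ ⊥) (hS : Cfsg.IsSidkiPair V)
    (hK : Cfsg.generalizedFittingSubgroup G ⊓
      Subgroup.centralizer ((Cfsg.generalizedFittingSubgroup G : Subgroup G) : Set G) ≠ ⊥) :
    ∃ v₀ ∈ V, v₀ ≠ 1 ∧ ∀ f ∈ Cfsg.generalizedFittingSubgroup G, f⁻¹ * (v₀ * f * v₀⁻¹) ∈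
      Subgroup.centralizer ((Cfsg.generalizedFittingSubgroup G : Subgroup G) : Set G) := by
  haveI : Fact (Nat.Prime 2) := ⟨Nat.prime_two⟩
  obtain ⟨hVc, hV2⟩ := (sk_elemAb_iff V).mp hV
  obtain ⟨F, hF⟩ : ∃ F : Subgroup G, F = Cfsg.generalizedFittingSubgroup G := ⟨_, rfl⟩
  haveI hFn : F.Normal := by
    rw [hF]; exact Cfsg.Agent.Lib.Helper22.generalizedFittingSubgroup_normal' G
  rw [← hF] at hK ⊢
  obtain ⟨K, hKdef⟩ : ∃ K : Subgroup G, K = F ⊓ Subgroup.centralizer (F : Set G) := ⟨_, rfl⟩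
  haveI hKn : K.Normal := by rw [hKdef]; infer_instance
  have hKne : K ≠ ⊥ := by rw [hKdef]; exact hK
  have hVK : V ⊓ K = ⊥ := by
    rw [eq_bot_iff]
    rintro v ⟨hvV, hvK⟩
    rw [hKdef] at hvK
    rw [Subgroup.mem_bot]
    apply sk_eq_one_of_centralizes_fstar hO (hV2 v hvV)
    rw [← hF]; exact hvK.2
  have hcard := sk_card_quotient_lt K hKne
  have hW := sk_elemAb_map hV K
  have hW1 := sk_map_ne_bot hV1 K hVK
  have hWS := Cfsg.Agent.S3012.result V K hV hV1 hS hVK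
  have hne2 := hminG (G ⧸ K) _ hcard hW hW1 hWS
  obtain ⟨x, hx, hx1⟩ : ∃ x ∈ V.map (QuotientGroup.mk' K) ⊓ Cfsg.pCore 2 (G ⧸ K), x ≠ 1 := by
    by_contra hcon
    push_neg at hcon
    exact hne2 ((Subgroup.eq_bot_iff_forall _).mpr hcon)
  obtain ⟨⟨v₀, hv₀V, rfl⟩, hxP⟩ := hx
  refine ⟨v₀, hv₀V, fun h => hx1 (by rw [h, map_one]), ?_⟩
  haveI hQn : (Cfsg.pCore 2 (G ⧸ K)).Normal := Subgroup.sSup_normal _ (fun _ h => h.1)
  obtain ⟨T, hT⟩ : ∃ T : Subgroup G,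
      T = (Cfsg.pCore 2 (G ⧸ K)).comap (QuotientGroup.mk' K) := ⟨_, rfl⟩
  haveI hTn : T.Normal := by rw [hT]; exact hQn.comap _
  have hv₀T : v₀ ∈ T := by rw [hT]; exact Subgroup.mem_comap.mpr hxP
  obtain ⟨M₀, hM₀⟩ : ∃ M₀ : Subgroup G, M₀ = T ⊓ F := ⟨_, rfl⟩
  haveI hM₀n : M₀.Normal := by rw [hM₀]; infer_instance
  have hmapM : ∀ m ∈ M₀, QuotientGroup.mk' K m ∈ Cfsg.pCore 2 (G ⧸ K) := by
    intro m hm
    rw [hM₀] at hm
    have hmT : m ∈ T := hm.1
    rw [hT] at hmT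
    exact Subgroup.mem_comap.mp hmT
  have hM₀F : M₀ ≤ F := by rw [hM₀]; exact inf_le_right
  have hM₀K : M₀ ≤ K := by
    let φ : ↥M₀ →* ↥(Cfsg.pCore 2 (G ⧸ K)) :=
      ((QuotientGroup.mk' K).comp M₀.subtype).codRestrict (Cfsg.pCore 2 (G ⧸ K))
        (fun m => hmapM (m : G) m.2)
    have hker : φ.ker ≤ Subgroup.center ↥M₀ := by
      intro m hm
      rw [MonoidHom.mem_ker] at hm
      have h1 : QuotientGroup.mk' K (m : G) = 1 := congrArg Subtype.val hm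
      rw [QuotientGroup.mk'_apply, QuotientGroup.eq_one_iff, hKdef] at h1
      rw [Subgroup.mem_center_iff]
      intro g
      apply Subtype.ext
      exact Subgroup.mem_centralizer_iff.mp h1.2 (g : G) (hM₀F g.2)
    have hnilP : Group.IsNilpotent ↥(Cfsg.pCore 2 (G ⧸ K)) :=
      (Cfsg.Agent.Lib.Helper47.pCore_isPGroup 2 (G ⧸ K)).isNilpotent
    haveI := hnilP
    haveI hnil : Group.IsNilpotent ↥M₀ := Subgroup.isNilpotent_of_ker_le_center φ hker
    have hodd : ¬ 2 ∣ Nat.card ↥M₀ := by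
      intro hdvd
      obtain ⟨P⟩ : Nonempty (Sylow 2 ↥M₀) := inferInstance
      have hPne := P.ne_bot_of_dvd_card hdvd
      apply hPne
      have hPn : (P : Subgroup ↥M₀).Normal := inferInstance
      have hsn : ((P : Subgroup ↥M₀).map M₀.subtype).IsSubnormal :=
        Subgroup.IsSubnormal.trans' hPn.isSubnormal hM₀n.isSubnormal
      have hp2 : IsPGroup 2 ↥((P : Subgroup ↥M₀).map M₀.subtype) := P.isPGroup'.map M₀.subtype
      have hle := Cfsg.Agent.Lib.Helper47.le_pCore_of_isSubnormal_of_isPGroup hsn hp2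
      rw [hO] at hle
      rw [eq_bot_iff]
      intro y hy
      have h3 : (y : G) ∈ (⊥ : Subgroup G) := hle ⟨y, hy, rfl⟩
      rw [Subgroup.mem_bot] at h3 ⊢
      exact Subtype.ext h3
    intro m hm
    have h1 : QuotientGroup.mk' K m ∈ Cfsg.pCore 2 (G ⧸ K) := hmapM m hm
    obtain ⟨k, hk⟩ := (Cfsg.Agent.Lib.Helper47.pCore_isPGroup 2 (G ⧸ K)) ⟨_, h1⟩
    have hk' : (QuotientGroup.mk' K m) ^ 2 ^ k = 1 := congrArg Subtype.val hk
    have hord : orderOf (⟨m, hm⟩ : ↥M₀) ∣ Nat.card ↥M₀ := orderOf_dvd_natCard _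
    have hcop : Nat.Coprime (2 ^ k) (orderOf m) := by
      apply Nat.Coprime.pow_left
      rw [Nat.coprime_two_left, ← Subgroup.orderOf_mk m hm]
      by_contra hnodd
      rw [Nat.not_odd_iff_even] at hnodd
      exact hodd ((even_iff_two_dvd.mp hnodd).trans hord)
    have hmk : m ^ 2 ^ k ∈ K := by
      have h4 : QuotientGroup.mk' K (m ^ 2 ^ k) = 1 := by rw [map_pow]; exact hk'
      exact (QuotientGroup.eq_one_iff _).mp h4
    obtain ⟨j, hj⟩ := exists_pow_eq_self_of_coprime hcop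
    rw [← hj]
    exact K.pow_mem hmk j
  intro f hf
  have hmem : f⁻¹ * (v₀ * f * v₀⁻¹) ∈ M₀ := by
    rw [hM₀]
    constructor
    · have e : f⁻¹ * (v₀ * f * v₀⁻¹) = (f⁻¹ * v₀ * f⁻¹⁻¹) * v₀⁻¹ := by group
      rw [e]
      exact T.mul_mem (hTn.conj_mem v₀ hv₀T f⁻¹) (T.inv_mem hv₀T)
    · exact F.mul_mem (F.inv_mem hf) (hFn.conj_mem f hf v₀)
  have h5 := hM₀K hmem
  rw [hKdef] at h5
  exact h5.2

/-- Step 6: in a minimal counterexample, the centre of `F*(G)` is trivial. -/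
theorem sk_center_fstar_trivial {G : Type u} [Group G] [Finite G] (hO : Cfsg.pCore 2 G = ⊥)
    (hminG : sk_Min G) (V : Subgroup G) (hV : Cfsg.IsElementaryAbelian 2 V) (hV1 : V ≠ ⊥)
    (hS : Cfsg.IsSidkiPair V) :
    Cfsg.generalizedFittingSubgroup G ⊓
      Subgroup.centralizer ((Cfsg.generalizedFittingSubgroup G : Subgroup G) : Set G) = ⊥ := by
  obtain ⟨hVc, hV2⟩ := (sk_elemAb_iff V).mp hV
  have hsup := sk_sup_fstar_eq_top hO hminG V hVc hV2 hV1 hS
  by_contra hK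
  obtain ⟨F, hF⟩ : ∃ F : Subgroup G, F = Cfsg.generalizedFittingSubgroup G := ⟨_, rfl⟩
  haveI hFn : F.Normal := by
    rw [hF]; exact Cfsg.Agent.Lib.Helper22.generalizedFittingSubgroup_normal' G
  have hcent1 : ∀ v ∈ V, v ∈ Subgroup.centralizer (F : Set G) → v = 1 := by
    intro v hv hvc
    rw [hF] at hvc
    exact sk_eq_one_of_centralizes_fstar hO (hV2 v hv) hvc
  have hoddK : ∀ z ∈ F, z ∈ Subgroup.centralizer (F : Set G) → Odd (orderOf z) := by
    intro z _ hzc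
    by_contra hnodd
    rw [Nat.not_odd_iff_even] at hnodd
    obtain ⟨m, hm⟩ := hnodd
    have hpos := orderOf_pos z
    have hm0 : m ≠ 0 := by omega
    have ht2 : z ^ m * z ^ m = 1 := by rw [← pow_add, ← hm, pow_orderOf_eq_one]
    have ht1 : z ^ m ≠ 1 := pow_ne_one_of_lt_orderOf hm0 (by omega)
    apply ht1
    apply sk_eq_one_of_centralizes_fstar hO ht2
    rw [← hF]; exact Subgroup.pow_mem _ hzc m
  obtain ⟨u, huV, hu1, hθ, hN₁⟩ : ∃ u ∈ V, u ≠ 1 ∧
      (∀ f ∈ F, f⁻¹ * (u * f * u⁻¹) ∈ Subgroup.centralizer (F : Set G)) ∧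
      F ⊓ Subgroup.centralizer ({u} : Set G) ≠ ⊥ := by
    by_cases hab : F ≤ Subgroup.centralizer (F : Set G)
    · obtain ⟨v, hvV, hv1⟩ : ∃ v ∈ V, v ≠ 1 := by
        by_contra hcon
        push_neg at hcon
        exact hV1 ((Subgroup.eq_bot_iff_forall _).mpr hcon)
      have hvn : v ∉ Subgroup.centralizer (F : Set G) := fun h => hv1 (hcent1 v hvV h)
      rw [Subgroup.mem_centralizer_iff] at hvn
      push_neg at hvn
      obtain ⟨f, hfF, hfv⟩ := hvn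
      obtain ⟨k, hk⟩ : ∃ k, k = f⁻¹ * (v * f * v⁻¹) := ⟨_, rfl⟩
      have hkF : k ∈ F := by
        rw [hk]; exact F.mul_mem (F.inv_mem hfF) (hFn.conj_mem f hfF v)
      have hk1 : k ≠ 1 := by
        intro h
        rw [hk, inv_mul_eq_one, eq_mul_inv_iff_mul_eq] at h
        exact hfv h
      have hki : v * k * v⁻¹ = k⁻¹ := by
        rw [hk]
        have e : v * (f⁻¹ * (v * f * v⁻¹)) * v⁻¹ =
            (v * f * v⁻¹)⁻¹ * ((v * v) * f * (v * v)⁻¹) := by group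
        rw [e, hV2 v hvV]; group
      obtain ⟨u, huV, hu1, huk⟩ := hS k v hvV (hoddK k hkF (hab hkF)) hki
      refine ⟨u, huV, hu1,
        fun f' hf' => hab (F.mul_mem (F.inv_mem hf') (hFn.conj_mem f' hf' u)), ?_⟩
      intro hbot
      have hkN : k ∈ F ⊓ Subgroup.centralizer ({u} : Set G) := by
        refine ⟨hkF, ?_⟩
        show k ∈ Subgroup.centralizer ({u} : Set G)
        rw [Subgroup.mem_centralizer_iff]
        intro g hg
        rw [Set.mem_singleton_iff.mp hg]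
        exact huk
      rw [hbot, Subgroup.mem_bot] at hkN
      exact hk1 hkN
    · obtain ⟨v₀, hv₀V, hv₀1, hθ⟩ := sk_exists_central_commutator hO hminG V hV hV1 hS hK
      rw [← hF] at hθ
      refine ⟨v₀, hv₀V, hv₀1, hθ, ?_⟩
      intro hbot
      apply hab
      have hd := (sk_decomp F v₀ (hV2 v₀ hv₀V) hoddK hθ).2
      rw [hbot, bot_sup_eq] at hd
      exact hd.trans (fun z hz => hz.2.1)
  obtain ⟨hinf, hFle⟩ := sk_decomp F u (hV2 u huV) hoddK hθ
  obtain ⟨hn1, hn2⟩ := sk_decomp_normal F u V hVc huV (by rw [hF]; exact hsup) hθ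
  haveI := hn1
  haveI := hn2
  have hN₂ : sk_invCenter F u ≠ ⊥ := by
    intro hbot
    rw [hbot, sup_bot_eq] at hFle
    apply hu1
    apply hcent1 u huV
    rw [Subgroup.mem_centralizer_iff]
    intro f hf
    have h6 : f ∈ Subgroup.centralizer ({u} : Set G) := (hFle hf).2
    exact (Subgroup.mem_centralizer_iff.mp h6 u (Set.mem_singleton u)).symm
  exact sk_no_decomp hO hminG V hVc hV2 hV1 hS (F ⊓ Subgroup.centralizer ({u} : Set G))
    (sk_invCenter F u) hinf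
    (fun v hv h1 h2 => hcent1 v hv (sk_mem_centralizer_of_le_sup hFle h1 h2)) hN₁ hN₂

theorem sk_exists_component {G : Type u} [Group G] [Finite G]
    (hFne : Cfsg.generalizedFittingSubgroup G ≠ ⊥)
    (hZ : Cfsg.generalizedFittingSubgroup G ⊓
      Subgroup.centralizer ((Cfsg.generalizedFittingSubgroup G : Subgroup G) : Set G) = ⊥) :
    ∃ L : Subgroup G, Cfsg.IsComponent L := by
  by_contra hno
  push_neg at hno
  have hlayer : Cfsg.layer G = ⊥ := by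
    unfold Cfsg.layer
    rw [sSup_eq_bot]
    intro K hK
    exact absurd hK (hno K)
  have hFeq : Cfsg.generalizedFittingSubgroup G = Cfsg.fittingSubgroup G := by
    unfold Cfsg.generalizedFittingSubgroup
    rw [hlayer, bot_sup_eq]
  haveI hnil : Group.IsNilpotent ↥(Cfsg.fittingSubgroup G) :=
    Cfsg.Agent.Lib.Helper22.fittingSubgroup_nilpotent G
  rw [hFeq] at hFne hZ
  haveI : Nontrivial ↥(Cfsg.fittingSubgroup G) := (Subgroup.nontrivial_iff_ne_bot _).mpr hFne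
  have hc := Group.IsNilpotent.center_ne_bot (G := ↥(Cfsg.fittingSubgroup G))
  apply hc
  rw [eq_bot_iff]
  intro z hz
  rw [Subgroup.mem_center_iff] at hz
  have hzmem : (z : G) ∈ Cfsg.fittingSubgroup G ⊓
      Subgroup.centralizer ((Cfsg.fittingSubgroup G : Subgroup G) : Set G) := by
    refine ⟨z.2, ?_⟩
    show (z : G) ∈ Subgroup.centralizer ((Cfsg.fittingSubgroup G : Subgroup G) : Set G)
    rw [Subgroup.mem_centralizer_iff]
    intro g hg
    exact congrArg Subtype.val (hz ⟨g, hg⟩)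
  rw [hZ, Subgroup.mem_bot] at hzmem
  rw [Subgroup.mem_bot]
  exact Subtype.ext hzmem

theorem sk_isSimpleGroup_of_component {G : Type*} [Group G] {L : Subgroup G}
    (hL : Cfsg.IsComponent L) (hz : ∀ z ∈ L, (∀ l ∈ L, z * l = l * z) → z = 1) :
    IsSimpleGroup ↥L := by
  have hc : Subgroup.center ↥L = ⊥ := by
    rw [eq_bot_iff]
    intro z hz'
    rw [Subgroup.mem_center_iff] at hz'
    rw [Subgroup.mem_bot]
    apply Subtype.ext
    apply hz (z : G) z.2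
    intro l hl
    exact (congrArg Subtype.val (hz' ⟨l, hl⟩)).symm
  obtain ⟨-, hsimp⟩ := hL.2
  haveI := hsimp
  haveI : Nontrivial ↥L := Cfsg.Agent.Lib.Helper22.IsQuasisimple.nontrivial' hL.2
  let e : ↥L ⧸ Subgroup.center ↥L ≃* ↥L :=
    (QuotientGroup.quotientMulEquivOfEq hc).trans QuotientGroup.quotientBot
  exact IsSimpleGroup.isSimpleGroup_of_surjective e.toMonoidHom e.surjective

/-- A central element of a component is trivial when `F*(G)` has trivial centre. -/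
theorem sk_component_center {G : Type u} [Group G] [Finite G]
    (hZ : Cfsg.generalizedFittingSubgroup G ⊓
      Subgroup.centralizer ((Cfsg.generalizedFittingSubgroup G : Subgroup G) : Set G) = ⊥)
    {K : Subgroup G} (hK : Cfsg.IsComponent K) (z : G) (hzK : z ∈ K)
    (hz : ∀ l ∈ K, z * l = l * z) : z = 1 := by
  have hlayer : Cfsg.layer G ≤ Subgroup.centralizer ({z} : Set G) := by
    rw [Cfsg.Agent.Lib.Helper22.layer_le_iff]
    intro K' hK' x hx
    rw [Subgroup.mem_centralizer_iff]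
    intro g hg
    rw [Set.mem_singleton_iff.mp hg]
    by_cases h : K = K'
    · subst h
      exact hz x hx
    · exact Cfsg.Agent.Lib.Helper22.comm_of_commutator_eq_bot
        (Cfsg.Agent.Lib.Helper22.components_commute hK hK' h) z hzK x hx
  have hfit : Cfsg.fittingSubgroup G ≤ Subgroup.centralizer ({z} : Set G) := by
    intro x hx
    rw [Subgroup.mem_centralizer_iff]
    intro g hg
    rw [Set.mem_singleton_iff.mp hg]
    exact Cfsg.Agent.Lib.Helper22.comm_of_commutator_eq_bot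
      Cfsg.Agent.Lib.Helper22.commutator_layer_fittingSubgroup z
      (Cfsg.Agent.Lib.Helper22.component_le_layer hK hzK) x hx
  have hF : Cfsg.generalizedFittingSubgroup G ≤ Subgroup.centralizer ({z} : Set G) := by
    unfold Cfsg.generalizedFittingSubgroup
    exact sup_le hlayer hfit
  have hzF : z ∈ Cfsg.generalizedFittingSubgroup G := by
    unfold Cfsg.generalizedFittingSubgroup
    exact (le_sup_left : Cfsg.layer G ≤ _) (Cfsg.Agent.Lib.Helper22.component_le_layer hK hzK)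
  have hmem : z ∈ Cfsg.generalizedFittingSubgroup G ⊓
      Subgroup.centralizer ((Cfsg.generalizedFittingSubgroup G : Subgroup G) : Set G) := by
    refine ⟨hzF, ?_⟩
    show z ∈ Subgroup.centralizer ((Cfsg.generalizedFittingSubgroup G : Subgroup G) : Set G)
    rw [Subgroup.mem_centralizer_iff]
    intro f hf
    exact (Subgroup.mem_centralizer_iff.mp (hF hf) z (Set.mem_singleton z)).symm
  rw [hZ, Subgroup.mem_bot] at hmem
  exact hmem

/-- Distinct components meet trivially when `F*(G)` has trivial centre. -/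
theorem sk_component_inf {G : Type u} [Group G] [Finite G]
    (hZ : Cfsg.generalizedFittingSubgroup G ⊓
      Subgroup.centralizer ((Cfsg.generalizedFittingSubgroup G : Subgroup G) : Set G) = ⊥)
    {K K' : Subgroup G} (hK : Cfsg.IsComponent K) (hK' : Cfsg.IsComponent K')
    (hne : K ≠ K') (x : G) (hx : x ∈ K) (hx' : x ∈ K') : x = 1 := by
  apply sk_component_center hZ hK x hx
  intro l hl
  exact Cfsg.Agent.Lib.Helper22.comm_of_commutator_eq_bot
    (Cfsg.Agent.Lib.Helper22.components_commute hK' hK (Ne.symm hne)) x hx' l hl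

/-- In a minimal counterexample, `F*(G)` is the normal closure of any component. -/
theorem sk_fstar_eq_normalClosure {G : Type u} [Group G] [Finite G] (hO : Cfsg.pCore 2 G = ⊥)
    (hminG : sk_Min G) (V : Subgroup G) (hV : Cfsg.IsElementaryAbelian 2 V) (hV1 : V ≠ ⊥)
    (hS : Cfsg.IsSidkiPair V) {L : Subgroup G} (hL : Cfsg.IsComponent L) :
    Cfsg.generalizedFittingSubgroup G = Subgroup.normalClosure (L : Set G) ∧
      Cfsg.generalizedFittingSubgroup G = Cfsg.layer G := by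
  obtain ⟨hVc, hV2⟩ := (sk_elemAb_iff V).mp hV
  have hZ := sk_center_fstar_trivial hO hminG V hV hV1 hS
  have hlayerF : Cfsg.layer G ≤ Cfsg.generalizedFittingSubgroup G := by
    unfold Cfsg.generalizedFittingSubgroup; exact le_sup_left
  have hfitF : Cfsg.fittingSubgroup G ≤ Cfsg.generalizedFittingSubgroup G := by
    unfold Cfsg.generalizedFittingSubgroup; exact le_sup_right
  have hFdef : Cfsg.generalizedFittingSubgroup G = Cfsg.layer G ⊔ Cfsg.fittingSubgroup G := rfl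
  obtain ⟨F, hF⟩ : ∃ F : Subgroup G, F = Cfsg.generalizedFittingSubgroup G := ⟨_, rfl⟩
  haveI hFn : F.Normal := by
    rw [hF]; exact Cfsg.Agent.Lib.Helper22.generalizedFittingSubgroup_normal' G
  rw [← hF] at hZ hlayerF hfitF hFdef ⊢
  have hcent1 : ∀ v ∈ V, v ∈ Subgroup.centralizer (F : Set G) → v = 1 := by
    intro v hv hvc
    rw [hF] at hvc
    exact sk_eq_one_of_centralizes_fstar hO (hV2 v hv) hvc
  haveI hlayern : (Cfsg.layer G).Normal := Cfsg.Agent.Lib.Helper22.layer_normal' G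
  obtain ⟨N₁, hN₁⟩ : ∃ N₁ : Subgroup G, N₁ = Subgroup.normalClosure (L : Set G) := ⟨_, rfl⟩
  haveI hN₁n : N₁.Normal := by rw [hN₁]; exact Subgroup.normalClosure_normal
  have hLN₁ : L ≤ N₁ := by rw [hN₁]; exact Subgroup.le_normalClosure
  have hN₁layer : N₁ ≤ Cfsg.layer G := by
    rw [hN₁]
    exact Subgroup.normalClosure_le_normal (Cfsg.Agent.Lib.Helper22.component_le_layer hL)
  have hN₁F : N₁ ≤ F := hN₁layer.trans hlayerF
  obtain ⟨N₂, hN₂⟩ : ∃ N₂ : Subgroup G, N₂ = F ⊓ Subgroup.centralizer (N₁ : Set G) := ⟨_, rfl⟩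
  haveI hN₂n : N₂.Normal := by rw [hN₂]; infer_instance
  have hFle : F ≤ N₁ ⊔ N₂ := by
    rw [hFdef]
    apply sup_le
    · rw [Cfsg.Agent.Lib.Helper22.layer_le_iff]
      intro K hK
      rcases Cfsg.Agent.Lib.Helper22.component_le_or_commute_normal hK hN₁n with h | h
      · exact h.trans le_sup_left
      · refine le_trans ?_ le_sup_right
        rw [hN₂]
        refine le_inf ((Cfsg.Agent.Lib.Helper22.component_le_layer hK).trans hlayerF) ?_
        exact (Subgroup.commutator_eq_bot_iff_le_centralizer).mp h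
    · refine le_trans ?_ le_sup_right
      rw [hN₂]
      refine le_inf hfitF ?_
      intro x hx
      rw [Subgroup.mem_centralizer_iff]
      intro n hn
      exact Cfsg.Agent.Lib.Helper22.comm_of_commutator_eq_bot
        Cfsg.Agent.Lib.Helper22.commutator_layer_fittingSubgroup n (hN₁layer hn) x hx
  have hinf : N₁ ⊓ N₂ = ⊥ := by
    rw [eq_bot_iff]
    rintro x ⟨hx1, hx2⟩
    have hx1' : x ∈ N₁ := hx1
    have hx2' : x ∈ N₂ := hx2
    rw [hN₂] at hx2'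
    have hxc1 : x ∈ Subgroup.centralizer (N₁ : Set G) := hx2'.2
    have hxc2 : x ∈ Subgroup.centralizer (N₂ : Set G) := by
      rw [Subgroup.mem_centralizer_iff]
      intro n hn
      have hn' : n ∈ N₂ := hn
      rw [hN₂] at hn'
      have hn2 : n ∈ Subgroup.centralizer (N₁ : Set G) := hn'.2
      exact (Subgroup.mem_centralizer_iff.mp hn2 x hx1').symm
    have hxF : x ∈ F ⊓ Subgroup.centralizer (F : Set G) :=
      ⟨hN₁F hx1', sk_mem_centralizer_of_le_sup hFle hxc1 hxc2⟩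
    rw [hZ] at hxF
    exact hxF
  have hN₁ne : N₁ ≠ ⊥ := by
    intro h
    apply Cfsg.Agent.Lib.Helper22.IsComponent.ne_bot hL
    rw [eq_bot_iff, ← h]
    exact hLN₁
  have hN₂bot : N₂ = ⊥ := by
    by_contra hne
    exact sk_no_decomp hO hminG V hVc hV2 hV1 hS N₁ N₂ hinf
      (fun v hv h1 h2 => hcent1 v hv (sk_mem_centralizer_of_le_sup hFle h1 h2)) hN₁ne hne
  rw [hN₂bot, sup_bot_eq] at hFle
  rw [← hN₁]
  exact ⟨le_antisymm hFle hN₁F, le_antisymm (hFle.trans hN₁layer) hlayerF⟩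

theorem sk_conj_mem_map {G : Type*} [Group G] (L : Subgroup G) (t l : G) (hl : l ∈ L) :
    t * l * t⁻¹ ∈ L.map (MulAut.conj t).toMonoidHom :=
  ⟨l, hl, rfl⟩

theorem sk_mem_normalizer_of_map_eq {G : Type*} [Group G] {L : Subgroup G} {t : G}
    (ht : L.map (MulAut.conj t).toMonoidHom = L) : t ∈ Subgroup.normalizer (L : Set G) := by
  rw [Subgroup.mem_normalizer_iff]
  intro x
  constructor
  · intro hx
    have h1 := sk_conj_mem_map L t x hx
    rwa [ht] at h1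
  · intro hx
    have hx' : t * x * t⁻¹ ∈ L.map (MulAut.conj t).toMonoidHom := by rw [ht]; exact hx
    obtain ⟨l, hl, hl'⟩ := hx'
    have hl2 : t * l * t⁻¹ = t * x * t⁻¹ := hl'
    have hlx : l = x := mul_left_cancel (mul_right_cancel hl2)
    rw [← hlx]; exact hl

/-- Key step: if `v ∈ V` moves the component `L`, every nontrivial element of odd order of `L` is
centralized by a nontrivial element of `V` normalizing `L`. -/
theorem sk_claimE {G : Type u} [Group G] [Finite G]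
    (hZ : Cfsg.generalizedFittingSubgroup G ⊓
      Subgroup.centralizer ((Cfsg.generalizedFittingSubgroup G : Subgroup G) : Set G) = ⊥)
    (V : Subgroup G) (hVc : ∀ a ∈ V, ∀ b ∈ V, a * b = b * a) (hV2 : ∀ a ∈ V, a * a = 1)
    (hS : Cfsg.IsSidkiPair V) {L : Subgroup G} (hL : Cfsg.IsComponent L)
    (v : G) (hvV : v ∈ V) (hvL : L.map (MulAut.conj v).toMonoidHom ≠ L)
    (a : G) (haL : a ∈ L) (hodd : Odd (orderOf a)) (ha1 : a ≠ 1) :
    ∃ w ∈ V, w ≠ 1 ∧ w ∈ Subgroup.normalizer (L : Set G) ∧ w * a = a * w := by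
  have hcomp : ∀ t : G, Cfsg.IsComponent (L.map (MulAut.conj t).toMonoidHom) := fun t =>
    Cfsg.Agent.Lib.Helper22.isComponent_map_equiv (MulAut.conj t) hL
  obtain ⟨Lv, hLv⟩ : ∃ Lv : Subgroup G, Lv = L.map (MulAut.conj v).toMonoidHom := ⟨_, rfl⟩
  have hLvc : Cfsg.IsComponent Lv := by rw [hLv]; exact hcomp v
  have hLvne : Lv ≠ L := by rw [hLv]; exact hvL
  have hv2 : v * v = 1 := hV2 v hvV
  obtain ⟨av, hav⟩ : ∃ av : G, av = v * a * v⁻¹ := ⟨_, rfl⟩
  have havLv : av ∈ Lv := by rw [hav, hLv]; exact sk_conj_mem_map L v a haL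
  have hcomm : ∀ x ∈ L, ∀ y ∈ Lv, x * y = y * x :=
    Cfsg.Agent.Lib.Helper22.comm_of_commutator_eq_bot
      (Cfsg.Agent.Lib.Helper22.components_commute hL hLvc (Ne.symm hLvne))
  have hinfLv : ∀ x ∈ L, x ∈ Lv → x = 1 := fun x hx hx' =>
    sk_component_inf hZ hL hLvc (Ne.symm hLvne) x hx hx'
  obtain ⟨h, hh⟩ : ∃ h : G, h = a⁻¹ * av := ⟨_, rfl⟩
  have hhodd : Odd (orderOf h) := by
    rw [hh]
    apply sk_odd_mul
    · exact hcomm a⁻¹ (L.inv_mem haL) av havLv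
    · rw [orderOf_inv]; exact hodd
    · rw [hav, Cfsg.Agent.Lib.Helper47.orderOf_conj_eq]; exact hodd
  have hhinv : v * h * v⁻¹ = h⁻¹ := by
    rw [hh, hav]
    have e : v * (a⁻¹ * (v * a * v⁻¹)) * v⁻¹ =
        (v * a * v⁻¹)⁻¹ * ((v * v) * a * (v * v)⁻¹) := by group
    rw [e, hv2]; group
  obtain ⟨w, hwV, hw1, hwh⟩ := hS h v hvV hhodd hhinv
  have hvw : v * w = w * v := hVc v hvV w hwV
  obtain ⟨Lw, hLw⟩ : ∃ Lw : Subgroup G, Lw = L.map (MulAut.conj w).toMonoidHom := ⟨_, rfl⟩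
  have hLwc : Cfsg.IsComponent Lw := by rw [hLw]; exact hcomp w
  obtain ⟨aw, haw⟩ : ∃ aw : G, aw = w * a * w⁻¹ := ⟨_, rfl⟩
  have hawLw : aw ∈ Lw := by rw [haw, hLw]; exact sk_conj_mem_map L w a haL
  obtain ⟨X, hX⟩ : ∃ X : G, X = v * aw * v⁻¹ := ⟨_, rfl⟩
  have hE1 : aw⁻¹ * X = a⁻¹ * av := by
    have h1 : w * h * w⁻¹ = h := by rw [hwh, mul_inv_cancel_right]
    rw [hh] at h1
    have e : w * (a⁻¹ * av) * w⁻¹ = aw⁻¹ * X := by
      rw [hX, haw, hav]
      have e1 : w * (a⁻¹ * (v * a * v⁻¹)) * w⁻¹ =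
          (w * a * w⁻¹)⁻¹ * ((w * v) * a * (w * v)⁻¹) := by group
      have e2 : v * (w * a * w⁻¹) * v⁻¹ = (v * w) * a * (v * w)⁻¹ := by group
      rw [e1, e2, hvw]
    rw [← e]; exact h1
  obtain ⟨Lvw, hLvw⟩ : ∃ Lvw : Subgroup G,
      Lvw = L.map (MulAut.conj (v * w)).toMonoidHom := ⟨_, rfl⟩
  have hLvwc : Cfsg.IsComponent Lvw := by rw [hLvw]; exact hcomp (v * w)
  have hXLvw : X ∈ Lvw := by
    have e : X = (v * w) * a * (v * w)⁻¹ := by rw [hX, haw]; group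
    rw [e, hLvw]; exact sk_conj_mem_map L (v * w) a haL
  by_cases hA : Lw = L
  · -- `w` normalizes `L`
    refine ⟨w, hwV, hw1, sk_mem_normalizer_of_map_eq (by rw [← hLw]; exact hA), ?_⟩
    have hawL : aw ∈ L := by rw [← hA]; exact hawLw
    have hXLv : X ∈ Lv := by rw [hX, hLv]; exact sk_conj_mem_map L v aw hawL
    have h2 : a * aw⁻¹ = av * X⁻¹ := by
      have e : a * aw⁻¹ = a * (aw⁻¹ * X) * X⁻¹ := by group
      rw [e, hE1]; group
    have h3 : a * aw⁻¹ = 1 :=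
      hinfLv _ (L.mul_mem haL (L.inv_mem hawL))
        (by rw [h2]; exact Lv.mul_mem havLv (Lv.inv_mem hXLv))
    have h4 : a = aw := mul_inv_eq_one.mp h3
    rw [haw] at h4
    calc w * a = w * a * w⁻¹ * w := by group
      _ = a * w := by rw [← h4]
  · by_cases hB : Lvw = L
    · -- `v w` inverts `a`
      have hXL : X ∈ L := by rw [← hB]; exact hXLvw
      have hawLv : aw ∈ Lv := by
        have e : aw = v * X * v⁻¹ := by
          rw [hX]
          have e' : v * (v * aw * v⁻¹) * v⁻¹ = (v * v) * aw * (v * v)⁻¹ := by group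
          rw [e', hv2]; group
        rw [e, hLv]; exact sk_conj_mem_map L v X hXL
      have h2 : a * X = av * aw := by
        have hc1 : X * aw⁻¹ = aw⁻¹ * X := hcomm X hXL aw⁻¹ (Lv.inv_mem hawLv)
        have e : a * X = a * (X * aw⁻¹) * aw := by group
        rw [e, hc1, hE1]; group
      have h3 : a * X = 1 :=
        hinfLv _ (L.mul_mem haL hXL) (by rw [h2]; exact Lv.mul_mem havLv hawLv)
      have hXa : X = a⁻¹ := eq_inv_of_mul_eq_one_right h3
      have h4 : (v * w) * a * (v * w)⁻¹ = a⁻¹ := by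
        rw [← hXa, hX, haw]; group
      obtain ⟨w', hw'V, hw'1, hw'a⟩ := hS a (v * w) (V.mul_mem hvV hwV) hodd h4
      refine ⟨w', hw'V, hw'1, ?_, hw'a⟩
      by_cases hC : L.map (MulAut.conj w').toMonoidHom = L
      · exact sk_mem_normalizer_of_map_eq hC
      · exfalso
        apply ha1
        apply sk_component_inf hZ hL (hcomp w') (Ne.symm hC) a haL
        have e : w' * a * w'⁻¹ = a := by rw [hw'a]; group
        rw [← e]; exact sk_conj_mem_map L w' a haL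
    · -- `a` is central in `L`
      exfalso
      apply ha1
      have hcw : ∀ x ∈ L, ∀ y ∈ Lw, x * y = y * x :=
        Cfsg.Agent.Lib.Helper22.comm_of_commutator_eq_bot
          (Cfsg.Agent.Lib.Helper22.components_commute hL hLwc (Ne.symm hA))
      have hcvw : ∀ x ∈ L, ∀ y ∈ Lvw, x * y = y * x :=
        Cfsg.Agent.Lib.Helper22.comm_of_commutator_eq_bot
          (Cfsg.Agent.Lib.Helper22.components_commute hL hLvwc (Ne.symm hB))
      have h5 : a⁻¹ = aw⁻¹ * X * av⁻¹ := by rw [hE1]; group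
      apply sk_component_center hZ hL a haL
      intro l hl
      have h6 : a⁻¹ * l = l * a⁻¹ := by
        rw [h5]
        have c1 : l * aw⁻¹ = aw⁻¹ * l := hcw l hl aw⁻¹ (Lw.inv_mem hawLw)
        have c2 : l * X = X * l := hcvw l hl X hXLvw
        have c3 : l * av⁻¹ = av⁻¹ * l := hcomm l hl av⁻¹ (Lv.inv_mem havLv)
        calc aw⁻¹ * X * av⁻¹ * l = aw⁻¹ * X * (av⁻¹ * l) := by group
          _ = aw⁻¹ * X * (l * av⁻¹) := by rw [c3]
          _ = aw⁻¹ * (X * l) * av⁻¹ := by group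
          _ = aw⁻¹ * (l * X) * av⁻¹ := by rw [c2]
          _ = (aw⁻¹ * l) * X * av⁻¹ := by group
          _ = (l * aw⁻¹) * X * av⁻¹ := by rw [c1]
          _ = l * (aw⁻¹ * X * av⁻¹) := by group
      calc a * l = a * (l * a⁻¹) * a := by group
        _ = a * (a⁻¹ * l) * a := by rw [h6]
        _ = l * a := by group

/-- In a minimal counterexample, every component is normal. -/
theorem sk_component_normal {G : Type u} [Group G] [Finite G] (hO : Cfsg.pCore 2 G = ⊥)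
    (hminG : sk_Min G) (V : Subgroup G) (hV : Cfsg.IsElementaryAbelian 2 V) (hV1 : V ≠ ⊥)
    (hS : Cfsg.IsSidkiPair V) {L : Subgroup G} (hL : Cfsg.IsComponent L) : L.Normal := by
  haveI : Fact (Nat.Prime 2) := ⟨Nat.prime_two⟩
  obtain ⟨hVc, hV2⟩ := (sk_elemAb_iff V).mp hV
  have hZ := sk_center_fstar_trivial hO hminG V hV hV1 hS
  have hsup := sk_sup_fstar_eq_top hO hminG V hVc hV2 hV1 hS
  obtain ⟨hFN, hFlayer⟩ := sk_fstar_eq_normalClosure hO hminG V hV hV1 hS hL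
  have hFnorm : Cfsg.generalizedFittingSubgroup G ≤ Subgroup.normalizer (L : Set G) := by
    rw [hFlayer]; exact Cfsg.Agent.Lib.Helper22.layer_le_normalizer_component hL
  by_contra hLn
  obtain ⟨v, hvV, hvL⟩ : ∃ v ∈ V, L.map (MulAut.conj v).toMonoidHom ≠ L := by
    by_contra hcon
    push_neg at hcon
    apply hLn
    have hle : V ⊔ Cfsg.generalizedFittingSubgroup G ≤ Subgroup.normalizer (L : Set G) :=
      sup_le (fun v hv => sk_mem_normalizer_of_map_eq (hcon v hv)) hFnorm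
    rw [hsup] at hle
    exact Subgroup.normalizer_eq_top_iff.mp (top_le_iff.mp hle)
  have claimE : ∀ a ∈ L, Odd (orderOf a) → a ≠ 1 →
      ∃ w ∈ V, w ≠ 1 ∧ w ∈ Subgroup.normalizer (L : Set G) ∧ w * a = a * w :=
    fun a haL hodd ha1 => sk_claimE hZ V hVc hV2 hS hL v hvV hvL a haL hodd ha1
  obtain ⟨a₀, ha₀L, ha₀odd, ha₀1⟩ : ∃ a₀ ∈ L, Odd (orderOf a₀) ∧ a₀ ≠ 1 := by
    by_contra hcon
    push_neg at hcon
    have hp : IsPGroup 2 ↥L := by
      intro g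
      have hpos : orderOf g ≠ 0 := (orderOf_pos g).ne'
      obtain ⟨k, m, hm, hkm⟩ := Nat.exists_eq_two_pow_mul_odd hpos
      refine ⟨k, ?_⟩
      have h0 : (g ^ 2 ^ k) ^ m = 1 := by rw [← pow_mul, ← hkm, pow_orderOf_eq_one]
      have h1 : Odd (orderOf (g ^ 2 ^ k)) := Odd.of_dvd_nat hm (orderOf_dvd_of_pow_eq_one h0)
      have h2 : Odd (orderOf ((g ^ 2 ^ k : ↥L) : G)) := by rw [Subgroup.orderOf_coe]; exact h1
      have h3 := hcon _ (g ^ 2 ^ k).2 h2
      exact Subtype.ext h3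
    haveI hnil : Group.IsNilpotent ↥L := hp.isNilpotent
    exact Cfsg.Agent.Lib.Helper22.IsQuasisimple.not_isSolvable hL.2 inferInstance
  obtain ⟨VL, hVL⟩ : ∃ VL : Subgroup G, VL = V ⊓ Subgroup.normalizer (L : Set G) := ⟨_, rfl⟩
  have hVLV : VL ≤ V := by rw [hVL]; exact inf_le_left
  have hVLN : VL ≤ Subgroup.normalizer (L : Set G) := by rw [hVL]; exact inf_le_right
  obtain ⟨w₀, hw₀V, hw₀1, hw₀N, -⟩ := claimE a₀ ha₀L ha₀odd ha₀1
  have hw₀VL : w₀ ∈ VL := by rw [hVL]; exact ⟨hw₀V, hw₀N⟩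
  have hVL1 : VL ≠ ⊥ := by
    intro h
    rw [h, Subgroup.mem_bot] at hw₀VL
    exact hw₀1 hw₀VL
  obtain ⟨H, hH⟩ : ∃ H : Subgroup G, H = L ⊔ VL := ⟨_, rfl⟩
  have hLH : L ≤ H := by rw [hH]; exact le_sup_left
  have hVLH : VL ≤ H := by rw [hH]; exact le_sup_right
  have hHN : H ≤ Subgroup.normalizer (L : Set G) := by
    rw [hH]; exact sup_le Subgroup.le_normalizer hVLN
  have hHne : H ≠ ⊤ := by
    intro h
    apply hLn
    rw [h] at hHN
    exact Subgroup.normalizer_eq_top_iff.mp (top_le_iff.mp hHN)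
  have hS' : Cfsg.IsSidkiPair (VL.subgroupOf H) := by
    intro h v' hv' hodd hinv
    by_cases h1 : (h : G) = 1
    · refine ⟨⟨w₀, hVLH hw₀VL⟩, Subgroup.mem_subgroupOf.mpr hw₀VL, ?_, ?_⟩
      · intro e; exact hw₀1 (congrArg Subtype.val e)
      · apply Subtype.ext
        show w₀ * (h : G) = (h : G) * w₀
        rw [h1, mul_one, one_mul]
    · have hodd' : Odd (orderOf (h : G)) := by rw [Subgroup.orderOf_coe]; exact hodd
      have hhL : (h : G) ∈ L := by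
        apply sk_mem_of_odd_of_mem_sup L VL hVLN (fun b hb => hV2 b (hVLV hb)) _ hodd'
        rw [← hH]; exact h.2
      obtain ⟨w, hwV, hw1, hwN, hwh⟩ := claimE (h : G) hhL hodd' h1
      have hwVL : w ∈ VL := by rw [hVL]; exact ⟨hwV, hwN⟩
      refine ⟨⟨w, hVLH hwVL⟩, Subgroup.mem_subgroupOf.mpr hwVL, ?_, Subtype.ext hwh⟩
      intro e; exact hw1 (congrArg Subtype.val e)
  obtain ⟨y, hyVL, hy1, hyP⟩ := sk_exists_mem_pCore hminG H VL hVLH hHne
    (fun a ha b hb => hVc a (hVLV ha) b (hVLV hb)) (fun a ha => hV2 a (hVLV ha)) hVL1 hS'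
  have hyc := sk_mem_centralizer_of_mem_pCore hO H L hLH hHN hL.1 y hyP
  have hyV : (y : G) ∈ V := hVLV hyVL
  apply hy1
  apply sk_eq_one_of_centralizes_fstar hO (hV2 _ hyV)
  rw [hFN]
  have hle : Subgroup.normalClosure (L : Set G) ≤ Subgroup.centralizer ({(y : G)} : Set G) := by
    unfold Subgroup.normalClosure
    rw [Subgroup.closure_le]
    intro x hx
    rw [Group.mem_conjugatesOfSet_iff] at hx
    obtain ⟨l, hl, hconj⟩ := hx
    rw [isConj_iff] at hconj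
    obtain ⟨c, hc⟩ := hconj
    haveI hFn : (Cfsg.generalizedFittingSubgroup G).Normal :=
      Cfsg.Agent.Lib.Helper22.generalizedFittingSubgroup_normal' G
    have hcmem : c ∈ ((V ⊔ Cfsg.generalizedFittingSubgroup G : Subgroup G) : Set G) := by
      rw [hsup]; exact Subgroup.mem_top c
    rw [Subgroup.mul_normal, Set.mem_mul] at hcmem
    obtain ⟨t, ht, f, hf, htf⟩ := hcmem
    have hl' : f * l * f⁻¹ ∈ L := (Subgroup.mem_normalizer_iff.mp (hFnorm hf) l).mp hl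
    show x ∈ Subgroup.centralizer ({(y : G)} : Set G)
    rw [Subgroup.mem_centralizer_iff]
    intro g hg
    rw [Set.mem_singleton_iff.mp hg]
    have c1 : (y : G) * t = t * (y : G) := hVc _ hyV t ht
    have c2 : (y : G) * (f * l * f⁻¹) = (f * l * f⁻¹) * (y : G) :=
      (Subgroup.mem_centralizer_iff.mp hyc (f * l * f⁻¹) hl').symm
    have c3 : (y : G) * t⁻¹ = t⁻¹ * (y : G) := hVc _ hyV t⁻¹ (V.inv_mem ht)
    rw [← hc, ← htf]
    calc (y : G) * (t * f * l * (t * f)⁻¹) = ((y : G) * t) * (f * l * f⁻¹) * t⁻¹ := by group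
      _ = (t * (y : G)) * (f * l * f⁻¹) * t⁻¹ := by rw [c1]
      _ = t * ((y : G) * (f * l * f⁻¹)) * t⁻¹ := by group
      _ = t * ((f * l * f⁻¹) * (y : G)) * t⁻¹ := by rw [c2]
      _ = t * (f * l * f⁻¹) * ((y : G) * t⁻¹) := by group
      _ = t * (f * l * f⁻¹) * (t⁻¹ * (y : G)) := by rw [c3]
      _ = t * f * l * (t * f)⁻¹ * (y : G) := by group
  rw [Subgroup.mem_centralizer_iff]
  intro x hx
  exact (Subgroup.mem_centralizer_iff.mp (hle hx) (y : G) (Set.mem_singleton _)).symm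

/-- In a minimal counterexample, `F*(G)` is a normal component with trivial centre. -/
theorem sk_fstar_component {G : Type u} [Group G] [Finite G] (hO : Cfsg.pCore 2 G = ⊥)
    (hminG : sk_Min G) (V : Subgroup G) (hV : Cfsg.IsElementaryAbelian 2 V) (hV1 : V ≠ ⊥)
    (hS : Cfsg.IsSidkiPair V) :
    ∃ L : Subgroup G, Cfsg.IsComponent L ∧ L.Normal ∧ Cfsg.generalizedFittingSubgroup G = L ∧
      (∀ z ∈ L, (∀ l ∈ L, z * l = l * z) → z = 1) := by
  obtain ⟨hVc, hV2⟩ := (sk_elemAb_iff V).mp hV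
  have hZ := sk_center_fstar_trivial hO hminG V hV hV1 hS
  have hFne : Cfsg.generalizedFittingSubgroup G ≠ ⊥ := by
    intro hbot
    obtain ⟨v, hvV, hv1⟩ : ∃ v ∈ V, v ≠ 1 := by
      by_contra hcon
      push_neg at hcon
      exact hV1 ((Subgroup.eq_bot_iff_forall _).mpr hcon)
    apply hv1
    apply sk_eq_one_of_centralizes_fstar hO (hV2 v hvV)
    rw [hbot, Subgroup.mem_centralizer_iff]
    intro x hx
    have hx1 : x = 1 := Subgroup.mem_bot.mp hx
    rw [hx1, one_mul, mul_one]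
  obtain ⟨L, hL⟩ := sk_exists_component hFne hZ
  haveI hLn : L.Normal := sk_component_normal hO hminG V hV hV1 hS hL
  obtain ⟨hFN, -⟩ := sk_fstar_eq_normalClosure hO hminG V hV hV1 hS hL
  refine ⟨L, hL, hLn, ?_, fun z hz hzc => sk_component_center hZ hL z hz hzc⟩
  rw [hFN]
  exact Subgroup.normalClosure_eq_self L

end Cfsg.Agent.Lib.Helper50
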