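import Mathlib
import Cfsg.Prelude.Def_Local
import Cfsg.Prelude.Def_Solvable
import Cfsg.Prelude.Def_Transfer
import Cfsg.Prelude.Def_IsolatedElements
import Cfsg.Prelude.Def_CaseTheorems
import Cfsg.Agent.Lib.Helper49.Isolated
import Cfsg.Agent.Lib.Helper34.NPC
import Cfsg.Agent.Lib.Helper54.Frobenius
import Cfsg.Agent.Lib.Helper22.PComp
import Cfsg.Agent.Lib.Helper22.PConstr
import Cfsg.Agent.Lib.Helper22.CharP
import Cfsg.Agent.Lib.Helper22.Comp
import Cfsg.Agent.Lib.Helper22.Layer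
import Cfsg.Agent.Lib.Helper30.Bender
import Cfsg.Agent.Lib.Helper21.Quasi
import Cfsg.Agent.Lib.Helper50.Sidki
import Cfsg.Agent.S1443

/-!
Isolated elements of order `p` in groups of `p`-rank at most two (helper50): if `O_{p'}(G) = 1`
and a non-central isolated element of order `p` exists (`p` odd), then `F*(G)` is simple.
-/

set_option autoImplicit false

namespace Cfsg.Agent.Lib.Helper50

universe u

/-- Conjugates of isolated elements are isolated. -/
theorem iz_isolated_conj {G : Type*} [Group G] {x : G} (hiso : Cfsg.IsIsolated x) (h : G) :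
    Cfsg.IsIsolated (h * x * h⁻¹) := by
  intro g hc
  have hc' : (h * x * h⁻¹) * (g * (h * x * h⁻¹) * g⁻¹) =
      (g * (h * x * h⁻¹) * g⁻¹) * (h * x * h⁻¹) := hc
  have h1 : Commute x ((h⁻¹ * g * h) * x * (h⁻¹ * g * h)⁻¹) := by
    show x * ((h⁻¹ * g * h) * x * (h⁻¹ * g * h)⁻¹) = ((h⁻¹ * g * h) * x * (h⁻¹ * g * h)⁻¹) * x
    calc x * ((h⁻¹ * g * h) * x * (h⁻¹ * g * h)⁻¹)
        = h⁻¹ * ((h * x * h⁻¹) * (g * (h * x * h⁻¹) * g⁻¹)) * h := by group
      _ = h⁻¹ * ((g * (h * x * h⁻¹) * g⁻¹) * (h * x * h⁻¹)) * h := by rw [hc']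
      _ = ((h⁻¹ * g * h) * x * (h⁻¹ * g * h)⁻¹) * x := by group
  have h2 := hiso (h⁻¹ * g * h) h1
  calc g * (h * x * h⁻¹) * g⁻¹ = h * ((h⁻¹ * g * h) * x * (h⁻¹ * g * h)⁻¹) * h⁻¹ := by group
    _ = h * x * h⁻¹ := by rw [h2]

/-- Every `p`-subgroup is centralized by a conjugate of a given `p`-element lying in a common
Sylow `p`-subgroup. -/
theorem iz_exists_conj {G : Type*} [Group G] [Finite G] {p : ℕ} [Fact p.Prime] (x : G)
    (hxp : x ^ p = 1) (R : Subgroup G) (hR : IsPGroup p R) :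
    ∃ h : G, ∃ T : Sylow p G, R ≤ T ∧ h * x * h⁻¹ ∈ T := by
  obtain ⟨T, hT⟩ := hR.exists_le_sylow
  have hzx : IsPGroup p (Subgroup.zpowers x) := by
    rintro ⟨_, j, rfl⟩
    refine ⟨1, Subtype.ext ?_⟩
    show (x ^ j) ^ p ^ 1 = 1
    rw [pow_one, ← zpow_natCast, ← zpow_mul, mul_comm, zpow_mul, zpow_natCast, hxp, one_zpow]
  obtain ⟨Px, hPx⟩ := hzx.exists_le_sylow
  obtain ⟨g, hg⟩ := MulAction.exists_smul_eq G Px T
  refine ⟨g, T, hT, ?_⟩
  rw [← hg]
  have hx : x ∈ (Px : Subgroup G) := hPx (Subgroup.mem_zpowers x)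
  have h1 := Subgroup.smul_mem_pointwise_smul x (MulAut.conj g) (Px : Subgroup G) hx
  exact h1

/-- An isolated non-central element lies in no normal `p`-subgroup. -/
theorem iz_not_mem_normal {G : Type*} [Group G] [Finite G] {p : ℕ} [Fact p.Prime] {x : G}
    (hiso : Cfsg.IsIsolated x) (hnc : x ∉ Subgroup.center G) (N : Subgroup G) [hN : N.Normal]
    (hNp : IsPGroup p N) : x ∉ N := by
  intro hxN
  apply hnc
  rw [Subgroup.mem_center_iff]
  intro g
  have h1 := Cfsg.Agent.Lib.Helper49.isolated_conj_eq hiso N hNp hxN g (hN.conj_mem x hxN g)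
  calc g * x = (g * x * g⁻¹) * g := by group
    _ = x * g := by rw [h1]

theorem iz_conj_not_mem_normal {G : Type*} [Group G] [Finite G] {p : ℕ} [Fact p.Prime] {x : G}
    (hiso : Cfsg.IsIsolated x) (hnc : x ∉ Subgroup.center G) (N : Subgroup G) [hN : N.Normal]
    (hNp : IsPGroup p N) (h : G) : h * x * h⁻¹ ∉ N := by
  intro hmem
  apply iz_not_mem_normal hiso hnc N hNp
  have h1 := hN.conj_mem _ hmem h⁻¹
  have e : h⁻¹ * (h * x * h⁻¹) * h⁻¹⁻¹ = x := by group
  rwa [e] at h1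

/-- Elements of the join of two elementwise commuting subgroups are products. -/
theorem iz_mem_sup_comm {G : Type*} [Group G] (H K : Subgroup G)
    (hc : ∀ h ∈ H, ∀ k ∈ K, h * k = k * h) {g : G} (hg : g ∈ H ⊔ K) :
    ∃ h ∈ H, ∃ k ∈ K, g = h * k := by
  have hle : H ≤ Subgroup.normalizer (K : Set G) := by
    intro h hh
    apply Subgroup.centralizer_le_normalizer
    rw [Subgroup.mem_centralizer_iff]
    intro k hk
    exact (hc h hh k hk).symm
  have h1 := Subgroup.coe_mul_of_left_le_normalizer_right H K hle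
  have hg' : g ∈ ((H ⊔ K : Subgroup G) : Set G) := hg
  rw [h1, Set.mem_mul] at hg'
  obtain ⟨h, hh, k, hk, e⟩ := hg'
  exact ⟨h, hh, k, hk, e.symm⟩

/-- The join of two commuting elementary abelian subgroups is elementary abelian. -/
theorem iz_sup_elemAb {G : Type*} [Group G] (p : ℕ) (H K : Subgroup G)
    (hH : ∀ a ∈ H, ∀ b ∈ H, a * b = b * a) (hK : ∀ a ∈ K, ∀ b ∈ K, a * b = b * a)
    (hc : ∀ h ∈ H, ∀ k ∈ K, h * k = k * h) (hHp : ∀ a ∈ H, a ^ p = 1)
    (hKp : ∀ a ∈ K, a ^ p = 1) :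
    (∀ a ∈ H ⊔ K, ∀ b ∈ H ⊔ K, a * b = b * a) ∧ ∀ a ∈ H ⊔ K, a ^ p = 1 := by
  constructor
  · intro a ha b hb
    obtain ⟨h, hh, k, hk, rfl⟩ := iz_mem_sup_comm H K hc ha
    obtain ⟨h', hh', k', hk', rfl⟩ := iz_mem_sup_comm H K hc hb
    calc h * k * (h' * k') = h * (k * h') * k' := by group
      _ = h * (h' * k) * k' := by rw [← hc h' hh' k hk]
      _ = (h * h') * (k * k') := by group
      _ = (h' * h) * (k' * k) := by rw [hH h hh h' hh', hK k hk k' hk']
      _ = h' * (h * k') * k := by group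
      _ = h' * (k' * h) * k := by rw [hc h hh k' hk']
      _ = h' * k' * (h * k) := by group
  · intro a ha
    obtain ⟨h, hh, k, hk, rfl⟩ := iz_mem_sup_comm H K hc ha
    rw [(show Commute h k from hc h hh k hk).mul_pow, hHp h hh, hKp k hk, one_mul]

theorem iz_zpowers_comm {G : Type*} [Group G] (a : G) :
    ∀ u ∈ Subgroup.zpowers a, ∀ v ∈ Subgroup.zpowers a, u * v = v * u := by
  rintro _ ⟨i, rfl⟩ _ ⟨j, rfl⟩
  exact zpow_mul_comm a i j

theorem iz_zpowers_exp {G : Type*} [Group G] {p : ℕ} {a : G} (ha : a ^ p = 1) :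
    ∀ u ∈ Subgroup.zpowers a, u ^ p = 1 := by
  rintro _ ⟨i, rfl⟩
  rw [← zpow_natCast, ← zpow_mul, mul_comm, zpow_mul, zpow_natCast, ha, one_zpow]

theorem iz_zpowers_cross {G : Type*} [Group G] {a b : G} (hab : a * b = b * a) :
    ∀ u ∈ Subgroup.zpowers a, ∀ v ∈ Subgroup.zpowers b, u * v = v * u := by
  rintro _ ⟨i, rfl⟩ _ ⟨j, rfl⟩
  exact ((show Commute a b from hab).zpow_zpow i j)

theorem iz_isPGroup_of_exp {G : Type*} [Group G] {p : ℕ} (H : Subgroup G)
    (hH : ∀ a ∈ H, a ^ p = 1) : IsPGroup p H := by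
  intro g
  refine ⟨1, Subtype.ext ?_⟩
  show (g : G) ^ p ^ 1 = 1
  rw [pow_one]; exact hH g g.2

/-- Rank lemma: with `p`-rank at most two, an element of order dividing `p` commuting with two
independent commuting elements of order `p` is a product of powers of them. -/
theorem iz_rank {G : Type*} [Group G] [Finite G] {p : ℕ} [Fact p.Prime]
    (hrank : Cfsg.PRankLE p 2 G) {a b c : G} (ha : a ^ p = 1) (hb : b ^ p = 1) (hc : c ^ p = 1)
    (hab : a * b = b * a) (hac : a * c = c * a) (hbc : b * c = c * b) (ha1 : a ≠ 1)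
    (hba : b ∉ Subgroup.zpowers a) :
    ∃ u ∈ Subgroup.zpowers a, ∃ v ∈ Subgroup.zpowers b, c = u * v := by
  have hp : p.Prime := Fact.out
  obtain ⟨B₂, hB₂⟩ : ∃ B₂ : Subgroup G, B₂ = Subgroup.zpowers a ⊔ Subgroup.zpowers b := ⟨_, rfl⟩
  obtain ⟨hB₂c, hB₂e⟩ := iz_sup_elemAb p (Subgroup.zpowers a) (Subgroup.zpowers b)
    (iz_zpowers_comm a) (iz_zpowers_comm b) (iz_zpowers_cross hab) (iz_zpowers_exp ha)
    (iz_zpowers_exp hb)
  rw [← hB₂] at hB₂c hB₂e
  have hcross : ∀ h ∈ B₂, ∀ k ∈ Subgroup.zpowers c, h * k = k * h := by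
    have hle : B₂ ≤ Subgroup.centralizer ((Subgroup.zpowers c : Subgroup G) : Set G) := by
      rw [hB₂]
      apply sup_le
      · intro u hu
        rw [Subgroup.mem_centralizer_iff]
        intro k hk
        exact (iz_zpowers_cross hac u hu k hk).symm
      · intro u hu
        rw [Subgroup.mem_centralizer_iff]
        intro k hk
        exact (iz_zpowers_cross hbc u hu k hk).symm
    intro h hh k hk
    exact (Subgroup.mem_centralizer_iff.mp (hle hh) k hk).symm
  obtain ⟨hB₃c, hB₃e⟩ := iz_sup_elemAb p B₂ (Subgroup.zpowers c) hB₂c (iz_zpowers_comm c) hcross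
    hB₂e (iz_zpowers_exp hc)
  have hcard3 : Nat.card ↥(B₂ ⊔ Subgroup.zpowers c) ≤ p ^ 2 :=
    hrank (B₂ ⊔ Subgroup.zpowers c)
      (IsMulCommutative.of_comm (fun u v => Subtype.ext (hB₃c u u.2 v v.2))) hB₃e
  have hcard2 : p ^ 2 ≤ Nat.card ↥B₂ := by
    have hPG : IsPGroup p ↥B₂ := iz_isPGroup_of_exp B₂ hB₂e
    obtain ⟨n, hn⟩ := IsPGroup.iff_card.mp hPG
    have hlt : Subgroup.zpowers a < B₂ := by
      refine lt_of_le_of_ne (by rw [hB₂]; exact le_sup_left) ?_
      intro heq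
      apply hba
      rw [heq, hB₂]
      exact (le_sup_right : Subgroup.zpowers b ≤ _) (Subgroup.mem_zpowers b)
    have h1 := Cfsg.Agent.Lib.Helper54.card_lt_card_of_lt hlt
    rw [Nat.card_zpowers, orderOf_eq_prime ha ha1, hn] at h1
    rw [hn]
    have hn2 : 2 ≤ n := by
      by_contra hcon
      have hn1 : n ≤ 1 := by omega
      have h2 := Nat.pow_le_pow_right hp.pos hn1
      rw [pow_one] at h2
      omega
    exact Nat.pow_le_pow_right hp.pos hn2
  have heq : B₂ = B₂ ⊔ Subgroup.zpowers c :=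
    Subgroup.eq_of_le_of_card_ge le_sup_left (hcard3.trans hcard2)
  have hcB : c ∈ B₂ := by
    rw [heq]
    exact (le_sup_right : Subgroup.zpowers c ≤ _) (Subgroup.mem_zpowers c)
  rw [hB₂] at hcB
  exact iz_mem_sup_comm _ _ (iz_zpowers_cross hab) hcB

/-- Fusion lemma: if no conjugate of the isolated element `x` lies in `⟨a⟩` (`a` of order `p`),
then every subgroup centralizing `a` satisfies the Frobenius condition. -/
theorem iz_ifc {G : Type*} [Group G] [Finite G] {p : ℕ} [Fact p.Prime] (hp : p ≠ 2)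
    (hrank : Cfsg.PRankLE p 2 G) (x : G) (hx : orderOf x = p) (hiso : Cfsg.IsIsolated x)
    (a : G) (ha : a ^ p = 1) (ha1 : a ≠ 1) (hxa : ∀ h : G, h * x * h⁻¹ ∉ Subgroup.zpowers a)
    (M : Subgroup G) (hM : ∀ m ∈ M, m * a = a * m) : Cfsg.Agent.Lib.Helper34.IFC p M := by
  have hxp : x ^ p = 1 := by rw [← hx]; exact pow_orderOf_eq_one x
  intro Q hQM hQ g hgM hgN hgcop
  have hbot : Cfsg.IsElementaryAbelian p (⊥ : Subgroup G) := by
    refine ⟨IsMulCommutative.of_comm (fun u v => Subsingleton.elim _ _), fun u hu => ?_⟩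
    rw [Subgroup.mem_bot.mp hu, one_pow]
  have hfix : ∀ w ∈ Q ⊓ Subgroup.centralizer (((⊥ : Subgroup G) : Subgroup G) : Set G),
      orderOf w = p → Subgroup.zpowers g ≤ Subgroup.centralizer ({w} : Set G) := by
    intro w hw hwp
    have hwQ : w ∈ Q := hw.1
    have hwpow : w ^ p = 1 := by rw [← hwp]; exact pow_orderOf_eq_one w
    rw [Subgroup.zpowers_le, Subgroup.mem_centralizer_iff]
    intro y hy
    rw [Set.mem_singleton_iff.mp hy]
    have hwa : w * a = a * w := hM w (hQM hwQ)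
    have hga : g * a = a * g := hM g hgM
    obtain ⟨-, hRe⟩ := iz_sup_elemAb p (Subgroup.zpowers a) (Subgroup.zpowers w)
      (iz_zpowers_comm a) (iz_zpowers_comm w) (iz_zpowers_cross hwa.symm) (iz_zpowers_exp ha)
      (iz_zpowers_exp hwpow)
    have hR : IsPGroup p ↥(Subgroup.zpowers a ⊔ Subgroup.zpowers w) := iz_isPGroup_of_exp _ hRe
    obtain ⟨h, T, hRT, hx'T⟩ := iz_exists_conj x hxp _ hR
    obtain ⟨x', hx'⟩ : ∃ x' : G, x' = h * x * h⁻¹ := ⟨_, rfl⟩
    rw [← hx'] at hx'T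
    have hiso' : Cfsg.IsIsolated x' := by rw [hx']; exact iz_isolated_conj hiso h
    have hx'p : x' ^ p = 1 := by
      rw [hx', conj_pow, hxp]; group
    have haT : a ∈ (T : Subgroup G) :=
      hRT ((le_sup_left : Subgroup.zpowers a ≤ _) (Subgroup.mem_zpowers a))
    have hwT : w ∈ (T : Subgroup G) :=
      hRT ((le_sup_right : Subgroup.zpowers w ≤ _) (Subgroup.mem_zpowers w))
    have hx'a : x' * a = a * x' :=
      (Cfsg.Agent.Lib.Helper49.isolated_commute_of_mem_pgroup hiso' T T.isPGroup' hx'T a haT).eq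
    have hx'w : x' * w = w * x' :=
      (Cfsg.Agent.Lib.Helper49.isolated_commute_of_mem_pgroup hiso' T T.isPGroup' hx'T w hwT).eq
    have hx'a' : x' ∉ Subgroup.zpowers a := by rw [hx']; exact hxa h
    have hx'1 : x' ≠ 1 := by
      intro h1; apply hx'a'; rw [h1]; exact Subgroup.one_mem _
    obtain ⟨u, hu, v, hv, hwuv⟩ := iz_rank hrank ha hx'p hwpow hx'a.symm hwa.symm hx'w ha1 hx'a'
    have hgu : g * u = u * g := by
      obtain ⟨i, hi⟩ := hu
      rw [← hi]
      exact ((show Commute g a from hga).zpow_right i).eq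
    by_cases hv1 : v = 1
    · rw [hwuv, hv1, mul_one]; exact hgu.symm
    · have hvp : v ^ p = 1 := iz_zpowers_exp hx'p v hv
      have hzeq : Subgroup.zpowers v = Subgroup.zpowers x' := by
        apply Subgroup.eq_of_le_of_card_ge (Subgroup.zpowers_le.mpr hv)
        rw [Nat.card_zpowers, Nat.card_zpowers, orderOf_eq_prime hvp hv1,
          orderOf_eq_prime hx'p hx'1]
      have hx'v : x' ∈ Subgroup.zpowers v := by rw [hzeq]; exact Subgroup.mem_zpowers x'
      have hQa : Q ≤ Subgroup.normalizer ((Subgroup.zpowers a : Subgroup G) : Set G) := by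
        intro q hq
        apply Subgroup.centralizer_le_normalizer
        rw [Subgroup.mem_centralizer_iff]
        intro k hk
        obtain ⟨i, hi⟩ := hk
        rw [← hi]
        exact ((show Commute q a from hM q (hQM hq)).zpow_right i).eq.symm
      have hQ₁ : IsPGroup p ↥(Subgroup.zpowers a ⊔ Q) :=
        IsPGroup.to_sup_of_normal_left' (iz_isPGroup_of_exp _ (iz_zpowers_exp ha)) hQ hQa
      have huQ₁ : u ∈ Subgroup.zpowers a ⊔ Q := (le_sup_left : Subgroup.zpowers a ≤ _) hu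
      have hv_eq : v = u⁻¹ * w := by rw [hwuv]; group
      have hvQ₁ : v ∈ Subgroup.zpowers a ⊔ Q := by
        rw [hv_eq]
        exact Subgroup.mul_mem _ (Subgroup.inv_mem _ huQ₁) ((le_sup_right : Q ≤ _) hwQ)
      have hx'Q₁ : x' ∈ Subgroup.zpowers a ⊔ Q := (Subgroup.zpowers_le.mpr hvQ₁) hx'v
      have hgvQ₁ : g * v * g⁻¹ ∈ Subgroup.zpowers a ⊔ Q := by
        have e : g * v * g⁻¹ = u⁻¹ * (g * w * g⁻¹) := by
          rw [hv_eq]
          have hgu' : g * u⁻¹ = u⁻¹ * g := ((show Commute g u from hgu).inv_right).eq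
          calc g * (u⁻¹ * w) * g⁻¹ = (g * u⁻¹) * w * g⁻¹ := by group
            _ = (u⁻¹ * g) * w * g⁻¹ := by rw [hgu']
            _ = u⁻¹ * (g * w * g⁻¹) := by group
        rw [e]
        exact Subgroup.mul_mem _ (Subgroup.inv_mem _ huQ₁)
          ((le_sup_right : Q ≤ _) ((Subgroup.mem_normalizer_iff.mp hgN w).mp hwQ))
      have hgx'Q₁ : g * x' * g⁻¹ ∈ Subgroup.zpowers a ⊔ Q := by
        obtain ⟨m, hm⟩ := hx'v
        have hm' : v ^ m = x' := hm
        have e : g * x' * g⁻¹ = (g * v * g⁻¹) ^ m := by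
          rw [conj_zpow, hm']
        rw [e]
        exact Subgroup.zpow_mem _ hgvQ₁ m
      have hgx' : g * x' * g⁻¹ = x' :=
        Cfsg.Agent.Lib.Helper49.isolated_conj_eq hiso' _ hQ₁ hx'Q₁ g hgx'Q₁
      have hgx'c : g * x' = x' * g := by
        calc g * x' = (g * x' * g⁻¹) * g := by group
          _ = x' * g := by rw [hgx']
      have hgv : g * v = v * g := by
        obtain ⟨i, hi⟩ := hv
        rw [← hi]
        exact ((show Commute g x' from hgx'c).zpow_right i).eq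
      rw [hwuv]
      calc u * v * g = u * (v * g) := by group
        _ = u * (g * v) := by rw [hgv]
        _ = (u * g) * v := by group
        _ = (g * u) * v := by rw [hgu]
        _ = g * (u * v) := by group
  exact (Cfsg.Agent.S1443.result p hp Q ⊥ (Subgroup.zpowers g) hQ bot_le hbot
    (Subgroup.zpowers_le.mpr hgN) (by rw [Nat.card_zpowers]; exact hgcop) hfix)
    (Subgroup.mem_zpowers g)

/-- Step 1: there is no nontrivial normal `p`-subgroup. -/
theorem iz_normal_pgroup_eq_bot {G : Type*} [Group G] [Finite G] {p : ℕ} [Fact p.Prime]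
    (hp : p ≠ 2) (hcore : Cfsg.pPrimeCore p G = ⊥) (hrank : Cfsg.PRankLE p 2 G) (x : G)
    (hx : orderOf x = p) (hiso : Cfsg.IsIsolated x) (hnc : x ∉ Subgroup.center G)
    (N : Subgroup G) [hN : N.Normal] (hNp : IsPGroup p N) : N = ⊥ := by
  have hpp : p.Prime := Fact.out
  have hxp : x ^ p = 1 := by rw [← hx]; exact pow_orderOf_eq_one x
  by_contra hne
  obtain ⟨a, haN, ha, ha1⟩ : ∃ a ∈ N, a ^ p = 1 ∧ a ≠ 1 := by
    obtain ⟨n, hn⟩ := IsPGroup.iff_card.mp hNp
    have hlt : 1 < Nat.card ↥N := (Subgroup.one_lt_card_iff_ne_bot N).mpr hne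
    have hn0 : n ≠ 0 := by
      intro h0; rw [hn, h0, pow_zero] at hlt; exact lt_irrefl _ hlt
    have hdvd : p ∣ Nat.card ↥N := by rw [hn]; exact dvd_pow_self p hn0
    obtain ⟨b, hb⟩ := exists_prime_orderOf_dvd_card' p hdvd
    refine ⟨(b : G), b.2, ?_, ?_⟩
    · have h1 := pow_orderOf_eq_one b
      rw [hb] at h1
      exact congrArg Subtype.val h1
    · intro h1
      have h2 : b = 1 := Subtype.ext h1
      rw [h2, orderOf_one] at hb
      exact hpp.one_lt.ne hb
  obtain ⟨C, hC⟩ : ∃ C : Subgroup G, C = Subgroup.centralizer (N : Set G) := ⟨_, rfl⟩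
  haveI hCn : C.Normal := by rw [hC]; infer_instance
  have hxC : x ∈ C := by
    rw [hC, Subgroup.mem_centralizer_iff]
    intro n hn
    have hR : IsPGroup p ↥(N ⊔ Subgroup.zpowers x) :=
      IsPGroup.to_sup_of_normal_left hNp (iz_isPGroup_of_exp _ (iz_zpowers_exp hxp))
    exact (Cfsg.Agent.Lib.Helper49.isolated_commute_of_mem_pgroup hiso _ hR
      ((le_sup_right : Subgroup.zpowers x ≤ _) (Subgroup.mem_zpowers x)) n
      ((le_sup_left : N ≤ _) hn)).eq.symm
  have hIFC : Cfsg.Agent.Lib.Helper34.IFC p C := by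
    apply iz_ifc hp hrank x hx hiso a ha ha1
    · intro h hmem
      exact iz_conj_not_mem_normal hiso hnc N hNp h (Subgroup.zpowers_le.mpr haN hmem)
    · intro m hm
      rw [hC] at hm
      exact (Subgroup.mem_centralizer_iff.mp hm a haN).symm
  obtain ⟨D, hDn, hDC, hDcop, hDall⟩ := Cfsg.Agent.Lib.Helper34.exists_normal_pPrime_of_ifc C hIFC
  have hD : D = ⊥ := by
    rw [eq_bot_iff, ← hcore]
    exact le_sSup ⟨hDn, hDcop⟩
  have hCp : IsPGroup p ↥C := by
    apply Cfsg.Agent.Lib.Helper34.isPGroup_subgroup_of_forall_coprime_eq_one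
    intro y hy hycop
    have h1 := hDall y hy hycop
    rw [hD] at h1
    exact Subgroup.mem_bot.mp h1
  exact iz_not_mem_normal hiso hnc C hCp hxC

/-- Main structure result: `F*(G)` is a component with trivial centre. -/
theorem iz_fstar_simple {G : Type u} [Group G] [Finite G] {p : ℕ} [Fact p.Prime] (hp : p ≠ 2)
    (hcore : Cfsg.pPrimeCore p G = ⊥) (hrank : Cfsg.PRankLE p 2 G) (x : G) (hx : orderOf x = p)
    (hiso : Cfsg.IsIsolated x) (hnc : x ∉ Subgroup.center G) :
    ∃ L : Subgroup G, Cfsg.IsComponent L ∧ Cfsg.generalizedFittingSubgroup G = L ∧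
      (∀ z ∈ L, (∀ l ∈ L, z * l = l * z) → z = 1) := by
  have hpp : p.Prime := Fact.out
  have hx1 : x ≠ 1 := by
    intro h1; rw [h1, orderOf_one] at hx; exact hpp.one_lt.ne hx
  have hOp : Cfsg.pCore p G = ⊥ := by
    haveI := Cfsg.Agent.Lib.Helper22.pCore_normal' p G
    exact iz_normal_pgroup_eq_bot hp hcore hrank x hx hiso hnc _
      (Cfsg.Agent.Lib.Helper22.pCore_isPGroup' p G)
  have hFit : Cfsg.fittingSubgroup G = ⊥ := by
    rw [Cfsg.Agent.Lib.Helper22.fittingSubgroup_eq_pCore_of_pPrimeCore_eq_bot hcore, hOp]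
  haveI hFn : (Cfsg.generalizedFittingSubgroup G).Normal :=
    Cfsg.Agent.Lib.Helper22.generalizedFittingSubgroup_normal' G
  have hZ : Cfsg.generalizedFittingSubgroup G ⊓
      Subgroup.centralizer ((Cfsg.generalizedFittingSubgroup G : Subgroup G) : Set G) = ⊥ := by
    rw [eq_bot_iff, ← hFit]
    apply Cfsg.Agent.Lib.Helper22.le_fittingSubgroup_of_comm inferInstance
    rintro a ⟨-, ha2⟩ b ⟨hb1, -⟩
    have ha2' : a ∈ Subgroup.centralizer
        ((Cfsg.generalizedFittingSubgroup G : Subgroup G) : Set G) := ha2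
    exact (Subgroup.mem_centralizer_iff.mp ha2' b hb1).symm
  have hFne : Cfsg.generalizedFittingSubgroup G ≠ ⊥ := by
    intro hbot
    have h1 := Cfsg.Agent.Lib.Helper30.centralizer_generalizedFittingSubgroup_le G
    have h2 : x ∈ Subgroup.centralizer
        ((Cfsg.generalizedFittingSubgroup G : Subgroup G) : Set G) := by
      rw [hbot, Subgroup.mem_centralizer_iff]
      intro y hy
      rw [Subgroup.mem_bot.mp hy, one_mul, mul_one]
    have h3 := h1 h2
    rw [hbot, Subgroup.mem_bot] at h3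
    exact hx1 h3
  obtain ⟨L, hL⟩ := sk_exists_component hFne hZ
  have hdvd : ∀ K : Subgroup G, Cfsg.IsComponent K → p ∣ Nat.card ↥K := by
    intro K hK
    by_contra hnd
    have hc : (Nat.card ↥K).Coprime p := ((Nat.Prime.coprime_iff_not_dvd hpp).mpr hnd).symm
    have hle := Cfsg.Agent.Lib.Helper22.le_pPrimeCore_of_subnormal p hK.1 hc
    rw [hcore, le_bot_iff] at hle
    exact Cfsg.Agent.Lib.Helper22.IsComponent.ne_bot hK hle
  have hnoIFC : ∀ K : Subgroup G, Cfsg.IsComponent K → ¬ Cfsg.Agent.Lib.Helper34.IFC p K := by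
    intro K hK hIFC
    obtain ⟨N, hNn, hNcop, k, hk⟩ := Cfsg.Agent.Lib.Helper54.hasNormalPComplement_iff.mp
      ((Cfsg.Agent.Lib.Helper34.ifc_iff_hnpc K).mp hIFC)
    haveI := hNn
    haveI hperf : Group.IsPerfect ↥K := hK.2.1
    have hcardQ : Nat.card (↥K ⧸ N) = p ^ k := by rw [← Subgroup.index_eq_card]; exact hk
    have hQp : IsPGroup p (↥K ⧸ N) := IsPGroup.of_card hcardQ
    haveI hnil : Group.IsNilpotent (↥K ⧸ N) := hQp.isNilpotent
    have hk0 : k ≠ 0 := by
      intro h0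
      rw [h0, pow_zero] at hk
      have hNtop : N = ⊤ := Subgroup.index_eq_one.mp hk
      have hcard : Nat.card ↥N = Nat.card ↥K := by rw [hNtop, Subgroup.card_top]
      rw [hcard] at hNcop
      exact (Nat.Prime.coprime_iff_not_dvd hpp).mp hNcop.symm (hdvd K hK)
    haveI : Nontrivial (↥K ⧸ N) := by
      apply Finite.one_lt_card_iff_nontrivial.mp
      rw [hcardQ]
      exact Nat.one_lt_pow hk0 hpp.one_lt
    exact Group.IsPerfect.not_isSolvable (↥K ⧸ N) inferInstance
  have huniq : ∀ K : Subgroup G, Cfsg.IsComponent K → K = L := by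
    intro K hK
    by_contra hne
    obtain ⟨y₁, hy₁⟩ := exists_prime_orderOf_dvd_card' p (hdvd K hK)
    obtain ⟨y₂, hy₂⟩ := exists_prime_orderOf_dvd_card' p (hdvd L hL)
    have hy₁p : (y₁ : G) ^ p = 1 := by
      have h1 := pow_orderOf_eq_one y₁
      rw [hy₁] at h1
      exact congrArg Subtype.val h1
    have hy₁1 : (y₁ : G) ≠ 1 := by
      intro h1
      have h2 : y₁ = 1 := Subtype.ext h1
      rw [h2, orderOf_one] at hy₁
      exact hpp.one_lt.ne hy₁
    have hy₂p : (y₂ : G) ^ p = 1 := by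
      have h1 := pow_orderOf_eq_one y₂
      rw [hy₂] at h1
      exact congrArg Subtype.val h1
    have hy₂1 : (y₂ : G) ≠ 1 := by
      intro h1
      have h2 : y₂ = 1 := Subtype.ext h1
      rw [h2, orderOf_one] at hy₂
      exact hpp.one_lt.ne hy₂
    have hcomm : ∀ a ∈ K, ∀ b ∈ L, a * b = b * a :=
      Cfsg.Agent.Lib.Helper22.comm_of_commutator_eq_bot
        (Cfsg.Agent.Lib.Helper22.components_commute hK hL hne)
    by_cases h1 : ∀ h : G, h * x * h⁻¹ ∉ Subgroup.zpowers (y₁ : G)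
    · apply hnoIFC L hL
      apply iz_ifc hp hrank x hx hiso (y₁ : G) hy₁p hy₁1 h1
      intro m hm
      exact (hcomm (y₁ : G) y₁.2 m hm).symm
    · by_cases h2 : ∀ h : G, h * x * h⁻¹ ∉ Subgroup.zpowers (y₂ : G)
      · apply hnoIFC K hK
        apply iz_ifc hp hrank x hx hiso (y₂ : G) hy₂p hy₂1 h2
        intro m hm
        exact hcomm m hm (y₂ : G) y₂.2
      · push Not at h1 h2
        obtain ⟨h₁, hh₁⟩ := h1
        obtain ⟨h₂, hh₂⟩ := h2
        have hx₁K : h₁ * x * h₁⁻¹ ∈ K := (Subgroup.zpowers_le.mpr y₁.2) hh₁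
        have hx₂L : h₂ * x * h₂⁻¹ ∈ L := (Subgroup.zpowers_le.mpr y₂.2) hh₂
        have hiso₁ := iz_isolated_conj hiso h₁
        have hc := hcomm _ hx₁K _ hx₂L
        have e : h₂ * x * h₂⁻¹ = (h₂ * h₁⁻¹) * (h₁ * x * h₁⁻¹) * (h₂ * h₁⁻¹)⁻¹ := by group
        have h3 := hiso₁ (h₂ * h₁⁻¹) (by rw [← e]; exact hc)
        rw [← e] at h3
        have h4 : h₁ * x * h₁⁻¹ = 1 :=
          sk_component_inf hZ hK hL hne _ hx₁K (by rw [← h3]; exact hx₂L)
        apply hx1
        have e2 : x = h₁⁻¹ * (h₁ * x * h₁⁻¹) * h₁ := by group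
        rw [e2, h4]; group
  have hlayer : Cfsg.layer G = L := by
    apply le_antisymm
    · rw [Cfsg.Agent.Lib.Helper22.layer_le_iff]
      intro K hK
      rw [huniq K hK]
    · exact Cfsg.Agent.Lib.Helper22.component_le_layer hL
  have hFL : Cfsg.generalizedFittingSubgroup G = L := by
    unfold Cfsg.generalizedFittingSubgroup
    rw [hlayer, hFit, sup_bot_eq]
  exact ⟨L, hL, hFL, fun z hz hzc => sk_component_center hZ hL z hz hzc⟩

end Cfsg.Agent.Lib.Helper50
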