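import Mathlib
import Cfsg.Prelude.Def_PLocal
import Cfsg.Prelude.Def_Amalgam
import Cfsg.Agent.Lib.Helper47.Large
import Cfsg.Agent.Lib.Helper47.Subn
import Cfsg.Agent.Lib.Helper47.ZL3
import Cfsg.Agent.Lib.Helper48.Coprime
import Cfsg.Agent.Lib.Helper48.Generation
import Cfsg.Agent.Lib.Helper61.Coprime
import Cfsg.Agent.Lib.Helper90.Gaschutz
import Cfsg.Agent.Lib.Helper91.Coprime2
import Cfsg.Agent.Lib.Helper50.WeakClosedCharP

/-!
The Kieler Lemma (helper50): for a group `H` of characteristic `p`, a Sylow `p`-subgroup `T`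
and a subnormal subgroup `L`, `C_L(Ω₁Z(T)) = C_L(Ω₁Z(T ∩ L))`.
-/

set_option autoImplicit false

namespace Cfsg.Agent.Lib.Helper50

open scoped IsMulCommutative

section Kieler

variable {G : Type*} [Group G]

/-- `Ω₁(Z(S))` as an honest subgroup: the elements of `S` of order dividing `p` commuting with
all of `S`. -/
def zOmega (p : ℕ) (S : Subgroup G) : Subgroup G where
  carrier := {z | z ∈ S ∧ (∀ s ∈ S, s * z = z * s) ∧ z ^ p = 1}
  one_mem' := ⟨S.one_mem, fun s _ => by simp, one_pow p⟩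
  mul_mem' := by
    rintro a b ⟨ha, hac, hap⟩ ⟨hb, hbc, hbp⟩
    refine ⟨S.mul_mem ha hb, fun s hs => ?_, ?_⟩
    · calc s * (a * b) = (s * a) * b := by group
        _ = (a * s) * b := by rw [hac s hs]
        _ = a * (s * b) := by group
        _ = a * (b * s) := by rw [hbc s hs]
        _ = a * b * s := by group
    · have hcomm : Commute a b := hbc a ha
      rw [hcomm.mul_pow, hap, hbp, one_mul]
  inv_mem' := by
    rintro a ⟨ha, hac, hap⟩
    refine ⟨S.inv_mem ha, fun s hs => ?_, by rw [inv_pow, hap, inv_one]⟩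
    have h := hac s hs
    calc s * a⁻¹ = a⁻¹ * (a * s) * a⁻¹ := by group
      _ = a⁻¹ * (s * a) * a⁻¹ := by rw [h]
      _ = a⁻¹ * s := by group

theorem mem_zOmega {p : ℕ} {S : Subgroup G} {z : G} :
    z ∈ zOmega p S ↔ z ∈ S ∧ (∀ s ∈ S, s * z = z * s) ∧ z ^ p = 1 := Iff.rfl

theorem omegaOne_center_eq (p : ℕ) (S : Subgroup G) :
    Cfsg.omegaOne p (S ⊓ Subgroup.centralizer (S : Set G)) = zOmega p S := by
  unfold Cfsg.omegaOne
  have hset : {x : G | x ∈ S ⊓ Subgroup.centralizer (S : Set G) ∧ x ^ p = 1} =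
      (zOmega p S : Set G) := by
    ext x
    constructor
    · intro hx
      have h1 : x ∈ S ⊓ Subgroup.centralizer (S : Set G) := hx.1
      exact ⟨h1.1, fun s hs => (Subgroup.mem_centralizer_iff.mp h1.2) s hs, hx.2⟩
    · intro hx
      have h1 : x ∈ zOmega p S := hx
      exact ⟨⟨h1.1, Subgroup.mem_centralizer_iff.mpr h1.2.1⟩, h1.2.2⟩
  rw [hset, Subgroup.closure_eq]

theorem mem_centralizer_omegaOne_center {p : ℕ} {S : Subgroup G} {g : G} :
    g ∈ Subgroup.centralizer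
        ((Cfsg.omegaOne p (S ⊓ Subgroup.centralizer (S : Set G)) : Subgroup G) : Set G) ↔
      ∀ z ∈ zOmega p S, z * g = g * z := by
  rw [omegaOne_center_eq, Subgroup.mem_centralizer_iff]
  rfl

theorem zOmega_conj_mem {p : ℕ} {S : Subgroup G} {g : G}
    (hg : g ∈ Subgroup.normalizer (S : Set G)) {m : G} (hm : m ∈ zOmega p S) :
    g * m * g⁻¹ ∈ zOmega p S := by
  obtain ⟨hmS, hmc, hmp⟩ := hm
  refine ⟨wc_conj_mem hg hmS, fun q hq => ?_, ?_⟩
  · have h1 : g⁻¹ * q * g ∈ S := wc_conj_mem' hg hq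
    have h2 := hmc _ h1
    calc q * (g * m * g⁻¹) = g * ((g⁻¹ * q * g) * m) * g⁻¹ := by group
      _ = g * (m * (g⁻¹ * q * g)) * g⁻¹ := by rw [h2]
      _ = g * m * g⁻¹ * q := by group
  · rw [conj_pow, hmp]; group

theorem normalizer_le_normalizer_zOmega (p : ℕ) (S : Subgroup G) :
    Subgroup.normalizer (S : Set G) ≤ Subgroup.normalizer ((zOmega p S : Subgroup G) : Set G) :=
  wc_le_normalizer_of_conj_mem (fun _ hg _ hm => zOmega_conj_mem hg hm)

theorem relIndex_mul_card_of_le [Finite G] {A B : Subgroup G} (h : A ≤ B) :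
    Nat.card ↥A * A.relIndex B = Nat.card ↥B := by
  have h1 := Subgroup.relIndex_mul_relIndex (⊥ : Subgroup G) A B bot_le h
  rwa [Subgroup.relIndex_bot_left, Subgroup.relIndex_bot_left] at h1

/-- A normal `p`-subgroup lies in every Sylow `p`-subgroup. -/
theorem le_of_normal_isPGroup_of_sylow [Finite G] {p : ℕ} [Fact p.Prime] {K S N : Subgroup G}
    (hSK : S ≤ K) (hS : IsPGroup p S) (hidx : ¬ p ∣ S.relIndex K) (hNK : N ≤ K)
    (hN : IsPGroup p N) (hKN : K ≤ Subgroup.normalizer (N : Set G)) : N ≤ S := by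
  have hSN : IsPGroup p ↥(S ⊔ N) := IsPGroup.to_sup_of_normal_right' hS hN (hSK.trans hKN)
  have h1 : S.relIndex (S ⊔ N) * (S ⊔ N).relIndex K = S.relIndex K :=
    Subgroup.relIndex_mul_relIndex S (S ⊔ N) K le_sup_left (sup_le hSK hNK)
  have h2 : ¬ p ∣ S.relIndex (S ⊔ N) := fun h => hidx (h1 ▸ Dvd.dvd.mul_right h _)
  have h3 : S.relIndex (S ⊔ N) ∣ Nat.card ↥(S ⊔ N) := Subgroup.relIndex_dvd_card S (S ⊔ N)
  obtain ⟨k, hk⟩ := IsPGroup.iff_card.mp hSN
  rw [hk] at h3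
  obtain ⟨j, -, hj⟩ := (Nat.dvd_prime_pow Fact.out).mp h3
  have hj0 : j = 0 := by
    by_contra hne
    apply h2
    rw [hj]
    exact dvd_pow_self p hne
  rw [hj0, pow_zero] at hj
  have h4 : S ⊔ N ≤ S := Subgroup.relIndex_eq_one.mp hj
  exact le_sup_right.trans h4

/-- The intersection of a Sylow `p`-subgroup with a normal subgroup is a Sylow `p`-subgroup of
the latter. -/
theorem not_dvd_relIndex_inf_of_normal [Finite G] {p : ℕ} [Fact p.Prime] {K S L : Subgroup G}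
    (hSK : S ≤ K) (hidx : ¬ p ∣ S.relIndex K) (hLK : L ≤ K)
    (hKL : K ≤ Subgroup.normalizer (L : Set G)) : ¬ p ∣ (S ⊓ L).relIndex L := by
  have h0 := Cfsg.Agent.Lib.Helper91.card_sup_mul_card_inf_of_le_normalizer L S (hSK.trans hKL)
  have ha : Nat.card ↥(S ⊓ L) * (S ⊓ L).relIndex L = Nat.card ↥L :=
    relIndex_mul_card_of_le inf_le_right
  have hb : Nat.card ↥S * S.relIndex (L ⊔ S) = Nat.card ↥(L ⊔ S) :=
    relIndex_mul_card_of_le le_sup_right
  have hc : S.relIndex (L ⊔ S) * (L ⊔ S).relIndex K = S.relIndex K :=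
    Subgroup.relIndex_mul_relIndex S (L ⊔ S) K le_sup_right (sup_le hLK hSK)
  have heq : (S ⊓ L).relIndex L = S.relIndex (L ⊔ S) := by
    have hpos1 : 0 < Nat.card ↥(S ⊓ L) := Nat.card_pos
    have hpos2 : 0 < Nat.card ↥S := Nat.card_pos
    have hIL : Nat.card ↥(L ⊓ S) = Nat.card ↥(S ⊓ L) := by rw [inf_comm]
    rw [hIL] at h0
    have h5 : (S ⊓ L).relIndex L * (Nat.card ↥(S ⊓ L) * Nat.card ↥S) =
        S.relIndex (L ⊔ S) * (Nat.card ↥(S ⊓ L) * Nat.card ↥S) := by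
      calc (S ⊓ L).relIndex L * (Nat.card ↥(S ⊓ L) * Nat.card ↥S)
          = (Nat.card ↥(S ⊓ L) * (S ⊓ L).relIndex L) * Nat.card ↥S := by ring
        _ = Nat.card ↥L * Nat.card ↥S := by rw [ha]
        _ = Nat.card ↥(L ⊔ S) * Nat.card ↥(S ⊓ L) := h0.symm
        _ = (Nat.card ↥S * S.relIndex (L ⊔ S)) * Nat.card ↥(S ⊓ L) := by rw [hb]
        _ = S.relIndex (L ⊔ S) * (Nat.card ↥(S ⊓ L) * Nat.card ↥S) := by ring
    exact Nat.eq_of_mul_eq_mul_right (Nat.mul_pos hpos1 hpos2) h5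
  rw [heq]
  intro h
  exact hidx (hc ▸ Dvd.dvd.mul_right h _)

/-- Characteristic `p` passes to normal subgroups (ambient form). -/
theorem charp_of_normal [Finite G] {p : ℕ} [Fact p.Prime] {K L : Subgroup G}
    (hK : K ⊓ Subgroup.centralizer ((Cfsg.pCoreOf p K : Subgroup G) : Set G) ≤ Cfsg.pCoreOf p K)
    (hLK : L ≤ K) (hKL : K ≤ Subgroup.normalizer (L : Set G)) :
    L ⊓ Subgroup.centralizer ((Cfsg.pCoreOf p L : Subgroup G) : Set G) ≤ Cfsg.pCoreOf p L := by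
  have hKPL : K ≤ Subgroup.normalizer ((Cfsg.pCoreOf p L : Subgroup G) : Set G) :=
    hKL.trans (Cfsg.Agent.Lib.Helper47.normalizer_le_normalizer_pCoreOf p L)
  have hKD : K ≤ Subgroup.normalizer ((L ⊓ Subgroup.centralizer
      ((Cfsg.pCoreOf p L : Subgroup G) : Set G) : Subgroup G) : Set G) :=
    (le_inf hKL (hKPL.trans (Cfsg.Agent.Lib.Helper47.normalizer_le_normalizer_centralizer _))).trans
      Subgroup.inf_normalizer_le_normalizer_inf
  have hPKL : Cfsg.pCoreOf p K ⊓ L ≤ Cfsg.pCoreOf p L :=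
    Cfsg.Agent.Lib.Helper47.le_pCoreOf_of_le_normalizer
      ((Cfsg.Agent.Lib.Helper47.pCoreOf_isPGroup p K).to_le inf_le_left) inf_le_right
      ((le_inf (hLK.trans (Cfsg.Agent.Lib.Helper47.le_normalizer_pCoreOf p K))
        Subgroup.le_normalizer).trans Subgroup.inf_normalizer_le_normalizer_inf)
  have hDp : IsPGroup p ↥(L ⊓ Subgroup.centralizer
      ((Cfsg.pCoreOf p L : Subgroup G) : Set G)) := by
    apply wc_isPGroup_of_chain (G₀ := K) (R₀ := Cfsg.pCoreOf p K)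
      (Cfsg.Agent.Lib.Helper47.le_normalizer_pCoreOf p K)
      (Cfsg.Agent.Lib.Helper47.pCoreOf_isPGroup p K) hK (inf_le_left.trans hLK)
      ((Cfsg.Agent.Lib.Helper47.pCoreOf_le p K).trans hKD)
    have h1 : Cfsg.pCoreOf p K ⊓ (L ⊓ Subgroup.centralizer
        ((Cfsg.pCoreOf p L : Subgroup G) : Set G)) ≤ Cfsg.pCoreOf p L :=
      (inf_le_inf_left _ inf_le_left).trans hPKL
    exact inf_le_right.trans (Subgroup.centralizer_le (SetLike.coe_subset_coe.mpr h1))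
  exact Cfsg.Agent.Lib.Helper47.le_pCoreOf_of_le_normalizer hDp inf_le_left (hLK.trans hKD)

end Kieler

section CosetProd

variable {D : Type*} [Group D] {A : Type*} [CommMonoid A]

/-- Reindexing a product over left cosets of a right-invariant function. -/
theorem cosetProd_reindex (S₁ : Subgroup D) [Fintype (D ⧸ S₁)] (F : D → A)
    (hF : ∀ d : D, ∀ σ ∈ S₁, F (d * σ) = F d) (ε : D ⧸ S₁ ≃ D ⧸ S₁) (φ : D → D)
    (hφ : ∀ c : D ⧸ S₁, (QuotientGroup.mk (φ (Quotient.out c)) : D ⧸ S₁) = ε c) :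
    ∏ c : D ⧸ S₁, F (φ (Quotient.out c)) = ∏ c : D ⧸ S₁, F (Quotient.out c) := by
  rw [← Equiv.prod_comp ε (fun c => F (Quotient.out c))]
  refine Finset.prod_congr rfl fun c _ => ?_
  have h1 : ((φ (Quotient.out c) : D) : D ⧸ S₁) = ((Quotient.out (ε c) : D) : D ⧸ S₁) := by
    rw [QuotientGroup.out_eq']; exact hφ c
  have h2 : (φ (Quotient.out c))⁻¹ * Quotient.out (ε c) ∈ S₁ := QuotientGroup.eq.mp h1
  have h3 := hF (φ (Quotient.out c)) _ h2
  rw [mul_inv_cancel_left] at h3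
  exact h3.symm

theorem cosetProd_translate' (S₁ : Subgroup D) [Fintype (D ⧸ S₁)] (F : D → A)
    (hF : ∀ d : D, ∀ σ ∈ S₁, F (d * σ) = F d) (x : D) :
    ∏ c : D ⧸ S₁, F (x * Quotient.out c) = ∏ c : D ⧸ S₁, F (Quotient.out c) := by
  apply cosetProd_reindex S₁ F hF (MulAction.toPerm x : Equiv.Perm (D ⧸ S₁)) (fun d => x * d)
  intro c
  have := MulAction.Quotient.mk_smul_out (H := S₁) x c
  rw [smul_eq_mul] at this
  rw [MulAction.toPerm_apply]
  exact this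

theorem cosetProd_equiv' (S₁ : Subgroup D) [Fintype (D ⧸ S₁)] (F : D → A)
    (hF : ∀ d : D, ∀ σ ∈ S₁, F (d * σ) = F d) (e : D ≃* D)
    (he : ∀ σ : D, σ ∈ S₁ ↔ e σ ∈ S₁) :
    ∏ c : D ⧸ S₁, F (e (Quotient.out c)) = ∏ c : D ⧸ S₁, F (Quotient.out c) := by
  have hrel : ∀ a b : D, (QuotientGroup.leftRel S₁) a b ↔
      (QuotientGroup.leftRel S₁) (e.toEquiv a) (e.toEquiv b) := by
    intro a b
    rw [QuotientGroup.leftRel_apply, QuotientGroup.leftRel_apply]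
    have : (e.toEquiv a)⁻¹ * e.toEquiv b = e (a⁻¹ * b) := by
      simp
    rw [this]
    exact he _
  apply cosetProd_reindex S₁ F hF (Quotient.congr e.toEquiv hrel) (fun d => e d)
  intro c
  have h1 := Quotient.congr_mk e.toEquiv hrel (Quotient.out c)
  have h2 : (⟦Quotient.out c⟧ : Quotient (QuotientGroup.leftRel S₁)) = c := Quotient.out_eq c
  rw [h2] at h1
  exact h1.symm

end CosetProd

section KielerMain

variable {G : Type*} [Group G]

/-- Key step: an element `u` of the elementary abelian `U` fixed by the Sylow subgroup `S₁` of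
`D`, all of whose commutators with `S` are centralized by `D`, is centralized by `D`, provided
the `S`-fixed points of `U` are `D`-fixed. -/
theorem kieler_key [Finite G] {p : ℕ} [Fact p.Prime] {U D S S₁ : Subgroup G}
    (hUc : ∀ a ∈ U, ∀ b ∈ U, a * b = b * a) (hUp : ∀ a ∈ U, a ^ p = 1)
    (_hS₁D : S₁ ≤ D) (hidx : ¬ p ∣ S₁.relIndex D)
    (hSD : S ≤ Subgroup.normalizer (D : Set G)) (hSS₁ : S ≤ Subgroup.normalizer (S₁ : Set G))
    (hSU : S ≤ Subgroup.normalizer (U : Set G)) (hDU : D ≤ Subgroup.normalizer (U : Set G))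
    (hyp : ∀ u ∈ U, (∀ s ∈ S, s * u = u * s) → ∀ d ∈ D, d * u = u * d)
    {u : G} (hu : u ∈ U) (huS₁ : ∀ s ∈ S₁, s * u = u * s)
    (hstar : ∀ s ∈ S, ∀ d ∈ D, d * (s * u * s⁻¹ * u⁻¹) = (s * u * s⁻¹ * u⁻¹) * d) :
    ∀ d ∈ D, d * u = u * d := by
  classical
  have hUcomm : IsMulCommutative ↥U := ⟨⟨fun a b => Subtype.ext (hUc a a.2 b b.2)⟩⟩
  let _ : Fintype (↥D ⧸ S₁.subgroupOf D) := Fintype.ofFinite _
  obtain ⟨F, hFdef⟩ : ∃ F : ↥D → ↥U, ∀ d : ↥D, ((F d : ↥U) : G) = (d : G) * u * (d : G)⁻¹ :=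
    ⟨fun d => ⟨(d : G) * u * (d : G)⁻¹, wc_conj_mem (hDU d.2) hu⟩, fun _ => rfl⟩
  have hF : ∀ d : ↥D, ∀ σ ∈ S₁.subgroupOf D, F (d * σ) = F d := by
    intro d σ hσ
    apply Subtype.ext
    have h1 : (σ : G) * u = u * (σ : G) := huS₁ _ (Subgroup.mem_subgroupOf.mp hσ)
    rw [hFdef, hFdef, Subgroup.coe_mul]
    calc (d : G) * (σ : G) * u * ((d : G) * (σ : G))⁻¹
        = (d : G) * ((σ : G) * u) * (σ : G)⁻¹ * (d : G)⁻¹ := by group
      _ = (d : G) * (u * (σ : G)) * (σ : G)⁻¹ * (d : G)⁻¹ := by rw [h1]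
      _ = (d : G) * u * (d : G)⁻¹ := by group
  obtain ⟨τ, hτ⟩ : ∃ τ : ↥U, τ = ∏ c : ↥D ⧸ S₁.subgroupOf D, F (Quotient.out c) := ⟨_, rfl⟩
  obtain ⟨n, hn⟩ : ∃ n : ℕ, n = (S₁.subgroupOf D).index := ⟨_, rfl⟩
  have hcard : Fintype.card (↥D ⧸ S₁.subgroupOf D) = n := by
    rw [hn, Subgroup.index_eq_card, Nat.card_eq_fintype_card]
  -- (T1): `τ` is centralized by `D`
  have hT1 : ∀ d ∈ D, d * (τ : G) * d⁻¹ = (τ : G) := by
    intro d₀ hd₀
    have h1 := cosetProd_translate' (S₁.subgroupOf D) F hF (⟨d₀, hd₀⟩ : ↥D)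
    have h2 : Cfsg.Agent.Lib.Helper48.normConj U ⟨d₀, hDU hd₀⟩ τ = τ := by
      rw [hτ, map_prod, ← h1]
      refine Finset.prod_congr rfl fun c _ => ?_
      apply Subtype.ext
      rw [Cfsg.Agent.Lib.Helper48.normConj_apply, hFdef, hFdef, Subgroup.coe_mul]
      group
    have h3 := congrArg Subtype.val h2
    rw [Cfsg.Agent.Lib.Helper48.normConj_apply] at h3
    exact h3
  -- (T2): conjugating `τ` by `s ∈ S`
  have hT2 : ∀ s ∈ S, s * (τ : G) * s⁻¹ = (τ : G) * (s * u * s⁻¹ * u⁻¹) ^ n := by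
    intro s hs
    have hcU : s * u * s⁻¹ * u⁻¹ ∈ U := U.mul_mem (wc_conj_mem (hSU hs) hu) (U.inv_mem hu)
    obtain ⟨e, hedef⟩ : ∃ e : ↥D ≃* ↥D, ∀ d : ↥D, ((e d : ↥D) : G) = s * (d : G) * s⁻¹ :=
      ⟨Cfsg.Agent.Lib.Helper48.normConj D ⟨s, hSD hs⟩,
        fun d => Cfsg.Agent.Lib.Helper48.normConj_apply D ⟨s, hSD hs⟩ d⟩
    have he : ∀ σ : ↥D, σ ∈ S₁.subgroupOf D ↔ e σ ∈ S₁.subgroupOf D := by
      intro σ
      rw [Subgroup.mem_subgroupOf, Subgroup.mem_subgroupOf, hedef]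
      exact Subgroup.mem_normalizer_iff.mp (hSS₁ hs) _
    have h1 := cosetProd_equiv' (S₁.subgroupOf D) F hF e he
    have h4 : ∀ c : ↥D ⧸ S₁.subgroupOf D,
        Cfsg.Agent.Lib.Helper48.normConj U ⟨s, hSU hs⟩ (F (Quotient.out c)) =
          F (e (Quotient.out c)) * (⟨_, hcU⟩ : ↥U) := by
      intro c
      apply Subtype.ext
      rw [Cfsg.Agent.Lib.Helper48.normConj_apply, Subgroup.coe_mul, hFdef, hFdef, hedef]
      have h5 := hstar s hs _ (e (Quotient.out c)).2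
      rw [hedef] at h5
      have h7 := hUc _ (wc_conj_mem (hDU (e (Quotient.out c)).2) hu) _ hcU
      rw [hedef] at h7
      calc s * (((Quotient.out c : ↥D) : G) * u * ((Quotient.out c : ↥D) : G)⁻¹) * s⁻¹
          = ((s * ((Quotient.out c : ↥D) : G) * s⁻¹) * (s * u * s⁻¹ * u⁻¹)) * u *
              (s * ((Quotient.out c : ↥D) : G) * s⁻¹)⁻¹ := by group
        _ = ((s * u * s⁻¹ * u⁻¹) * (s * ((Quotient.out c : ↥D) : G) * s⁻¹)) * u *
              (s * ((Quotient.out c : ↥D) : G) * s⁻¹)⁻¹ := by rw [h5]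
        _ = (s * u * s⁻¹ * u⁻¹) * ((s * ((Quotient.out c : ↥D) : G) * s⁻¹) * u *
              (s * ((Quotient.out c : ↥D) : G) * s⁻¹)⁻¹) := by group
        _ = s * ((Quotient.out c : ↥D) : G) * s⁻¹ * u * (s * ((Quotient.out c : ↥D) : G) * s⁻¹)⁻¹ *
              (s * u * s⁻¹ * u⁻¹) := h7.symm
    have h2 : Cfsg.Agent.Lib.Helper48.normConj U ⟨s, hSU hs⟩ τ = τ * (⟨_, hcU⟩ : ↥U) ^ n := by
      rw [hτ, map_prod, Finset.prod_congr rfl (fun c _ => h4 c), Finset.prod_mul_distrib, h1,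
        Finset.prod_const, Finset.card_univ, hcard]
    have h3 := congrArg Subtype.val h2
    rw [Cfsg.Agent.Lib.Helper48.normConj_apply, Subgroup.coe_mul, Subgroup.coe_pow] at h3
    exact h3
  -- `v = τ * (u ^ n)⁻¹` is centralized by `S`
  have hvU : (τ : G) * (u ^ n)⁻¹ ∈ U := U.mul_mem τ.2 (U.inv_mem (U.pow_mem hu n))
  have hv : ∀ s ∈ S, s * ((τ : G) * (u ^ n)⁻¹) = ((τ : G) * (u ^ n)⁻¹) * s := by
    intro s hs
    have hcU : s * u * s⁻¹ * u⁻¹ ∈ U := U.mul_mem (wc_conj_mem (hSU hs) hu) (U.inv_mem hu)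
    have h1 := hT2 s hs
    have h2 : s * u ^ n * s⁻¹ = (s * u * s⁻¹ * u⁻¹) ^ n * u ^ n := by
      have hcomm : Commute (s * u * s⁻¹ * u⁻¹) u := hUc _ hcU _ hu
      rw [← hcomm.mul_pow, ← conj_pow]
      congr 1
      group
    have h3 : s * ((τ : G) * (u ^ n)⁻¹) * s⁻¹ = (τ : G) * (u ^ n)⁻¹ := by
      have h4 : s * ((τ : G) * (u ^ n)⁻¹) * s⁻¹ = (s * (τ : G) * s⁻¹) * (s * u ^ n * s⁻¹)⁻¹ := by
        group
      rw [h4, h1, h2, mul_inv_rev]
      have h5 := hUc _ (U.inv_mem (U.pow_mem hu n)) _ (U.inv_mem (U.pow_mem hcU n))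
      rw [h5]
      group
    calc s * ((τ : G) * (u ^ n)⁻¹) = (s * ((τ : G) * (u ^ n)⁻¹) * s⁻¹) * s := by group
      _ = ((τ : G) * (u ^ n)⁻¹) * s := by rw [h3]
  have hvD := hyp _ hvU hv
  have hun : ∀ d ∈ D, Commute d (u ^ n) := by
    intro d hd
    have h1 := hvD d hd
    have h2 := hT1 d hd
    have h3 : d * (τ : G) = (τ : G) * d := by
      calc d * (τ : G) = (d * (τ : G) * d⁻¹) * d := by group
        _ = (τ : G) * d := by rw [h2]
    have h4 : d * (u ^ n)⁻¹ = (u ^ n)⁻¹ * d := by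
      calc d * (u ^ n)⁻¹ = (τ : G)⁻¹ * ((τ : G) * d) * (u ^ n)⁻¹ := by group
        _ = (τ : G)⁻¹ * (d * (τ : G)) * (u ^ n)⁻¹ := by rw [h3]
        _ = (τ : G)⁻¹ * (d * ((τ : G) * (u ^ n)⁻¹)) := by group
        _ = (τ : G)⁻¹ * (((τ : G) * (u ^ n)⁻¹) * d) := by rw [h1]
        _ = (u ^ n)⁻¹ * d := by group
    show d * u ^ n = u ^ n * d
    calc d * u ^ n = u ^ n * ((u ^ n)⁻¹ * d) * u ^ n := by group
      _ = u ^ n * (d * (u ^ n)⁻¹) * u ^ n := by rw [h4]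
      _ = u ^ n * d := by group
  have hcop : Nat.Coprime n (orderOf u) := by
    have h1 : orderOf u ∣ p := orderOf_dvd_of_pow_eq_one (hUp u hu)
    have h2 : Nat.Coprime n p := by
      rw [Nat.coprime_comm]
      apply (Nat.Prime.coprime_iff_not_dvd Fact.out).mpr
      rw [hn]; exact hidx
    exact Nat.Coprime.coprime_dvd_right h1 h2
  obtain ⟨m, hm⟩ := exists_pow_eq_self_of_coprime hcop
  intro d hd
  have h1 : Commute d ((u ^ n) ^ m) := (hun d hd).pow_right m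
  rw [hm] at h1
  exact h1

/-- Lemma B: if the `S`-fixed points of `U` are `D`-fixed, then so are the `S₁`-fixed points,
`S₁` a Sylow `p`-subgroup of `D` normalized by the `p`-group `S`. -/
theorem kieler_lemmaB [Finite G] {p : ℕ} [Fact p.Prime] {U D S S₁ : Subgroup G}
    (hUc : ∀ a ∈ U, ∀ b ∈ U, a * b = b * a) (hUp : ∀ a ∈ U, a ^ p = 1) (hS : IsPGroup p S)
    (hS₁D : S₁ ≤ D) (hidx : ¬ p ∣ S₁.relIndex D)
    (hSD : S ≤ Subgroup.normalizer (D : Set G)) (hSS₁ : S ≤ Subgroup.normalizer (S₁ : Set G))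
    (hSU : S ≤ Subgroup.normalizer (U : Set G)) (hDU : D ≤ Subgroup.normalizer (U : Set G))
    (hyp : ∀ u ∈ U, (∀ s ∈ S, s * u = u * s) → ∀ d ∈ D, d * u = u * d) :
    ∀ u ∈ U, (∀ s ∈ S₁, s * u = u * s) → ∀ d ∈ D, d * u = u * d := by
  have hUpg : IsPGroup p ↥U := fun g => ⟨1, by
    apply Subtype.ext
    simpa using hUp g g.2⟩
  have key : ∀ n : ℕ, ∀ B : Subgroup G, B ≤ U ⊓ Subgroup.centralizer (S₁ : Set G) →
      S ≤ Subgroup.normalizer (B : Set G) → Nat.card ↥B ≤ n →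
      ∀ u ∈ B, ∀ d ∈ D, d * u = u * d := by
    intro n
    induction n with
    | zero =>
      intro B _ _ hcard
      have := Nat.card_pos (α := ↥B)
      omega
    | succ n ih =>
      intro B hBW hSB hcard u huB
      have hB' : ⁅B, S⁆ ≤ B := Cfsg.Agent.Lib.Helper48.commutator_le_of_le_normalizer B S hSB
      have hSB' : S ≤ Subgroup.normalizer ((⁅B, S⁆ : Subgroup G) : Set G) :=
        (le_inf hSB Subgroup.le_normalizer).trans
          (Cfsg.Agent.Lib.Helper61.normalizer_inf_le_normalizer_commutator B S)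
      by_cases hBeq : B ≤ ⁅B, S⁆
      · have hbot : B = ⊥ := Cfsg.Agent.Lib.Helper48.eq_bot_of_commutator_eq B S
          (hUpg.to_le (hBW.trans inf_le_left)) hS hSB hBeq
        rw [hbot, Subgroup.mem_bot] at huB
        intro d _
        rw [huB]; simp
      · have hlt : Nat.card ↥(⁅B, S⁆ : Subgroup G) < Nat.card ↥B := by
          by_contra hge
          exact hBeq (Subgroup.eq_of_le_of_card_ge hB' (Nat.le_of_not_lt hge)).ge
        have ih' := ih ⁅B, S⁆ (hB'.trans hBW) hSB' (by omega)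
        apply kieler_key hUc hUp hS₁D hidx hSD hSS₁ hSU hDU hyp (hBW huB).1
        · intro s hs
          exact Subgroup.mem_centralizer_iff.mp (hBW huB).2 s hs
        · intro s hs d hd
          apply ih' _ _ d hd
          rw [Subgroup.commutator_comm]
          exact Subgroup.commutator_mem_commutator hs huB
  intro u hu huS₁
  apply key (Nat.card ↥(U ⊓ Subgroup.centralizer (S₁ : Set G))) _ le_rfl _ le_rfl u
    ⟨hu, Subgroup.mem_centralizer_iff.mpr huS₁⟩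
  exact (le_inf hSU (hSS₁.trans
    (Cfsg.Agent.Lib.Helper47.normalizer_le_normalizer_centralizer S₁))).trans
    Subgroup.inf_normalizer_le_normalizer_inf

end KielerMain

section KielerFinal

variable {G : Type*} [Group G]

/-- Part A: an element of `Ω₁Z(S)` acts on the normal subgroup `L` of the characteristic-`p`
group `K` as conjugation by an element of `Ω₁Z(S ∩ L)`. -/
theorem kieler_inner [Finite G] {p : ℕ} [Fact p.Prime] {K S L : Subgroup G}
    (hK : K ⊓ Subgroup.centralizer ((Cfsg.pCoreOf p K : Subgroup G) : Set G) ≤ Cfsg.pCoreOf p K)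
    (hSK : S ≤ K) (hS : IsPGroup p S) (hidx : ¬ p ∣ S.relIndex K) (hLK : L ≤ K)
    (hKL : K ≤ Subgroup.normalizer (L : Set G)) {z : G} (hz : z ∈ zOmega p S) :
    ∃ w ∈ zOmega p (S ⊓ L), ∀ y ∈ L, z * y * z⁻¹ = w * y * w⁻¹ := by
  classical
  obtain ⟨hzS, hzc, hzp⟩ := hz
  have hL := charp_of_normal hK hLK hKL
  have hKPL : K ≤ Subgroup.normalizer ((Cfsg.pCoreOf p L : Subgroup G) : Set G) :=
    hKL.trans (Cfsg.Agent.Lib.Helper47.normalizer_le_normalizer_pCoreOf p L)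
  have hLPL : L ≤ Subgroup.normalizer ((Cfsg.pCoreOf p L : Subgroup G) : Set G) :=
    Cfsg.Agent.Lib.Helper47.le_normalizer_pCoreOf p L
  have hPLS : Cfsg.pCoreOf p L ≤ S :=
    le_of_normal_isPGroup_of_sylow hSK hS hidx ((Cfsg.Agent.Lib.Helper47.pCoreOf_le p L).trans hLK)
      (Cfsg.Agent.Lib.Helper47.pCoreOf_isPGroup p L) hKPL
  have hLM : L ≤ Subgroup.normalizer ((zOmega p (Cfsg.pCoreOf p L) : Subgroup G) : Set G) :=
    hLPL.trans (normalizer_le_normalizer_zOmega p _)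
  have hm : ∀ y ∈ L, z * y * z⁻¹ * y⁻¹ ∈ zOmega p (Cfsg.pCoreOf p L) := by
    intro y hy
    have hzy : z * y * z⁻¹ ∈ L := wc_conj_mem (hKL (hSK hzS)) hy
    have hmL : z * y * z⁻¹ * y⁻¹ ∈ L := L.mul_mem hzy (L.inv_mem hy)
    have hcomm : ∀ q ∈ Cfsg.pCoreOf p L, q * (z * y * z⁻¹ * y⁻¹) = (z * y * z⁻¹ * y⁻¹) * q := by
      intro q hq
      have h1 : y⁻¹ * q * y ∈ Cfsg.pCoreOf p L := wc_conj_mem' (hLPL hy) hq
      have h2 : (y⁻¹ * q * y) * z = z * (y⁻¹ * q * y) := hzc _ (hPLS h1)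
      have h3 : q * z = z * q := hzc _ (hPLS hq)
      have h2' : (y⁻¹ * q * y) * z⁻¹ = z⁻¹ * (y⁻¹ * q * y) := by
        calc (y⁻¹ * q * y) * z⁻¹ = z⁻¹ * (z * (y⁻¹ * q * y)) * z⁻¹ := by group
          _ = z⁻¹ * ((y⁻¹ * q * y) * z) * z⁻¹ := by rw [h2]
          _ = z⁻¹ * (y⁻¹ * q * y) := by group
      calc q * (z * y * z⁻¹ * y⁻¹) = (q * z) * y * z⁻¹ * y⁻¹ := by group
        _ = (z * q) * y * z⁻¹ * y⁻¹ := by rw [h3]
        _ = z * y * ((y⁻¹ * q * y) * z⁻¹) * y⁻¹ := by group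
        _ = z * y * (z⁻¹ * (y⁻¹ * q * y)) * y⁻¹ := by rw [h2']
        _ = (z * y * z⁻¹ * y⁻¹) * q := by group
    have hmP : z * y * z⁻¹ * y⁻¹ ∈ Cfsg.pCoreOf p L :=
      hL ⟨hmL, Subgroup.mem_centralizer_iff.mpr hcomm⟩
    refine ⟨hmP, hcomm, ?_⟩
    have hzm : z * (z * y * z⁻¹ * y⁻¹) * z⁻¹ * (z * y * z⁻¹ * y⁻¹)⁻¹ ∈ (⊥ : Subgroup G) := by
      rw [Subgroup.mem_bot]
      have h4 := hzc _ (hPLS hmP)
      rw [← h4]; group
    have hbot : ∀ x : G, ∀ k ∈ (⊥ : Subgroup G), x * k * x⁻¹ ∈ (⊥ : Subgroup G) := by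
      intro x k hk
      rw [Subgroup.mem_bot] at hk ⊢
      rw [hk]; group
    obtain ⟨c, hc, e⟩ := Cfsg.Agent.Lib.Helper48.stab_chain (⊥ : Subgroup G) z y
      (z * y * z⁻¹ * y⁻¹) (hbot z) (hbot _) rfl hzm p
    rw [Subgroup.mem_bot] at hc
    rw [hc, one_mul, hzp] at e
    rw [← e]; group
  obtain ⟨M, hMdef⟩ : ∃ M : Subgroup G, M = zOmega p (Cfsg.pCoreOf p L) := ⟨_, rfl⟩
  rw [← hMdef] at hm hLM
  have hMmem : ∀ g : G, g ∈ M → g ∈ Cfsg.pCoreOf p L ∧
      (∀ s ∈ Cfsg.pCoreOf p L, s * g = g * s) ∧ g ^ p = 1 := by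
    intro g hg
    rw [hMdef] at hg
    exact hg
  have hMn : (M.subgroupOf L).Normal := Subgroup.normal_subgroupOf_of_le_normalizer hLM
  have hMc : IsMulCommutative ↥(M.subgroupOf L) := ⟨⟨fun a b => by
    apply Subtype.ext; apply Subtype.ext
    have ha : ((a : ↥L) : G) ∈ M := Subgroup.mem_subgroupOf.mp a.2
    have hb : ((b : ↥L) : G) ∈ M := Subgroup.mem_subgroupOf.mp b.2
    exact (hMmem _ hb).2.1 _ (hMmem _ ha).1⟩⟩
  have hMp : IsPGroup p ↥(M.subgroupOf L) := by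
    intro g
    refine ⟨1, ?_⟩
    apply Subtype.ext; apply Subtype.ext
    have hg : ((g : ↥L) : G) ∈ M := Subgroup.mem_subgroupOf.mp g.2
    simpa using (hMmem _ hg).2.2
  have hcop : (Nat.card ↥(M.subgroupOf L)).Coprime ((S ⊓ L).subgroupOf L).index := by
    obtain ⟨k, hk⟩ := IsPGroup.iff_card.mp hMp
    rw [hk]
    apply Nat.Coprime.pow_left
    exact (Nat.Prime.coprime_iff_not_dvd Fact.out).mpr
      (not_dvd_relIndex_inf_of_normal hSK hidx hLK hKL)
  obtain ⟨γ, hγdef⟩ : ∃ γ : ↥L → ↥(M.subgroupOf L),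
      ∀ y : ↥L, (((γ y : ↥(M.subgroupOf L)) : ↥L) : G) = z * (y : G) * z⁻¹ * (y : G)⁻¹ :=
    ⟨fun y => ⟨⟨z * (y : G) * z⁻¹ * (y : G)⁻¹,
        L.mul_mem (wc_conj_mem (hKL (hSK hzS)) y.2) (L.inv_mem y.2)⟩,
      Subgroup.mem_subgroupOf.mpr (hm y y.2)⟩, fun _ => rfl⟩
  have hγ : ∀ x g : ↥L, γ (x * g) = γ x * MulAut.conjNormal x (γ g) := by
    intro x g
    apply Subtype.ext; apply Subtype.ext
    rw [Subgroup.coe_mul, Subgroup.coe_mul, MulAut.conjNormal_apply, Subgroup.coe_mul,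
      Subgroup.coe_mul, Subgroup.coe_inv, hγdef, hγdef, hγdef, Subgroup.coe_mul]
    group
  have hU : ∀ u ∈ (S ⊓ L).subgroupOf L, γ u = 1 := by
    intro u hu
    apply Subtype.ext; apply Subtype.ext
    have huS : (u : G) ∈ S := (Subgroup.mem_subgroupOf.mp hu).1
    have h1 := hzc _ huS
    rw [hγdef, ← h1]
    simp
  obtain ⟨f, hf⟩ := Cfsg.Agent.Lib.Helper90.crossed_hom_principal ((S ⊓ L).subgroupOf L)
    (M.subgroupOf L) hcop γ hγ hU
  have hfM : ((f : ↥L) : G) ∈ M := Subgroup.mem_subgroupOf.mp f.2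
  have hconj : ∀ y ∈ L, z * y * z⁻¹ = ((f : ↥L) : G) * y * ((f : ↥L) : G)⁻¹ := by
    intro y hy
    have h1 := congrArg (fun t : ↥(M.subgroupOf L) => ((t : ↥L) : G)) (hf ⟨y, hy⟩)
    simp only [Subgroup.coe_mul, MulAut.conjNormal_apply, Subgroup.coe_inv, hγdef] at h1
    calc z * y * z⁻¹ = (z * y * z⁻¹ * y⁻¹) * y := by group
      _ = (((f : ↥L) : G) * (y * ((f : ↥L) : G)⁻¹ * y⁻¹)) * y := by rw [h1]
      _ = ((f : ↥L) : G) * y * ((f : ↥L) : G)⁻¹ := by group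
  refine ⟨((f : ↥L) : G), ⟨⟨hPLS (hMmem _ hfM).1, (f : ↥L).2⟩, ?_, (hMmem _ hfM).2.2⟩, hconj⟩
  intro u hu
  have h1 := hconj u hu.2
  have h2 := hzc u hu.1
  have h3 : z * u * z⁻¹ = u := by rw [← h2]; group
  rw [h3] at h1
  calc u * ((f : ↥L) : G) = (((f : ↥L) : G) * u * ((f : ↥L) : G)⁻¹) * ((f : ↥L) : G) := by
        rw [← h1]
    _ = ((f : ↥L) : G) * u := by group

/-- The normal step of the Kieler Lemma. -/
theorem kieler_normal [Finite G] {p : ℕ} [Fact p.Prime] {K S L : Subgroup G}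
    (hK : K ⊓ Subgroup.centralizer ((Cfsg.pCoreOf p K : Subgroup G) : Set G) ≤ Cfsg.pCoreOf p K)
    (hSK : S ≤ K) (hS : IsPGroup p S) (hidx : ¬ p ∣ S.relIndex K) (hLK : L ≤ K)
    (hKL : K ≤ Subgroup.normalizer (L : Set G)) {x : G} (hx : x ∈ L) :
    (∀ z ∈ zOmega p S, z * x = x * z) ↔ (∀ w ∈ zOmega p (S ⊓ L), w * x = x * w) := by
  constructor
  · intro hxZ w hw
    have hL := charp_of_normal hK hLK hKL
    have hKPL : K ≤ Subgroup.normalizer ((Cfsg.pCoreOf p L : Subgroup G) : Set G) :=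
      hKL.trans (Cfsg.Agent.Lib.Helper47.normalizer_le_normalizer_pCoreOf p L)
    have hPLS : Cfsg.pCoreOf p L ≤ S :=
      le_of_normal_isPGroup_of_sylow hSK hS hidx
        ((Cfsg.Agent.Lib.Helper47.pCoreOf_le p L).trans hLK)
        (Cfsg.Agent.Lib.Helper47.pCoreOf_isPGroup p L) hKPL
    have hPLSL : Cfsg.pCoreOf p L ≤ S ⊓ L := le_inf hPLS (Cfsg.Agent.Lib.Helper47.pCoreOf_le p L)
    have hKU : K ≤ Subgroup.normalizer ((zOmega p (Cfsg.pCoreOf p L) : Subgroup G) : Set G) :=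
      hKPL.trans (normalizer_le_normalizer_zOmega p _)
    have hSZ : S ≤ Subgroup.normalizer ((Subgroup.centralizer
        ((zOmega p S : Subgroup G) : Set G) : Subgroup G) : Set G) :=
      (Subgroup.le_normalizer.trans (normalizer_le_normalizer_zOmega p S)).trans
        (Cfsg.Agent.Lib.Helper47.normalizer_le_normalizer_centralizer _)
    have hS₁D : S ⊓ L ≤ L ⊓ Subgroup.centralizer ((zOmega p S : Subgroup G) : Set G) := by
      intro s hs
      exact ⟨hs.2, Subgroup.mem_centralizer_iff.mpr (fun z hz => (hz.2.1 s hs.1).symm)⟩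
    have hidx' : ¬ p ∣ (S ⊓ L).relIndex
        (L ⊓ Subgroup.centralizer ((zOmega p S : Subgroup G) : Set G)) := by
      have h1 := Subgroup.relIndex_mul_relIndex (S ⊓ L)
        (L ⊓ Subgroup.centralizer ((zOmega p S : Subgroup G) : Set G)) L hS₁D inf_le_left
      intro h
      exact not_dvd_relIndex_inf_of_normal hSK hidx hLK hKL (h1 ▸ Dvd.dvd.mul_right h _)
    have hB := kieler_lemmaB (U := zOmega p (Cfsg.pCoreOf p L))
      (D := L ⊓ Subgroup.centralizer ((zOmega p S : Subgroup G) : Set G)) (S := S) (S₁ := S ⊓ L)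
      (fun a ha b hb => hb.2.1 a ha.1) (fun a ha => ha.2.2) hS hS₁D hidx'
      ((le_inf (hSK.trans hKL) hSZ).trans Subgroup.inf_normalizer_le_normalizer_inf)
      ((le_inf Subgroup.le_normalizer (hSK.trans hKL)).trans
        Subgroup.inf_normalizer_le_normalizer_inf)
      (hSK.trans hKU) (inf_le_left.trans (hLK.trans hKU))
      (by
        intro u hu huS d hd
        have huZ : u ∈ zOmega p S := ⟨hPLS hu.1, huS, hu.2.2⟩
        exact ((Subgroup.mem_centralizer_iff.mp hd.2) u huZ).symm)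
    have hwP : w ∈ Cfsg.pCoreOf p L := by
      apply hL
      exact ⟨hw.1.2, Subgroup.mem_centralizer_iff.mpr (fun q hq => hw.2.1 q (hPLSL hq))⟩
    have hwU : w ∈ zOmega p (Cfsg.pCoreOf p L) :=
      ⟨hwP, fun q hq => hw.2.1 q (hPLSL hq), hw.2.2⟩
    exact (hB w hwU (fun s hs => hw.2.1 s hs) x
      ⟨hx, Subgroup.mem_centralizer_iff.mpr hxZ⟩).symm
  · intro hxW z hz
    obtain ⟨w, hw, hconj⟩ := kieler_inner hK hSK hS hidx hLK hKL hz
    have h1 := hconj x hx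
    have h2 := hxW w hw
    calc z * x = (z * x * z⁻¹) * z := by group
      _ = (w * x * w⁻¹) * z := by rw [h1]
      _ = (x * w * w⁻¹) * z := by rw [h2]
      _ = x * z := by group

/-- **Kieler Lemma** (with the auxiliary facts carried along the subnormal series). -/
theorem kieler [Finite G] {p : ℕ} [Fact p.Prime]
    (hG : Subgroup.centralizer (Cfsg.pCore p G : Set G) ≤ Cfsg.pCore p G) (T : Sylow p G)
    (L : Subgroup G) (hL : L.IsSubnormal) :
    (L ⊓ Subgroup.centralizer ((Cfsg.pCoreOf p L : Subgroup G) : Set G) ≤ Cfsg.pCoreOf p L) ∧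
    (¬ p ∣ ((T : Subgroup G) ⊓ L).relIndex L) ∧
    ∀ x ∈ L, (∀ z ∈ zOmega p (T : Subgroup G), z * x = x * z) ↔
      (∀ w ∈ zOmega p ((T : Subgroup G) ⊓ L), w * x = x * w) := by
  induction hL with
  | top =>
    refine ⟨?_, ?_, ?_⟩
    · rw [Cfsg.Agent.Lib.Helper47.pCoreOf_top]; exact inf_le_right.trans hG
    · rw [inf_top_eq, Subgroup.relIndex_top_right]; exact T.not_dvd_index
    · intro x _; rw [inf_top_eq]
  | step L K hLK hK hN ih =>
    obtain ⟨ihc, ihi, ihx⟩ := ih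
    have hKL : K ≤ Subgroup.normalizer (L : Set G) :=
      (Subgroup.normal_subgroupOf_iff_le_normalizer hLK).mp hN
    have hTL : ((T : Subgroup G) ⊓ K) ⊓ L = (T : Subgroup G) ⊓ L := by
      rw [inf_assoc, inf_of_le_right hLK]
    refine ⟨charp_of_normal ihc hLK hKL, ?_, ?_⟩
    · have h1 := not_dvd_relIndex_inf_of_normal (S := (T : Subgroup G) ⊓ K) inf_le_right ihi
        hLK hKL
      rwa [hTL] at h1
    · intro x hx
      rw [ihx x (hLK hx)]
      have h1 := kieler_normal (S := (T : Subgroup G) ⊓ K) ihc inf_le_right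
        (T.isPGroup'.to_le inf_le_left) ihi hLK hKL hx
      rwa [hTL] at h1

end KielerFinal

end Cfsg.Agent.Lib.Helper50
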