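import Mathlib
import Cfsg.Prelude.Def_BaumannBlocks
import Cfsg.Agent.Lib.Helper50.CentrallyLarge

set_option autoImplicit false
open scoped Pointwise

namespace Cfsg.Agent.Lib.Helper50

variable {G : Type*} [Group G]

/-- If `K` centralizes `H`, every element of `H ⊔ K` is a product `h * k`. -/
theorem exists_mul_of_mem_sup_of_le_centralizer (H K : Subgroup G)
    (hc : K ≤ Subgroup.centralizer (H : Set G)) {x : G} (hx : x ∈ H ⊔ K) :
    ∃ h ∈ H, ∃ k ∈ K, h * k = x := by
  rw [Subgroup.sup_eq_closure] at hx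
  induction hx using Subgroup.closure_induction with
  | mem y hy =>
    rcases hy with hy | hy
    · exact ⟨y, hy, 1, K.one_mem, mul_one y⟩
    · exact ⟨1, H.one_mem, y, hy, one_mul y⟩
  | one => exact ⟨1, H.one_mem, 1, K.one_mem, mul_one 1⟩
  | mul y z _ _ ihy ihz =>
    obtain ⟨h1, hh1, k1, hk1, rfl⟩ := ihy
    obtain ⟨h2, hh2, k2, hk2, rfl⟩ := ihz
    refine ⟨h1 * h2, H.mul_mem hh1 hh2, k1 * k2, K.mul_mem hk1 hk2, ?_⟩
    have hcomm : h2 * k1 = k1 * h2 := (Subgroup.mem_centralizer_iff.mp (hc hk1)) h2 hh2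
    calc h1 * h2 * (k1 * k2) = h1 * (h2 * k1) * k2 := by group
      _ = h1 * (k1 * h2) * k2 := by rw [hcomm]
      _ = h1 * k1 * (h2 * k2) := by group
  | inv y _ ih =>
    obtain ⟨h1, hh1, k1, hk1, rfl⟩ := ih
    refine ⟨h1⁻¹, H.inv_mem hh1, k1⁻¹, K.inv_mem hk1, ?_⟩
    have hcomm : h1 * k1 = k1 * h1 := (Subgroup.mem_centralizer_iff.mp (hc hk1)) h1 hh1
    rw [hcomm]; group

theorem sup_eq_mul_of_le_centralizer (H K : Subgroup G)
    (hc : K ≤ Subgroup.centralizer (H : Set G)) :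
    ((H ⊔ K : Subgroup G) : Set G) = (H : Set G) * (K : Set G) := by
  ext x
  constructor
  · intro hx
    obtain ⟨h, hh, k, hk, rfl⟩ := exists_mul_of_mem_sup_of_le_centralizer H K hc hx
    exact Set.mul_mem_mul hh hk
  · rintro ⟨h, hh, k, hk, rfl⟩
    exact Subgroup.mul_mem_sup hh hk

/-- The join of two abelian subgroups that centralize each other is abelian. -/
theorem isMulCommutative_sup (H K : Subgroup G) (hH : IsMulCommutative ↥H)
    (hK : IsMulCommutative ↥K) (hc : K ≤ Subgroup.centralizer (H : Set G)) :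
    IsMulCommutative ↥(H ⊔ K) := by
  rw [← Subgroup.le_centralizer_iff_isMulCommutative, centralizer_sup_eq]
  apply sup_le
  · exact le_inf (Subgroup.le_centralizer_iff_isMulCommutative.mpr hH)
      (Subgroup.le_centralizer_iff.mp hc)
  · exact le_inf hc (Subgroup.le_centralizer_iff_isMulCommutative.mpr hK)

section

variable [Finite G]

theorem maxAbelian_nonempty : (Cfsg.maxAbelianSubgroups G).Nonempty := by
  have hbdd : BddAbove {k : ℕ | ∃ A : Subgroup G, IsMulCommutative ↥A ∧ Nat.card ↥A = k} := by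
    refine ⟨Nat.card G, ?_⟩
    rintro k ⟨A, -, rfl⟩
    exact Subgroup.card_le_card_group A
  have hne : {k : ℕ | ∃ A : Subgroup G, IsMulCommutative ↥A ∧ Nat.card ↥A = k}.Nonempty :=
    ⟨_, ⟨⊥, inferInstance, rfl⟩⟩
  obtain ⟨A, hA, hAcard⟩ := Nat.sSup_mem hne hbdd
  refine ⟨A, hA, ?_⟩
  intro B hB
  rw [hAcard]
  exact le_csSup hbdd ⟨B, hB, rfl⟩

/-- A member of `maxAbelianSubgroups` is self-centralizing. -/
theorem centralizer_eq_of_mem_maxAbelian (A : Subgroup G) (hA : A ∈ Cfsg.maxAbelianSubgroups G) :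
    Subgroup.centralizer (A : Set G) = A := by
  have hAab : IsMulCommutative ↥A := hA.1
  have hle : A ≤ Subgroup.centralizer (A : Set G) :=
    Subgroup.le_centralizer_iff_isMulCommutative.mpr hAab
  apply le_antisymm _ hle
  intro x hx
  have hxc : Subgroup.zpowers x ≤ Subgroup.centralizer (A : Set G) := by
    rw [Subgroup.zpowers_le]; exact hx
  have hab : IsMulCommutative ↥(A ⊔ Subgroup.zpowers x) :=
    isMulCommutative_sup A (Subgroup.zpowers x) hAab inferInstance hxc
  have hcard := hA.2 _ hab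
  have heq : A = A ⊔ Subgroup.zpowers x := Subgroup.eq_of_le_of_card_ge le_sup_left hcard
  rw [heq]
  exact (le_sup_right : Subgroup.zpowers x ≤ A ⊔ Subgroup.zpowers x) (Subgroup.mem_zpowers x)

/-- Glauberman: for a centrally large `Q` and a large abelian `A`, `QA` is a centrally large
subgroup, `(A ∩ Q) C(Q)` is a large abelian subgroup, and `QA ∩ C(Q ∩ A) = C(Q) A`. -/
theorem centrallyLarge_sup_maxAbelian (Q A : Subgroup G) (hQ : Cfsg.IsCentrallyLarge Q)
    (hA : A ∈ Cfsg.maxAbelianSubgroups G) :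
    ((Q ⊔ A : Subgroup G) : Set G) = (Q : Set G) * (A : Set G) ∧ Cfsg.IsCentrallyLarge (Q ⊔ A) ∧
    ((A ⊓ Q) ⊔ Subgroup.centralizer (Q : Set G)) ∈ Cfsg.maxAbelianSubgroups G ∧
    (Q ⊔ A) ⊓ Subgroup.centralizer ((Q ⊓ A : Subgroup G) : Set G)
      = Subgroup.centralizer (Q : Set G) ⊔ A ∧
    ((Subgroup.centralizer (Q : Set G) ⊔ A : Subgroup G) : Set G)
      = (Subgroup.centralizer (Q : Set G) : Set G) * (A : Set G) := by
  obtain ⟨hQm, hZQ⟩ := isCentralizerLarge_of_isCentrallyLarge Q hQ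
  have hQm' : Nat.card ↥Q * Nat.card ↥(Subgroup.centralizer (Q : Set G))
      = Cfsg.maxCentralizerProduct G := hQm
  set Z := Subgroup.centralizer (Q : Set G) with hZ
  have hAab : IsMulCommutative ↥A := hA.1
  have hAc : A ≤ Subgroup.centralizer (A : Set G) :=
    Subgroup.le_centralizer_iff_isMulCommutative.mpr hAab
  have hCA := centralizer_eq_of_mem_maxAbelian A hA
  have hQZ : Q ≤ Subgroup.centralizer (Z : Set G) := Subgroup.le_centralizer_iff.mp le_rfl
  have hZab : IsMulCommutative ↥Z :=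
    Subgroup.le_centralizer_iff_isMulCommutative.mp (hZQ.trans hQZ)
  have hAQab : IsMulCommutative ↥(A ⊓ Q) :=
    Subgroup.le_centralizer_iff_isMulCommutative.mp
      (inf_le_left.trans (hAc.trans (Subgroup.centralizer_le
        (show ((A ⊓ Q : Subgroup G) : Set G) ⊆ (A : Set G) from
          SetLike.coe_subset_coe.mpr inf_le_left))))
  have hZcAQ : Z ≤ Subgroup.centralizer ((A ⊓ Q : Subgroup G) : Set G) :=
    Subgroup.centralizer_le (show ((A ⊓ Q : Subgroup G) : Set G) ⊆ (Q : Set G) from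
      SetLike.coe_subset_coe.mpr inf_le_right)
  have hAstar_ab : IsMulCommutative ↥((A ⊓ Q) ⊔ Z) := isMulCommutative_sup _ _ hAQab hZab hZcAQ
  have h1 : Nat.card ↥((A ⊓ Q) ⊔ Z) ≤ Nat.card ↥A := hA.2 _ hAstar_ab
  have h2 : Nat.card ↥(A ⊓ Q) * Nat.card ↥Z
      ≤ Nat.card ↥((A ⊓ Q) ⊔ Z) * Nat.card ↥((A ⊓ Q) ⊓ Z) := card_mul_card_le _ _
  have h3 : (A ⊓ Q) ⊓ Z = A ⊓ Z := by
    rw [inf_assoc, inf_of_le_right hZQ]
  rw [h3] at h2
  have h4 : Nat.card ↥Q * Nat.card ↥A ≤ Nat.card ↥(Q ⊔ A) * Nat.card ↥(Q ⊓ A) :=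
    card_mul_card_le Q A
  have hcent : Subgroup.centralizer ((Q ⊔ A : Subgroup G) : Set G) = Z ⊓ A := by
    rw [centralizer_sup_eq, hCA]
  have h5 : Nat.card ↥(Q ⊔ A) * Nat.card ↥(Z ⊓ A) ≤ Cfsg.maxCentralizerProduct G := by
    have := measure_le_max (Q ⊔ A)
    rw [hcent] at this
    exact this
  have hAQ : A ⊓ Q = Q ⊓ A := inf_comm _ _
  have hAZ : A ⊓ Z = Z ⊓ A := inf_comm _ _
  rw [hAQ, hAZ] at h2
  set a := Nat.card ↥A with ha
  set q := Nat.card ↥Q with hq
  set z := Nat.card ↥Z with hz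
  set s := Nat.card ↥(Q ⊔ A) with hs
  set i := Nat.card ↥(Q ⊓ A) with hi
  set w := Nat.card ↥(Z ⊓ A) with hw
  set t := Nat.card ↥((Q ⊓ A) ⊔ Z) with ht
  have hipos : 0 < i := Nat.card_pos
  have hwpos : 0 < w := Nat.card_pos
  have hqpos : 0 < q := Nat.card_pos
  have hapos : 0 < a := Nat.card_pos
  have hzpos : 0 < z := Nat.card_pos
  rw [hAQ] at h1
  -- chain: q * (i * z) ≤ q * (t * w) ≤ q * (a * w) ≤ (s * i) * w ≤ (q * z) * i
  have c1 : q * (i * z) ≤ q * (t * w) := Nat.mul_le_mul_left _ h2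
  have c2 : q * (t * w) ≤ q * (a * w) := Nat.mul_le_mul_left _ (Nat.mul_le_mul_right _ h1)
  have c3 : q * (a * w) ≤ (s * i) * w := by
    calc q * (a * w) = (q * a) * w := by ring
      _ ≤ (s * i) * w := Nat.mul_le_mul_right _ h4
  have c4 : (s * i) * w ≤ (q * z) * i := by
    calc (s * i) * w = (s * w) * i := by ring
      _ ≤ (q * z) * i := Nat.mul_le_mul_right _ (hQm' ▸ h5)
  have c5 : (q * z) * i = q * (i * z) := by ring
  have e1 : q * (i * z) = q * (t * w) := by omega
  have e2 : q * (t * w) = q * (a * w) := by omega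
  have e3 : q * (a * w) = (s * i) * w := by omega
  have e4 : (s * i) * w = (q * z) * i := by omega
  have hta : t = a := by
    have : t * w = a * w := Nat.eq_of_mul_eq_mul_left hqpos e2
    exact Nat.eq_of_mul_eq_mul_right hwpos this
  have hqa : q * a = s * i := by
    have : (q * a) * w = (s * i) * w := by rw [← e3]; ring
    exact Nat.eq_of_mul_eq_mul_right hwpos this
  have hsw : s * w = q * z := by
    have : (s * w) * i = (q * z) * i := by rw [← e4]; ring
    exact Nat.eq_of_mul_eq_mul_right hipos this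
  -- conclusions
  have hset : ((Q ⊔ A : Subgroup G) : Set G) = (Q : Set G) * (A : Set G) :=
    mul_eq_sup_of_card_mul_card Q A (le_of_eq hqa.symm)
  have hmeas : Cfsg.IsCentralizerLarge (Q ⊔ A) := by
    change Nat.card ↥(Q ⊔ A) * Nat.card ↥(Subgroup.centralizer ((Q ⊔ A : Subgroup G) : Set G))
      = Cfsg.maxCentralizerProduct G
    rw [hcent, ← hQm']
    exact hsw
  have hCL : Cfsg.IsCentrallyLarge (Q ⊔ A) := by
    apply isCentrallyLarge_of_isCentralizerLarge _ hmeas
    rw [hcent]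
    exact inf_le_left.trans (hZQ.trans le_sup_left)
  have hAstar : ((A ⊓ Q) ⊔ Z) ∈ Cfsg.maxAbelianSubgroups G := by
    refine ⟨hAstar_ab, ?_⟩
    intro B hB
    rw [hAQ]
    change Nat.card ↥B ≤ t
    rw [hta]
    exact hA.2 B hB
  have hCAstar := centralizer_eq_of_mem_maxAbelian _ hAstar
  have key : ∀ x ∈ (Q ⊔ A) ⊓ Subgroup.centralizer ((Q ⊓ A : Subgroup G) : Set G),
      x ∈ (Z : Set G) * (A : Set G) := by
    rintro x ⟨hx1, hx2⟩
    have hx1' : x ∈ ((Q ⊔ A : Subgroup G) : Set G) := hx1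
    rw [hset] at hx1'
    obtain ⟨q0, hq0, a0, ha0, rfl⟩ := hx1'
    have ha0c : a0 ∈ Subgroup.centralizer ((Q ⊓ A : Subgroup G) : Set G) :=
      (Subgroup.centralizer_le (show ((Q ⊓ A : Subgroup G) : Set G) ⊆ (A : Set G) from
        SetLike.coe_subset_coe.mpr inf_le_right)) (hAc ha0)
    have hq0c : q0 ∈ Subgroup.centralizer ((Q ⊓ A : Subgroup G) : Set G) := by
      have := Subgroup.mul_mem _ hx2 (Subgroup.inv_mem _ ha0c)
      simpa using this
    have hq0star : q0 ∈ (A ⊓ Q) ⊔ Z := by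
      rw [← hCAstar, centralizer_sup_eq, hAQ]
      exact ⟨hq0c, hQZ hq0⟩
    obtain ⟨b, hb, z0, hz0, rfl⟩ :=
      exists_mul_of_mem_sup_of_le_centralizer (A ⊓ Q) Z hZcAQ hq0star
    have hcomm : b * z0 = z0 * b := (Subgroup.mem_centralizer_iff.mp (hZcAQ hz0)) b hb
    refine ⟨z0, hz0, b * a0, A.mul_mem hb.1 ha0, ?_⟩
    simp only
    rw [hcomm]; group
  have hsub : Z ⊔ A ≤ (Q ⊔ A) ⊓ Subgroup.centralizer ((Q ⊓ A : Subgroup G) : Set G) := by
    apply sup_le
    · exact le_inf (hZQ.trans le_sup_left)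
        (Subgroup.centralizer_le (show ((Q ⊓ A : Subgroup G) : Set G) ⊆ (Q : Set G) from
          SetLike.coe_subset_coe.mpr inf_le_left))
    · exact le_inf le_sup_right (hAc.trans
        (Subgroup.centralizer_le (show ((Q ⊓ A : Subgroup G) : Set G) ⊆ (A : Set G) from
          SetLike.coe_subset_coe.mpr inf_le_right)))
  have hmulsub : (Z : Set G) * (A : Set G) ⊆ ((Z ⊔ A : Subgroup G) : Set G) := by
    rintro _ ⟨z0, hz0, a0, ha0, rfl⟩
    exact Subgroup.mul_mem_sup hz0 ha0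
  refine ⟨hset, hCL, hAstar, ?_, ?_⟩
  · apply le_antisymm
    · intro x hx
      exact hmulsub (key x hx)
    · exact hsub
  · apply Set.Subset.antisymm
    · intro x hx
      exact key x (hsub hx)
    · exact hmulsub

/-- For a centrally large `Q`, the subgroup `Q J(G)` is centrally large. -/
theorem isCentrallyLarge_sup_thompsonA (Q : Subgroup G) (hQ : Cfsg.IsCentrallyLarge Q) :
    Cfsg.IsCentrallyLarge (Q ⊔ Cfsg.thompsonSubgroupA G) := by
  have heq : Q ⊔ Cfsg.thompsonSubgroupA G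
      = sSup ((fun A => Q ⊔ A) '' Cfsg.maxAbelianSubgroups G) := by
    unfold Cfsg.thompsonSubgroupA
    apply le_antisymm
    · apply sup_le
      · obtain ⟨A, hA⟩ := maxAbelian_nonempty (G := G)
        exact le_sup_left.trans (le_sSup ⟨A, hA, rfl⟩)
      · apply sSup_le
        intro A hA
        exact le_sup_right.trans (le_sSup ⟨A, hA, rfl⟩)
    · apply sSup_le
      rintro _ ⟨A, hA, rfl⟩
      exact sup_le_sup_left (le_sSup hA) Q
  rw [heq]
  apply isCentrallyLarge_sSup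
  · rintro _ ⟨A, hA, rfl⟩
    exact (centrallyLarge_sup_maxAbelian Q A hQ hA).2.1
  · obtain ⟨A, hA⟩ := maxAbelian_nonempty (G := G)
    exact ⟨_, A, hA, rfl⟩

/-- A centrally large subgroup containing `J(G)` contains `C(Z(J(G)))`. -/
theorem centralizer_center_thompsonA_le_of_le (T : Subgroup G) (hT : Cfsg.IsCentrallyLarge T)
    (hJ : Cfsg.thompsonSubgroupA G ≤ T) :
    Subgroup.centralizer ((Cfsg.thompsonSubgroupA G ⊓
      Subgroup.centralizer (Cfsg.thompsonSubgroupA G : Set G) : Subgroup G) : Set G) ≤ T := by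
  obtain ⟨hTm, hZT⟩ := isCentralizerLarge_of_isCentrallyLarge T hT
  obtain ⟨-, hTT⟩ := chermak_delgado_centralizer T hTm
  have hle : Subgroup.centralizer (T : Set G) ≤ Cfsg.thompsonSubgroupA G ⊓
      Subgroup.centralizer (Cfsg.thompsonSubgroupA G : Set G) := by
    apply le_inf
    · obtain ⟨A, hA⟩ := maxAbelian_nonempty (G := G)
      have hAJ : A ≤ Cfsg.thompsonSubgroupA G := le_sSup hA
      have h1 : Subgroup.centralizer (T : Set G) ≤ Subgroup.centralizer (A : Set G) :=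
        Subgroup.centralizer_le (SetLike.coe_subset_coe.mpr (hAJ.trans hJ))
      rw [centralizer_eq_of_mem_maxAbelian A hA] at h1
      exact h1.trans hAJ
    · exact Subgroup.centralizer_le (SetLike.coe_subset_coe.mpr hJ)
  have := Subgroup.centralizer_le (show ((Subgroup.centralizer (T : Set G) : Subgroup G) : Set G) ⊆
      ((Cfsg.thompsonSubgroupA G ⊓
      Subgroup.centralizer (Cfsg.thompsonSubgroupA G : Set G) : Subgroup G) : Set G) from
      SetLike.coe_subset_coe.mpr hle)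
  rw [← hTT] at this
  exact this

theorem centralizer_center_thompsonA_le (Q : Subgroup G) (hQ : Cfsg.IsCentrallyLarge Q) :
    Subgroup.centralizer ((Cfsg.thompsonSubgroupA G ⊓
      Subgroup.centralizer (Cfsg.thompsonSubgroupA G : Set G) : Subgroup G) : Set G)
      ≤ Q ⊔ Cfsg.thompsonSubgroupA G :=
  centralizer_center_thompsonA_le_of_le _ (isCentrallyLarge_sup_thompsonA Q hQ) le_sup_right

theorem centralizer_center_thompsonA_le_centrallyLargeJoin :
    Subgroup.centralizer ((Cfsg.thompsonSubgroupA G ⊓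
      Subgroup.centralizer (Cfsg.thompsonSubgroupA G : Set G) : Subgroup G) : Set G)
      ≤ Cfsg.centrallyLargeJoin G := by
  have h1 := isCentrallyLarge_centrallyLargeJoin (G := G)
  have h2 := isCentrallyLarge_sup_thompsonA _ h1
  have h3 : Cfsg.centrallyLargeJoin G ⊔ Cfsg.thompsonSubgroupA G ≤ Cfsg.centrallyLargeJoin G :=
    le_sSup h2
  exact (centralizer_center_thompsonA_le _ h1).trans h3

end

end Cfsg.Agent.Lib.Helper50
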