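import Mathlib
import Cfsg.Prelude.Def_LocalEven
import Cfsg.Agent.Lib.Helper50.Kieler
import Cfsg.Agent.S3028
import Cfsg.Agent.S0538

set_option autoImplicit false

namespace Cfsg.Agent.Lib.Helper50

section PointStab

variable {G : Type*} [Group G]

/-- Characteristic `p` of a subgroup: the type form gives the ambient form. -/
theorem charp_ambient_of_type {p : ℕ} (L : Subgroup G)
    (h : Subgroup.centralizer (Cfsg.pCore p ↥L : Set ↥L) ≤ Cfsg.pCore p ↥L) :
    L ⊓ Subgroup.centralizer ((Cfsg.pCoreOf p L : Subgroup G) : Set G) ≤ Cfsg.pCoreOf p L := by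
  intro x hx
  obtain ⟨hxL, hxC⟩ := Subgroup.mem_inf.mp hx
  have hx' : (⟨x, hxL⟩ : ↥L) ∈ Subgroup.centralizer (Cfsg.pCore p ↥L : Set ↥L) := by
    rw [Subgroup.mem_centralizer_iff]
    intro y hy
    have h1 : (y : G) ∈ Cfsg.pCoreOf p L := Subgroup.mem_map_of_mem L.subtype hy
    have h2 := (Subgroup.mem_centralizer_iff.mp hxC) (y : G) h1
    exact Subtype.ext h2
  have h3 := h hx'
  show x ∈ (Cfsg.pCore p ↥L).map L.subtype
  exact Subgroup.mem_map.mpr ⟨⟨x, hxL⟩, h3, rfl⟩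

/-- `Ω₁(Z(S))` is nontrivial for a nontrivial finite `p`-group. -/
theorem zOmega_ne_bot [Finite G] {p : ℕ} [Fact p.Prime] {S : Subgroup G} (hS : IsPGroup p S)
    (hne : S ≠ ⊥) : zOmega p S ≠ ⊥ := by
  haveI : Nontrivial ↥S := (Subgroup.nontrivial_iff_ne_bot S).mpr hne
  haveI := hS.center_nontrivial
  obtain ⟨⟨z, hz⟩, hz1⟩ := exists_ne (1 : Subgroup.center ↥S)
  have hz1' : z ≠ 1 := fun h => hz1 (Subtype.ext h)
  obtain ⟨k, hk⟩ := (IsPGroup.iff_orderOf.mp hS) z
  have hk0 : k ≠ 0 := by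
    rintro rfl
    rw [pow_zero, orderOf_eq_one_iff] at hk
    exact hz1' hk
  have hpp : p.Prime := Fact.out
  have hw1 : z ^ (p ^ (k - 1)) ≠ 1 := by
    apply pow_ne_one_of_lt_orderOf (pow_pos hpp.pos _).ne'
    rw [hk]
    exact Nat.pow_lt_pow_right hpp.one_lt (Nat.sub_lt (Nat.pos_of_ne_zero hk0) Nat.one_pos)
  have hwp : (z ^ (p ^ (k - 1))) ^ p = 1 := by
    rw [← pow_mul, ← pow_succ, Nat.sub_add_cancel (Nat.pos_of_ne_zero hk0), ← hk]
    exact pow_orderOf_eq_one z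
  have hzc : ∀ g : ↥S, g * z = z * g := Subgroup.mem_center_iff.mp hz
  have hwc : ∀ s : ↥S, s * z ^ (p ^ (k - 1)) = z ^ (p ^ (k - 1)) * s := by
    intro s
    exact (Commute.pow_right (show Commute s z from hzc s) (p ^ (k - 1))).eq
  intro hbot
  have hmem : ((z ^ (p ^ (k - 1)) : ↥S) : G) ∈ zOmega p S := by
    rw [mem_zOmega]
    refine ⟨(z ^ (p ^ (k - 1))).2, fun s hs => ?_, ?_⟩
    · exact congrArg Subtype.val (hwc ⟨s, hs⟩)
    · have := congrArg Subtype.val hwp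
      simpa using this
  rw [hbot, Subgroup.mem_bot] at hmem
  exact hw1 (Subtype.ext hmem)

/-- The subgroup generated by the `p`-elements of `X`. -/
def ppGen (p : ℕ) (X : Subgroup G) : Subgroup G :=
  Subgroup.closure {x : G | x ∈ X ∧ ∃ k : ℕ, orderOf x = p ^ k}

theorem mem_ppGen {p : ℕ} {X : Subgroup G} {x : G} (hx : x ∈ X) {k : ℕ}
    (hk : orderOf x = p ^ k) : x ∈ ppGen p X := by
  unfold ppGen
  exact Subgroup.subset_closure ⟨hx, k, hk⟩

theorem ppGen_le_iff (p : ℕ) (X Q : Subgroup G) :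
    ppGen p X ≤ Q ↔ ∀ x ∈ X, ∀ k : ℕ, orderOf x = p ^ k → x ∈ Q := by
  unfold ppGen
  rw [Subgroup.closure_le]
  constructor
  · intro h x hx k hk; exact h ⟨hx, k, hk⟩
  · rintro h x ⟨hx, k, hk⟩; exact h x hx k hk

theorem ppGen_le (p : ℕ) (X : Subgroup G) : ppGen p X ≤ X :=
  (ppGen_le_iff p X X).mpr fun _ hx _ _ => hx

theorem ppGen_mono (p : ℕ) {X Y : Subgroup G} (h : X ≤ Y) : ppGen p X ≤ ppGen p Y :=
  (ppGen_le_iff p X _).mpr fun _ hx _ hk => mem_ppGen (h hx) hk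

theorem le_normalizer_ppGen (p : ℕ) (X : Subgroup G) :
    X ≤ Subgroup.normalizer ((ppGen p X : Subgroup G) : Set G) := by
  apply wc_le_normalizer_of_conj_mem
  intro g hg n hn
  have hle : ppGen p X ≤ (ppGen p X).comap (MulAut.conj g).toMonoidHom := by
    rw [ppGen_le_iff]
    intro y hyX k hk
    show g * y * g⁻¹ ∈ ppGen p X
    have ho : orderOf (g * y * g⁻¹) = orderOf y := MulEquiv.orderOf_eq (MulAut.conj g) y
    exact mem_ppGen (X.mul_mem (X.mul_mem hg hyX) (X.inv_mem hg)) (ho.trans hk)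
  exact hle hn

theorem ppGen_isSubnormal (p : ℕ) {N : Subgroup G} (hN : N.IsSubnormal) :
    (ppGen p N).IsSubnormal :=
  Subgroup.IsSubnormal.step _ N (ppGen_le p N) hN
    ((Subgroup.normal_subgroupOf_iff_le_normalizer (ppGen_le p N)).mpr (le_normalizer_ppGen p N))

theorem ppGen_subgroupOf_le (p : ℕ) (L X : Subgroup G) :
    ppGen p (L.subgroupOf X) ≤ (ppGen p (L ⊓ X)).subgroupOf X := by
  rw [ppGen_le_iff]
  intro y hyL j hj
  apply Subgroup.mem_subgroupOf.mpr
  refine mem_ppGen (Subgroup.mem_inf.mpr ⟨Subgroup.mem_subgroupOf.mp hyL, y.2⟩) (k := j) ?_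
  rw [Subgroup.orderOf_coe]; exact hj

/-- A subnormal subgroup containing a Sylow `p`-subgroup contains every `p`-element. -/
theorem mem_of_isSubnormal_of_sylow_le [Finite G] {p : ℕ} [Fact p.Prime] {P S : Subgroup G}
    (hP : P.IsSubnormal) (hSP : S ≤ P) (hidx : ¬ p ∣ S.index) {y : G} {k : ℕ}
    (hy : orderOf y = p ^ k) : y ∈ P := by
  induction hP with
  | top => exact Subgroup.mem_top y
  | step P K hPK hK hN ih =>
    have hyK : y ∈ K := ih (hSP.trans hPK)
    have h1 : ¬ p ∣ P.relIndex K := by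
      intro hdvd
      apply hidx
      have h2 : S.relIndex P * P.relIndex K = S.relIndex K :=
        Subgroup.relIndex_mul_relIndex S P K hSP hPK
      have h3 : S.relIndex K * K.index = S.index := Subgroup.relIndex_mul_index (hSP.trans hPK)
      rw [← h3, ← h2]
      exact Dvd.dvd.mul_right (Dvd.dvd.mul_left hdvd _) _
    haveI : (P.subgroupOf K).Normal := hN
    have h4 : (⟨y, hyK⟩ : ↥K) ^ (P.subgroupOf K).index ∈ P.subgroupOf K :=
      Subgroup.pow_index_mem (P.subgroupOf K) ⟨y, hyK⟩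
    have h5 : y ^ P.relIndex K ∈ P := Subgroup.mem_subgroupOf.mp h4
    have hcop : (P.relIndex K).Coprime (orderOf y) := by
      rw [hy]
      exact Nat.Coprime.pow_right k ((Nat.Prime.coprime_iff_not_dvd Fact.out).mpr h1).symm
    obtain ⟨m, hm⟩ := exists_pow_eq_self_of_coprime hcop
    rw [← hm]
    exact P.pow_mem h5 m

/-- The intersection of a Sylow `p`-subgroup with a subnormal subgroup is Sylow in it. -/
theorem not_dvd_relIndex_inf_of_isSubnormal [Finite G] {p : ℕ} [Fact p.Prime] (T : Sylow p G)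
    {L : Subgroup G} (hL : L.IsSubnormal) : ¬ p ∣ ((T : Subgroup G) ⊓ L).relIndex L := by
  induction hL with
  | top => rw [inf_top_eq, Subgroup.relIndex_top_right]; exact T.not_dvd_index
  | step L K hLK hK hN ih =>
    have hKL : K ≤ Subgroup.normalizer (L : Set G) :=
      (Subgroup.normal_subgroupOf_iff_le_normalizer hLK).mp hN
    have hTL : ((T : Subgroup G) ⊓ K) ⊓ L = (T : Subgroup G) ⊓ L := by
      rw [inf_assoc, inf_of_le_right hLK]
    have h1 := not_dvd_relIndex_inf_of_normal (S := (T : Subgroup G) ⊓ K) inf_le_right ih hLK hKL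
    rwa [hTL] at h1

/-- In a group of local characteristic `p`, the intersection of a subnormal subgroup with a
`p`-local subgroup has characteristic `p` (ambient form). -/
theorem charp_inf_normalizer_of_isSubnormal [Finite G] {p : ℕ} [Fact p.Prime]
    (hG : Cfsg.IsOfLocalCharacteristic p G) {Z : Subgroup G} (hZ : IsPGroup p Z) (hZne : Z ≠ ⊥)
    {K : Subgroup G} (hK : K.IsSubnormal) :
    (K ⊓ Subgroup.normalizer (Z : Set G)) ⊓ Subgroup.centralizer
      ((Cfsg.pCoreOf p (K ⊓ Subgroup.normalizer (Z : Set G)) : Subgroup G) : Set G) ≤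
      Cfsg.pCoreOf p (K ⊓ Subgroup.normalizer (Z : Set G)) := by
  induction hK with
  | top =>
    rw [top_inf_eq]
    exact charp_ambient_of_type _ (hG.2 Z hZ hZne)
  | step L K hLK hK hN ih =>
    have hKL : K ≤ Subgroup.normalizer (L : Set G) :=
      (Subgroup.normal_subgroupOf_iff_le_normalizer hLK).mp hN
    refine charp_of_normal ih (inf_le_inf_right _ hLK) ?_
    intro g hg
    obtain ⟨hgK, hgN⟩ := Subgroup.mem_inf.mp hg
    exact Subgroup.inf_normalizer_le_normalizer_inf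
      (Subgroup.mem_inf.mpr ⟨hKL hgK, Subgroup.le_normalizer hgN⟩)

/-- One step of the Kieler Lemma in a group of local characteristic `p`. -/
theorem kieler_local_step [Finite G] {p : ℕ} [Fact p.Prime]
    (hG : Cfsg.IsOfLocalCharacteristic p G) (T : Sylow p G) {L K : Subgroup G} (hLK : L ≤ K)
    (hK : K.IsSubnormal) (hKL : K ≤ Subgroup.normalizer (L : Set G))
    {Z : Subgroup G} (hZp : IsPGroup p Z) (hZne : Z ≠ ⊥)
    (hSN : (T : Subgroup G) ⊓ K ≤ Subgroup.normalizer (Z : Set G))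
    {x : G} (hx : x ∈ L) (hxN : x ∈ Subgroup.normalizer (Z : Set G)) :
    (∀ z ∈ zOmega p ((T : Subgroup G) ⊓ K), z * x = x * z) ↔
      (∀ w ∈ zOmega p ((T : Subgroup G) ⊓ L), w * x = x * w) := by
  have hcp := charp_inf_normalizer_of_isSubnormal hG hZp hZne hK
  have hSK' : (T : Subgroup G) ⊓ K ≤ K ⊓ Subgroup.normalizer (Z : Set G) :=
    le_inf inf_le_right hSN
  have hidx : ¬ p ∣ ((T : Subgroup G) ⊓ K).relIndex (K ⊓ Subgroup.normalizer (Z : Set G)) := by
    have h0 := not_dvd_relIndex_inf_of_isSubnormal T hK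
    intro hdvd
    apply h0
    have h1 := Subgroup.relIndex_mul_relIndex ((T : Subgroup G) ⊓ K)
      (K ⊓ Subgroup.normalizer (Z : Set G)) K hSK' inf_le_left
    rw [← h1]
    exact Dvd.dvd.mul_right hdvd _
  have hLK' : L ⊓ Subgroup.normalizer (Z : Set G) ≤ K ⊓ Subgroup.normalizer (Z : Set G) :=
    inf_le_inf_right _ hLK
  have hKL' : K ⊓ Subgroup.normalizer (Z : Set G) ≤
      Subgroup.normalizer ((L ⊓ Subgroup.normalizer (Z : Set G) : Subgroup G) : Set G) := by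
    intro g hg
    obtain ⟨hgK, hgN⟩ := Subgroup.mem_inf.mp hg
    exact Subgroup.inf_normalizer_le_normalizer_inf
      (Subgroup.mem_inf.mpr ⟨hKL hgK, Subgroup.le_normalizer hgN⟩)
  have hx' : x ∈ L ⊓ Subgroup.normalizer (Z : Set G) := Subgroup.mem_inf.mpr ⟨hx, hxN⟩
  have key := kieler_normal (S := (T : Subgroup G) ⊓ K) hcp hSK'
    (T.isPGroup'.to_le inf_le_left) hidx hLK' hKL' hx'
  have hinf : ((T : Subgroup G) ⊓ K) ⊓ (L ⊓ Subgroup.normalizer (Z : Set G)) =
      (T : Subgroup G) ⊓ L := by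
    apply le_antisymm
    · exact le_inf (inf_le_left.trans inf_le_left) (inf_le_right.trans inf_le_left)
    · refine le_inf (inf_le_inf_left _ hLK) (le_inf inf_le_right ?_)
      exact (inf_le_inf_left _ hLK).trans hSN
  rw [hinf] at key
  exact key

theorem kieler_local_mp [Finite G] {p : ℕ} [Fact p.Prime]
    (hG : Cfsg.IsOfLocalCharacteristic p G) (T : Sylow p G) {L : Subgroup G} (hL : L.IsSubnormal)
    {x : G} (hx : x ∈ L) (hTL : (T : Subgroup G) ⊓ L ≠ ⊥)
    (hxZ : ∀ w ∈ zOmega p ((T : Subgroup G) ⊓ L), w * x = x * w) :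
    ∀ z ∈ zOmega p (T : Subgroup G), z * x = x * z := by
  induction hL with
  | top => rwa [inf_top_eq] at hxZ
  | step L K hLK hK hN ih =>
    have hKL : K ≤ Subgroup.normalizer (L : Set G) :=
      (Subgroup.normal_subgroupOf_iff_le_normalizer hLK).mp hN
    have hTK : (T : Subgroup G) ⊓ K ≠ ⊥ := by
      intro h
      apply hTL
      rw [eq_bot_iff, ← h]
      exact inf_le_inf_left _ hLK
    apply ih (hLK hx) hTK
    have hZp : IsPGroup p (zOmega p ((T : Subgroup G) ⊓ L)) :=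
      (T.isPGroup'.to_le inf_le_left).to_le (fun z hz => (mem_zOmega.mp hz).1)
    have hZne : zOmega p ((T : Subgroup G) ⊓ L) ≠ ⊥ :=
      zOmega_ne_bot (T.isPGroup'.to_le inf_le_left) hTL
    have hSN : (T : Subgroup G) ⊓ K ≤
        Subgroup.normalizer ((zOmega p ((T : Subgroup G) ⊓ L) : Subgroup G) : Set G) := by
      refine le_trans ?_ (normalizer_le_normalizer_zOmega p ((T : Subgroup G) ⊓ L))
      intro g hg
      obtain ⟨hgT, hgK⟩ := Subgroup.mem_inf.mp hg
      exact Subgroup.inf_normalizer_le_normalizer_inf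
        (Subgroup.mem_inf.mpr ⟨Subgroup.le_normalizer hgT, hKL hgK⟩)
    have hxN : x ∈ Subgroup.normalizer ((zOmega p ((T : Subgroup G) ⊓ L) : Subgroup G) : Set G) :=
      Subgroup.centralizer_le_normalizer _ (Subgroup.mem_centralizer_iff.mpr hxZ)
    exact (kieler_local_step hG T hLK hK hKL hZp hZne hSN hx hxN).mpr hxZ

theorem kieler_local_mpr [Finite G] {p : ℕ} [Fact p.Prime]
    (hG : Cfsg.IsOfLocalCharacteristic p G) (T : Sylow p G) {L : Subgroup G} (hL : L.IsSubnormal)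
    {x : G} (hx : x ∈ L)
    (hxZ : ∀ z ∈ zOmega p (T : Subgroup G), z * x = x * z) :
    ∀ w ∈ zOmega p ((T : Subgroup G) ⊓ L), w * x = x * w := by
  induction hL with
  | top => rwa [inf_top_eq]
  | step L K hLK hK hN ih =>
    have hKL : K ≤ Subgroup.normalizer (L : Set G) :=
      (Subgroup.normal_subgroupOf_iff_le_normalizer hLK).mp hN
    have ihx := ih (hLK hx)
    by_cases hTK : (T : Subgroup G) ⊓ K = ⊥
    · have hTL : (T : Subgroup G) ⊓ L = ⊥ := by
        rw [eq_bot_iff, ← hTK]; exact inf_le_inf_left _ hLK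
      intro w hw
      have hw1 : w ∈ (T : Subgroup G) ⊓ L := (mem_zOmega.mp hw).1
      rw [hTL, Subgroup.mem_bot] at hw1
      rw [hw1, one_mul, mul_one]
    · have hZp : IsPGroup p (zOmega p ((T : Subgroup G) ⊓ K)) :=
        (T.isPGroup'.to_le inf_le_left).to_le (fun z hz => (mem_zOmega.mp hz).1)
      have hZne : zOmega p ((T : Subgroup G) ⊓ K) ≠ ⊥ :=
        zOmega_ne_bot (T.isPGroup'.to_le inf_le_left) hTK
      have hSN : (T : Subgroup G) ⊓ K ≤
          Subgroup.normalizer ((zOmega p ((T : Subgroup G) ⊓ K) : Subgroup G) : Set G) :=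
        Subgroup.le_normalizer.trans (normalizer_le_normalizer_zOmega p ((T : Subgroup G) ⊓ K))
      have hxN : x ∈
          Subgroup.normalizer ((zOmega p ((T : Subgroup G) ⊓ K) : Subgroup G) : Set G) :=
        Subgroup.centralizer_le_normalizer _ (Subgroup.mem_centralizer_iff.mpr ihx)
      exact (kieler_local_step hG T hLK hK hKL hZp hZne hSN hx hxN).mp ihx

/-- The point stabilizer of a subnormal subgroup of a group of local characteristic `p`. -/
theorem pointStabilizer_eq_ppGen [Finite G] {p : ℕ} [Fact p.Prime]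
    (hG : Cfsg.IsOfLocalCharacteristic p G) (T : Sylow p G) {L : Subgroup G}
    (hL : L.IsSubnormal) :
    Cfsg.pointStabilizer p L ((T : Subgroup G) ⊓ L) =
      ppGen p (L ⊓ Subgroup.centralizer ((zOmega p (T : Subgroup G) : Subgroup G) : Set G)) := by
  unfold Cfsg.pointStabilizer ppGen
  congr 1
  ext x
  constructor
  · rintro ⟨hxm, k, hk⟩
    obtain ⟨hxL, hxC⟩ := Subgroup.mem_inf.mp hxm
    refine ⟨Subgroup.mem_inf.mpr ⟨hxL, ?_⟩, k, hk⟩
    rw [Subgroup.mem_centralizer_iff]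
    rw [mem_centralizer_omegaOne_center] at hxC
    by_cases hTL : (T : Subgroup G) ⊓ L = ⊥
    · have h0 := not_dvd_relIndex_inf_of_isSubnormal T hL
      rw [hTL, Subgroup.relIndex_bot_left] at h0
      have h1 : orderOf x ∣ Nat.card ↥L := by
        have := orderOf_dvd_natCard (⟨x, hxL⟩ : ↥L)
        rwa [Subgroup.orderOf_mk] at this
      have hk0 : k = 0 := by
        by_contra hk0
        exact h0 ((dvd_pow_self p hk0).trans (by rw [← hk]; exact h1))
      have hx1 : x = 1 := by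
        rw [hk0, pow_zero] at hk
        exact orderOf_eq_one_iff.mp hk
      intro z _
      rw [hx1, mul_one, one_mul]
    · exact kieler_local_mp hG T hL hxL hTL hxC
  · rintro ⟨hxm, k, hk⟩
    obtain ⟨hxL, hxC⟩ := Subgroup.mem_inf.mp hxm
    refine ⟨Subgroup.mem_inf.mpr ⟨hxL, ?_⟩, k, hk⟩
    rw [mem_centralizer_omegaOne_center]
    exact kieler_local_mpr hG T hL hxL (Subgroup.mem_centralizer_iff.mp hxC)

theorem mem_ppGen_sup_of_sylow [Finite G] {p : ℕ} [Fact p.Prime] {M₁ M₂ S₁ S₂ : Subgroup G}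
    (h₁ : M₁.IsSubnormal) (h₂ : M₂.IsSubnormal) (hS₁ : IsPGroup p S₁) (hS₂ : IsPGroup p S₂)
    (hSM₁ : S₁ ≤ M₁) (hSM₂ : S₂ ≤ M₂) (hidx : ¬ p ∣ (S₁ ⊔ S₂).index) {y : G} {k : ℕ}
    (hy : orderOf y = p ^ k) : y ∈ ppGen p M₁ ⊔ ppGen p M₂ := by
  have hB : (ppGen p M₁ ⊔ ppGen p M₂).IsSubnormal :=
    Cfsg.Agent.S0538.result _ _ (ppGen_isSubnormal p h₁) (ppGen_isSubnormal p h₂)
  have hle : S₁ ⊔ S₂ ≤ ppGen p M₁ ⊔ ppGen p M₂ := by
    apply sup_le_sup
    · intro s hs
      obtain ⟨j, hj⟩ := (IsPGroup.iff_orderOf.mp hS₁) ⟨s, hs⟩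
      rw [Subgroup.orderOf_mk] at hj
      exact mem_ppGen (hSM₁ hs) hj
    · intro s hs
      obtain ⟨j, hj⟩ := (IsPGroup.iff_orderOf.mp hS₂) ⟨s, hs⟩
      rw [Subgroup.orderOf_mk] at hj
      exact mem_ppGen (hSM₂ hs) hj
  exact mem_of_isSubnormal_of_sylow_le hB hle hidx hy

theorem ppGen_sup_le [Finite G] {p : ℕ} [Fact p.Prime] (T : Sylow p G) (L₁ L₂ C : Subgroup G)
    (h₁ : L₁.IsSubnormal) (h₂ : L₂.IsSubnormal) (hTC : (T : Subgroup G) ≤ C) :
    ppGen p ((L₁ ⊔ L₂) ⊓ C) ≤ ppGen p (L₁ ⊓ C) ⊔ ppGen p (L₂ ⊓ C) := by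
  have h12 : (L₁ ⊔ L₂).IsSubnormal := Cfsg.Agent.S0538.result L₁ L₂ h₁ h₂
  have h28 := Cfsg.Agent.S3028.result T L₁ L₂ h₁ h₂
  obtain ⟨X, hX⟩ : ∃ X : Subgroup G, X = (L₁ ⊔ L₂) ⊓ C := ⟨_, rfl⟩
  have hXL : X ≤ L₁ ⊔ L₂ := hX ▸ inf_le_left
  have hXC : X ≤ C := hX ▸ inf_le_right
  have hTX : (L₁ ⊔ L₂) ⊓ (T : Subgroup G) ≤ X := by
    rw [hX]; exact inf_le_inf_left _ hTC
  rw [← hX, ppGen_le_iff]
  intro x hxX k hk
  have hle1 : L₁ ⊓ (T : Subgroup G) ≤ X := (inf_le_inf_right _ le_sup_left).trans hTX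
  have hle2 : L₂ ⊓ (T : Subgroup G) ≤ X := (inf_le_inf_right _ le_sup_right).trans hTX
  have hidx : ¬ p ∣ ((L₁ ⊓ (T : Subgroup G)).subgroupOf X ⊔
      (L₂ ⊓ (T : Subgroup G)).subgroupOf X).index := by
    rw [← Subgroup.subgroupOf_sup hle1 hle2, ← h28]
    have h0 := not_dvd_relIndex_inf_of_isSubnormal T h12
    rw [inf_comm] at h0
    intro hdvd
    apply h0
    have h1 := Subgroup.relIndex_mul_relIndex ((L₁ ⊔ L₂) ⊓ (T : Subgroup G)) X (L₁ ⊔ L₂) hTX hXL
    rw [← h1]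
    exact Dvd.dvd.mul_right hdvd _
  have hy : orderOf (⟨x, hxX⟩ : ↥X) = p ^ k := by rw [Subgroup.orderOf_mk]; exact hk
  have hmem : (⟨x, hxX⟩ : ↥X) ∈ ppGen p (L₁.subgroupOf X) ⊔ ppGen p (L₂.subgroupOf X) :=
    mem_ppGen_sup_of_sylow (S₁ := (L₁ ⊓ (T : Subgroup G)).subgroupOf X)
      (S₂ := (L₂ ⊓ (T : Subgroup G)).subgroupOf X) h₁.subgroupOf h₂.subgroupOf
      (T.isPGroup'.to_le inf_le_right).comap_subtype (T.isPGroup'.to_le inf_le_right).comap_subtype
      (fun y hy => Subgroup.mem_subgroupOf.mpr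
        (Subgroup.mem_inf.mp (Subgroup.mem_subgroupOf.mp hy)).1)
      (fun y hy => Subgroup.mem_subgroupOf.mpr
        (Subgroup.mem_inf.mp (Subgroup.mem_subgroupOf.mp hy)).1) hidx hy
  have hle : ppGen p (L₁.subgroupOf X) ⊔ ppGen p (L₂.subgroupOf X) ≤
      (ppGen p (L₁ ⊓ C) ⊔ ppGen p (L₂ ⊓ C)).subgroupOf X := by
    apply sup_le
    · intro w hw
      have hw1 := ppGen_subgroupOf_le p L₁ X hw
      exact Subgroup.mem_subgroupOf.mpr (Subgroup.mem_sup_left
        (ppGen_mono p (inf_le_inf_left _ hXC) (Subgroup.mem_subgroupOf.mp hw1)))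
    · intro w hw
      have hw1 := ppGen_subgroupOf_le p L₂ X hw
      exact Subgroup.mem_subgroupOf.mpr (Subgroup.mem_sup_right
        (ppGen_mono p (inf_le_inf_left _ hXC) (Subgroup.mem_subgroupOf.mp hw1)))
  exact Subgroup.mem_subgroupOf.mp (hle hmem)

/-- Point stabilizers of the join of two subnormal subgroups (local characteristic `p`). -/
theorem pointStabilizer_sup [Finite G] {p : ℕ} [Fact p.Prime]
    (hG : Cfsg.IsOfLocalCharacteristic p G) (T : Sylow p G) (L₁ L₂ : Subgroup G)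
    (h₁ : L₁.IsSubnormal) (h₂ : L₂.IsSubnormal) :
    Cfsg.pointStabilizer p (L₁ ⊔ L₂) ((T : Subgroup G) ⊓ (L₁ ⊔ L₂)) =
      Cfsg.pointStabilizer p L₁ ((T : Subgroup G) ⊓ L₁) ⊔
        Cfsg.pointStabilizer p L₂ ((T : Subgroup G) ⊓ L₂) := by
  have h12 : (L₁ ⊔ L₂).IsSubnormal := Cfsg.Agent.S0538.result L₁ L₂ h₁ h₂
  rw [pointStabilizer_eq_ppGen hG T h12, pointStabilizer_eq_ppGen hG T h₁,
    pointStabilizer_eq_ppGen hG T h₂]
  have hTC : (T : Subgroup G) ≤
      Subgroup.centralizer ((zOmega p (T : Subgroup G) : Subgroup G) : Set G) := by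
    intro t ht
    rw [Subgroup.mem_centralizer_iff]
    intro z hz
    exact ((mem_zOmega.mp hz).2.1 t ht).symm
  apply le_antisymm
  · exact ppGen_sup_le T L₁ L₂ _ h₁ h₂ hTC
  · apply sup_le
    · exact ppGen_mono p (inf_le_inf_right _ le_sup_left)
    · exact ppGen_mono p (inf_le_inf_right _ le_sup_right)

end PointStab

end Cfsg.Agent.Lib.Helper50
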